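import Groth.Prelude.Def_EtRam
import Mathlib.Tactic

/-! Extensions of discrete valuation rings: ramification index. -/

universe u

namespace Groth.Agent.EtRamLib

open IsLocalRing

variable {A B : Type u} [CommRing A] [IsDomain A] [IsDiscreteValuationRing A]
  [CommRing B] [IsDomain B] [IsDiscreteValuationRing B] [Algebra A B]
  [IsLocalHom (algebraMap A B)]

/-- The image of a uniformizer is a positive power of a uniformizer, up to a unit, and the
exponent is the ramification index. -/
lemma exists_ramificationIdx (hinj : Function.Injective (algebraMap A B)) {π : A} (hπ : Irreducible π)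
    {ϖ : B} (hϖ : Irreducible ϖ) :
    ∃ (e : ℕ) (u : Bˣ), 0 < e ∧ algebraMap A B π = u * ϖ ^ e ∧
      Ideal.ramificationIdx' (maximalIdeal A) (maximalIdeal B) = e := by
  have h0 : algebraMap A B π ≠ 0 := (map_ne_zero_iff _ hinj).mpr hπ.ne_zero
  obtain ⟨e, u, hu⟩ := IsDiscreteValuationRing.eq_unit_mul_pow_irreducible h0 hϖ
  have he : 0 < e := by
    rcases Nat.eq_zero_or_pos e with rfl | h
    · exfalso
      have : IsUnit (algebraMap A B π) := by rw [hu, pow_zero, mul_one]; exact u.isUnit
      exact hπ.not_isUnit (isUnit_of_map_unit (algebraMap A B) π this)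
    · exact h
  refine ⟨e, u, he, hu, ?_⟩
  have hmap : (maximalIdeal A).map (algebraMap A B) = maximalIdeal B ^ e := by
    rw [hπ.maximalIdeal_eq, hϖ.maximalIdeal_eq, Ideal.map_span, Set.image_singleton,
      Ideal.span_singleton_pow, hu, mul_comm, Ideal.span_singleton_mul_right_unit u.isUnit]
  refine Ideal.ramificationIdx'_spec hmap.le ?_
  rw [hmap, hϖ.maximalIdeal_eq, Ideal.span_singleton_pow, Ideal.span_singleton_pow,
    Ideal.span_singleton_le_span_singleton]
  intro h
  exact absurd ((pow_dvd_pow_iff hϖ.ne_zero hϖ.not_isUnit).mp h) (by omega)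

/-- A nonzero element of `A` has valuation in `B` a multiple of the ramification index. -/
lemma exists_pow_eq_of_map {π : A} (hπ : Irreducible π)
    {ϖ : B} {e : ℕ} {u : Bˣ} (hu : algebraMap A B π = u * ϖ ^ e) {a : A} (ha : a ≠ 0) :
    ∃ (m : ℕ) (w : Bˣ), algebraMap A B a = w * ϖ ^ (e * m) := by
  obtain ⟨m, v, hv⟩ := IsDiscreteValuationRing.eq_unit_mul_pow_irreducible ha hπ
  refine ⟨m, Units.map (algebraMap A B : A →* B) v * u ^ m, ?_⟩
  rw [hv, map_mul, map_pow, hu, mul_pow, ← pow_mul, Units.val_mul, Units.val_pow_eq_pow_val, Units.coe_map]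
  simp [mul_assoc]

end Groth.Agent.EtRamLib
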