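import Mathlib
import Groth.Prelude.Def_EtRam
import Groth.Agent.EtRamLib.Basic

/-!
# Towers of valuation rings above a discrete valuation ring
-/

namespace Groth.Agent.EtRamLib.ValTower

open IsLocalRing

universe u

lemma mem_of_isIntegral {A L : Type u} [CommRing A] [Field L] [Algebra A L] (V : ValuationSubring L)
    (hA : ∀ a : A, algebraMap A L a ∈ V) {z : L} (hz : IsIntegral A z) : z ∈ V := by
  letI : Algebra A V := ((algebraMap A L).codRestrict V hA).toAlgebra
  haveI : IsScalarTower A V L := IsScalarTower.of_algebraMap_eq fun _ ↦ rfl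
  obtain ⟨y, rfl⟩ := (IsIntegrallyClosed.isIntegral_iff (R := V) (K := L)).1 hz.tower_top
  exact y.2

/-- A valuation ring of a finite separable extension dominating a discrete valuation ring is the
localization of the integral closure at its centre. -/
theorem isLocalization_of_dominates (A K : Type u) [CommRing A] [IsDomain A]
    [IsDiscreteValuationRing A] [Field K] [Algebra A K] [IsFractionRing A K] (L : Type u) [Field L]
    [Algebra K L] [FiniteDimensional K L] [Algebra.IsSeparable K L]
    (V : ValuationSubring L)
    (hV : EtRam.Dominates A ((algebraMap K L).comp (algebraMap A K)) V) :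
    letI : Algebra A L := ((algebraMap K L).comp (algebraMap A K)).toAlgebra
    ∀ hBV : ∀ b : integralClosure A L, (b : L) ∈ V,
    letI : Algebra (integralClosure A L) V := (((integralClosure A L).val).toRingHom.codRestrict V hBV).toAlgebra
    (maximalIdeal V).comap (algebraMap (integralClosure A L) V) ≠ ⊥ ∧
      IsLocalization.AtPrime V ((maximalIdeal V).comap (algebraMap (integralClosure A L) V)) := by
  letI : Algebra A L := ((algebraMap K L).comp (algebraMap A K)).toAlgebra
  haveI : IsScalarTower A K L := IsScalarTower.of_algebraMap_eq fun _ ↦ rfl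
  intro hBV
  set B := integralClosure A L
  letI : Algebra B V := ((B.val).toRingHom.codRestrict V hBV).toAlgebra
  have hval : ∀ b : B, ((algebraMap B V b : V) : L) = b := fun b ↦ rfl
  haveI : IsDedekindDomain B := IsIntegralClosure.isDedekindDomain A K L B
  haveI : IsFractionRing B L := integralClosure.isFractionRing_of_finite_extension K L
  set P := (maximalIdeal V).comap (algebraMap B V) with hP
  have hP0 : P ≠ ⊥ := by
    obtain ⟨π, hπ⟩ := IsDiscreteValuationRing.exists_irreducible A
    refine fun h ↦ (map_ne_zero_iff _ (IsFractionRing.injective A K)).2 hπ.ne_zero ?_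
    have : algebraMap A B π ∈ P := by
      rw [hP, Ideal.mem_comap]
      exact (ValuationSubring.valuation_lt_one_iff V _).2
        (hV.2 π (hπ.maximalIdeal_eq ▸ Ideal.mem_span_singleton_self π))
    rw [h, Ideal.mem_bot] at this
    apply (algebraMap K L).injective
    rw [map_zero]
    exact congrArg Subtype.val this
  haveI hloc : IsLocalization.AtPrime V P := by
    refine (isLocalization_iff _ _).2 ⟨?_, fun z ↦ ?_, fun {x y} h ↦ ⟨1, ?_⟩⟩
    · rintro ⟨b, hb⟩
      exact not_not.1 fun hu ↦ hb hu
    · haveI : IsDiscreteValuationRing (Localization.AtPrime P) :=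
        IsLocalization.AtPrime.isDiscreteValuationRing_of_dedekind_domain B hP0 _
      obtain ⟨b₁, b₂, hb₂, hz⟩ := IsFractionRing.div_surjective B (z : L)
      have hb₂0 : (b₂ : L) ≠ 0 := fun h ↦ nonZeroDivisors.ne_zero hb₂ (Subtype.ext h)
      have hzb : (z : L) * b₂ = b₁ := by rw [← hz]; exact div_mul_cancel₀ _ hb₂0
      rcases ValuationRing.dvd_total (algebraMap B (Localization.AtPrime P) b₂)
        (algebraMap B (Localization.AtPrime P) b₁) with ⟨c, hc⟩ | ⟨c, hc⟩
      · obtain ⟨x, s, rfl⟩ := IsLocalization.exists_mk'_eq P.primeCompl c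
        rw [IsLocalization.mul_mk'_eq_mk'_of_mul, IsLocalization.eq_mk'_iff_mul_eq,
          ← map_mul] at hc
        have hc' := congrArg Subtype.val (IsLocalization.injective (Localization.AtPrime P)
          P.primeCompl_le_nonZeroDivisors hc)
        simp only [MulMemClass.coe_mul] at hc'
        refine ⟨(x, s), Subtype.ext (mul_left_cancel₀ hb₂0 ?_)⟩
        rw [MulMemClass.coe_mul, hval, hval]
        linear_combination ((s : B) : L) * hzb + hc'
      · obtain ⟨x, s, rfl⟩ := IsLocalization.exists_mk'_eq P.primeCompl c
        rw [IsLocalization.mul_mk'_eq_mk'_of_mul, IsLocalization.eq_mk'_iff_mul_eq,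
          ← map_mul] at hc
        have hc' := congrArg Subtype.val (IsLocalization.injective (Localization.AtPrime P)
          P.primeCompl_le_nonZeroDivisors hc)
        simp only [MulMemClass.coe_mul] at hc'
        have hsx : ((s : B) : L) = (z : L) * (x : L) :=
          mul_left_cancel₀ hb₂0 (by linear_combination hc' - (x : L) * hzb)
        have hx : x ∈ P.primeCompl := fun hx ↦ s.2 (by
          have : algebraMap B V (s : B) = z * algebraMap B V x := Subtype.ext hsx
          change algebraMap B V (s : B) ∈ maximalIdeal V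
          rw [this]
          exact Ideal.mul_mem_left _ _ hx)
        exact ⟨(s, ⟨x, hx⟩), Subtype.ext hsx.symm⟩
    · exact congrArg (((1 : P.primeCompl) : B) * ·) (Subtype.ext (congrArg (fun v : V ↦ (v : L)) h))
  exact ⟨hP0, hloc⟩

/-- The algebra structure of a valuation ring over the integral closure. -/
theorem exists_algebra_integralClosure (A K : Type u) [CommRing A] [IsDomain A]
    [IsDiscreteValuationRing A] [Field K] [Algebra A K] (L : Type u) [Field L]
    [Algebra K L] [Algebra A L] [IsScalarTower A K L] (V : ValuationSubring L)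
    (hV : EtRam.Dominates A ((algebraMap K L).comp (algebraMap A K)) V) (b : integralClosure A L) :
    (b : L) ∈ V :=
  mem_of_isIntegral V (fun a ↦ by
    rw [IsScalarTower.algebraMap_apply A K L]; exact hV.1 a) b.2

/-- A valuation ring of a finite separable extension dominating a discrete valuation ring is one. -/
theorem isDiscreteValuationRing_of_dominates (A K : Type u) [CommRing A] [IsDomain A]
    [IsDiscreteValuationRing A] [Field K] [Algebra A K] [IsFractionRing A K] (L : Type u) [Field L]
    [Algebra K L] [FiniteDimensional K L] [Algebra.IsSeparable K L] (V : ValuationSubring L)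
    (hV : EtRam.Dominates A ((algebraMap K L).comp (algebraMap A K)) V) :
    IsDiscreteValuationRing V := by
  letI : Algebra A L := ((algebraMap K L).comp (algebraMap A K)).toAlgebra
  haveI : IsScalarTower A K L := IsScalarTower.of_algebraMap_eq fun _ ↦ rfl
  letI : Algebra (integralClosure A L) V := (((integralClosure A L).val).toRingHom.codRestrict V
    (exists_algebra_integralClosure A K L V hV)).toAlgebra
  haveI : IsDedekindDomain (integralClosure A L) := IsIntegralClosure.isDedekindDomain A K L _
  obtain ⟨hP0, hloc⟩ := isLocalization_of_dominates A K L V hV (exists_algebra_integralClosure A K L V hV)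
  exact IsLocalization.AtPrime.isDiscreteValuationRing_of_dedekind_domain (integralClosure A L) hP0 V

/-- An extension with formally unramified integral closure is unramified. -/
theorem isUnramifiedExt_of_formallyUnramified (A K : Type u) [CommRing A] [IsDomain A]
    [IsDiscreteValuationRing A] [Field K] [Algebra A K] [IsFractionRing A K] (L : Type u) [Field L]
    [Algebra K L] [FiniteDimensional K L] [Algebra.IsSeparable K L] [Algebra A L] [IsScalarTower A K L]
    [Algebra.FormallyUnramified A (integralClosure A L)] :
    EtRam.IsUnramifiedExt A ((algebraMap K L).comp (algebraMap A K)) := by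
  obtain rfl : ‹Algebra A L› = ((algebraMap K L).comp (algebraMap A K)).toAlgebra :=
    Algebra.algebra_ext _ _ fun a ↦ IsScalarTower.algebraMap_apply A K L a
  letI : Algebra A L := ((algebraMap K L).comp (algebraMap A K)).toAlgebra
  haveI : IsScalarTower A K L := IsScalarTower.of_algebraMap_eq fun _ ↦ rfl
  intro V hV
  intro _
  set B := integralClosure A L
  letI : Algebra B V := ((B.val).toRingHom.codRestrict V
    (exists_algebra_integralClosure A K L V hV)).toAlgebra
  obtain ⟨-, hloc⟩ := isLocalization_of_dominates A K L V hV (exists_algebra_integralClosure A K L V hV)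
  letI : Algebra A V := (RingHom.codRestrict ((algebraMap K L).comp (algebraMap A K)) V hV.1).toAlgebra
  haveI : IsScalarTower A B V := IsScalarTower.of_algebraMap_eq fun a ↦
    Subtype.ext (IsScalarTower.algebraMap_apply A K L a).symm
  haveI : Module.Finite A B := IsIntegralClosure.finite A K L B
  set P := (maximalIdeal V).comap (algebraMap B V)
  haveI : Algebra.FormallyUnramified B V := Algebra.FormallyUnramified.of_isLocalization P.primeCompl
  haveI : Algebra.FormallyUnramified A V := Algebra.FormallyUnramified.comp A B V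
  haveI : Algebra.EssFiniteType B V := Algebra.EssFiniteType.of_isLocalization V P.primeCompl
  haveI : Algebra.EssFiniteType A V := Algebra.EssFiniteType.comp A B V
  exact ⟨Algebra.FormallyUnramified.map_maximalIdeal, inferInstance⟩

/-- Splitting a domination along an intermediate field. -/
theorem dominates_tower (A K L M : Type u) [CommRing A] [IsDomain A] [IsDiscreteValuationRing A]
    [Field K] [Algebra A K] [Field L] [Field M] [Algebra K L] [Algebra K M] [Algebra L M]
    [IsScalarTower K L M] (W : ValuationSubring M)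
    (hW : EtRam.Dominates A ((algebraMap K M).comp (algebraMap A K)) W) :
    EtRam.Dominates A ((algebraMap K L).comp (algebraMap A K)) (W.comap (algebraMap L M)) ∧
      EtRam.Dominates (W.comap (algebraMap L M))
        ((algebraMap L M).comp (W.comap (algebraMap L M)).subtype) W := by
  have key : ∀ x : W.comap (algebraMap L M),
      x ∈ maximalIdeal _ ↔ W.valuation (algebraMap L M x) < 1 := fun x ↦ by
    rw [← (show ((EtRam.inclOfComap W (algebraMap L M) x : W) : M) = algebraMap L M x from rfl),
      ← W.valuation_lt_one_iff]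
    exact ⟨fun hx hu ↦ hx (isUnit_of_map_unit (EtRam.inclOfComap W (algebraMap L M)) x hu),
      fun hx hu ↦ hx (hu.map _)⟩
  have heq : ∀ a : A, algebraMap K M (algebraMap A K a) = algebraMap L M (algebraMap K L (algebraMap A K a)) :=
    fun a ↦ IsScalarTower.algebraMap_apply K L M _
  have h1 : ∀ a : A, (algebraMap K L).comp (algebraMap A K) a ∈ W.comap (algebraMap L M) := fun a ↦ by
    change algebraMap L M _ ∈ W
    rw [RingHom.comp_apply, ← heq]
    exact hW.1 a
  refine ⟨⟨h1, fun a ha ↦ ?_⟩, ⟨fun x ↦ x.2, fun x hx ↦ (key x).1 hx⟩⟩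
  refine ((W.comap (algebraMap L M)).valuation_lt_one_iff ⟨_, h1 a⟩).1 ((key _).2 ?_)
  change W.valuation (algebraMap L M (algebraMap K L (algebraMap A K a))) < 1
  rw [← heq]
  exact hW.2 a ha

/-- Domination extends along an extension of fields. -/
theorem exists_extension (A : Type u) [CommRing A] [IsLocalRing A] {L M : Type u} [Field L] [Field M]
    [Algebra L M] (gL : A →+* L) (V : ValuationSubring L) (hV : EtRam.Dominates A gL V) :
    ∃ W : ValuationSubring M, EtRam.Dominates A ((algebraMap L M).comp gL) W ∧
      W.comap (algebraMap L M) = V := by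
  let f : V →+* M := (algebraMap L M).comp V.subtype
  have hf : Function.Injective f := (algebraMap L M).injective.comp Subtype.val_injective
  obtain ⟨W, hle, hnu⟩ := Ideal.image_subset_nonunits_valuationSubring (A := f.range)
    ((maximalIdeal V).map f.rangeRestrict) (by
      intro htop
      refine (IsLocalRing.maximalIdeal.isMaximal V).ne_top ?_
      rw [← Ideal.comap_map_of_bijective f.rangeRestrict
        ⟨fun a b h ↦ hf (congrArg Subtype.val h), f.rangeRestrict_surjective⟩ (I := maximalIdeal V), htop,
        Ideal.comap_top])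
  have h1 : ∀ x : V, algebraMap L M (x : L) ∈ W := fun x ↦ hle ⟨x, rfl⟩
  have h2 : ∀ x ∈ maximalIdeal V, W.valuation (algebraMap L M ((x : V) : L)) < 1 := fun x hx ↦
    (ValuationSubring.mem_nonunits_iff W).1 (hnu ⟨f.rangeRestrict x, Ideal.mem_map_of_mem _ hx, rfl⟩)
  refine ⟨W, ⟨fun a ↦ h1 ⟨_, hV.1 a⟩, fun a ha ↦ h2 ⟨_, hV.1 a⟩
    ((V.valuation_lt_one_iff _).2 (hV.2 a ha))⟩, le_antisymm (fun x hx ↦ ?_) fun x hx ↦ h1 ⟨x, hx⟩⟩
  by_contra hxV
  have hx0 : x ≠ 0 := fun h0 ↦ hxV (h0 ▸ zero_mem _)
  have hinv : x⁻¹ ∈ V := (V.mem_or_inv_mem x).resolve_left hxV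
  have hlt := h2 ⟨x⁻¹, hinv⟩ fun hu ↦ hxV (by
    obtain ⟨v, hv⟩ := hu
    have := congrArg Subtype.val v.mul_inv
    rw [MulMemClass.coe_mul, hv] at this
    have h3 := eq_inv_of_mul_eq_one_right (this : x⁻¹ * _ = 1)
    rw [inv_inv] at h3
    exact h3 ▸ (↑v⁻¹ : V).2)
  have hle1 : W.valuation (algebraMap L M x) ≤ 1 := (W.valuation_le_one_iff _).2 hx
  have hmul : W.valuation (algebraMap L M x) * W.valuation (algebraMap L M x⁻¹) = 1 := by
    rw [← map_mul, ← map_mul, mul_inv_cancel₀ hx0, map_one, map_one]
  exact absurd hmul (ne_of_lt ((mul_le_of_le_one_left' hle1).trans_lt hlt))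

lemma algebraMap_injective_of_dominates {A K L : Type u} [CommRing A] [IsLocalRing A] [Field K]
    [Algebra A K] [IsFractionRing A K] [Field L] [Algebra K L] (V : ValuationSubring L)
    (h : EtRam.Dominates A ((algebraMap K L).comp (algebraMap A K)) V) :
    Function.Injective (((algebraMap K L).comp (algebraMap A K)).codRestrict V h.1) :=
  fun _ _ hab ↦ IsFractionRing.injective A K ((algebraMap K L).injective (congrArg Subtype.val hab))

lemma isLocalHom_of_dominates {A L : Type u} [CommRing A] [IsLocalRing A] [Field L] {g : A →+* L}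
    (V : ValuationSubring L) (h : EtRam.Dominates A g V) : IsLocalHom (g.codRestrict V h.1) := by
  refine ⟨fun a ha ↦ ?_⟩
  by_contra hna
  exact absurd ha (IsLocalRing.mem_maximalIdeal _ |>.1
    ((V.valuation_lt_one_iff _).2 (h.2 a ((IsLocalRing.mem_maximalIdeal a).2 hna))))

section Tower

variable (A V W : Type u) [CommRing A] [IsDomain A] [IsDiscreteValuationRing A]
  [CommRing V] [IsDomain V] [IsDiscreteValuationRing V]
  [CommRing W] [IsDomain W] [IsDiscreteValuationRing W]
  [Algebra A V] [Algebra A W] [Algebra V W] [IsScalarTower A V W]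
  [IsLocalHom (algebraMap A V)] [IsLocalHom (algebraMap A W)] [IsLocalHom (algebraMap V W)]

theorem ramificationIdx'_tower (hAV : Function.Injective (algebraMap A V))
    (hVW : Function.Injective (algebraMap V W)) :
    Ideal.ramificationIdx' (maximalIdeal A) (maximalIdeal W) =
      Ideal.ramificationIdx' (maximalIdeal A) (maximalIdeal V) *
        Ideal.ramificationIdx' (maximalIdeal V) (maximalIdeal W) := by
  obtain ⟨π, hπ⟩ := IsDiscreteValuationRing.exists_irreducible A
  obtain ⟨ϖ, hϖ⟩ := IsDiscreteValuationRing.exists_irreducible V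
  obtain ⟨η, hη⟩ := IsDiscreteValuationRing.exists_irreducible W
  have hAW : Function.Injective (algebraMap A W) := by
    rw [IsScalarTower.algebraMap_eq A V W]; exact hVW.comp hAV
  obtain ⟨e₁, u₁, -, h₁, r₁⟩ := exists_ramificationIdx hAV hπ hϖ
  obtain ⟨e₂, u₂, -, h₂, r₂⟩ := exists_ramificationIdx hVW hϖ hη
  obtain ⟨e, u, -, h, r⟩ := exists_ramificationIdx hAW hπ hη
  rw [r₁, r₂, r]
  rw [IsScalarTower.algebraMap_apply A V W, h₁, map_mul, map_pow, h₂, mul_pow, ← pow_mul,
    ← mul_assoc, mul_comm e₂ e₁] at h
  have hU : IsUnit (algebraMap V W (u₁ : V) * (u₂ : W) ^ e₁) :=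
    (u₁.isUnit.map _).mul (u₂.isUnit.pow _)
  obtain ⟨U, hU⟩ := hU
  rw [← hU] at h
  exact (IsDiscreteValuationRing.unit_mul_pow_congr_pow hη hη U u _ _ h).symm

theorem isWeaklyUnramified_iff (hAV : Function.Injective (algebraMap A V)) :
    EtRam.IsWeaklyUnramified A V ↔ Ideal.ramificationIdx' (maximalIdeal A) (maximalIdeal V) = 1 := by
  obtain ⟨π, hπ⟩ := IsDiscreteValuationRing.exists_irreducible A
  obtain ⟨ϖ, hϖ⟩ := IsDiscreteValuationRing.exists_irreducible V
  obtain ⟨e, u, -, h, r⟩ := exists_ramificationIdx hAV hπ hϖ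
  have hmap : (maximalIdeal A).map (algebraMap A V) = Ideal.span {ϖ ^ e} := by
    rw [hπ.maximalIdeal_eq, Ideal.map_span, Set.image_singleton, h, mul_comm,
      Ideal.span_singleton_mul_right_unit u.isUnit]
  rw [r, EtRam.IsWeaklyUnramified, hmap, hϖ.maximalIdeal_eq]
  constructor
  · intro he
    obtain ⟨v, hv⟩ := Ideal.span_singleton_eq_span_singleton.1 he
    refine IsDiscreteValuationRing.unit_mul_pow_congr_pow hϖ hϖ v 1 e 1 ?_
    rw [Units.val_one, one_mul, pow_one, mul_comm, hv]
  · rintro rfl
    rw [pow_one]

theorem residue_tower : IsScalarTower (ResidueField A) (ResidueField V) (ResidueField W) :=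
  IsScalarTower.of_algebraMap_eq fun x ↦ by
    obtain ⟨a, rfl⟩ := IsLocalRing.residue_surjective x
    simp only [ResidueField.algebraMap_residue, IsScalarTower.algebraMap_apply A V W]

end Tower

end Groth.Agent.EtRamLib.ValTower
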