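import Mathlib
import Groth.Prelude.Def_EtRam
import Groth.Agent.EtRamLib.ValTower

/-!
# Eisenstein polynomials over a discrete valuation ring
-/

namespace Groth.Agent.EtRamLib.Eisenstein

open Polynomial

universe u

theorem totallyRamified (A : Type u) [CommRing A] [IsDomain A] [IsDiscreteValuationRing A] (π : A)
    (hπ : Irreducible π) (f : A[X]) (hfm : f.Monic) (hE : f.IsEisensteinAt (Ideal.span {π}))
    (n : ℕ) (hdeg : f.natDegree = n) (hn : 0 < n) :
    Irreducible f ∧
    ∃ (_ : IsDomain (AdjoinRoot f)) (_ : IsDiscreteValuationRing (AdjoinRoot f)),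
      IsLocalRing.maximalIdeal (AdjoinRoot f) = Ideal.span {AdjoinRoot.root f} ∧
      (∃ s : AdjoinRoot f, IsUnit s ∧ AdjoinRoot.root f ^ n = algebraMap A (AdjoinRoot f) π * s) ∧
      ∀ (K₁ : Type u) [Field K₁] [Algebra (AdjoinRoot f) K₁] [IsFractionRing (AdjoinRoot f) K₁],
        EtRam.IsTotallyRamified A ((algebraMap (AdjoinRoot f) K₁).comp (algebraMap A (AdjoinRoot f))) := by
  classical
  have hmax : IsLocalRing.maximalIdeal A = Ideal.span {π} := (IsDiscreteValuationRing.irreducible_iff_uniformizer π).mp hπ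
  have hprime : (Ideal.span {π}).IsPrime := by rw [← hmax]; infer_instance
  have hirr : Irreducible f := hE.irreducible hprime hfm.isPrimitive (by omega)
  refine ⟨hirr, ?_⟩
  haveI hdom : IsDomain (AdjoinRoot f) := AdjoinRoot.isDomain_of_prime (UniqueFactorizationMonoid.irreducible_iff_prime.mp hirr)
  set D := AdjoinRoot f
  set x : D := AdjoinRoot.root f with hx
  haveI : Module.Finite A D := hfm.finite_adjoinRoot
  haveI : IsNoetherianRing D := IsNoetherianRing.of_finite A D
  obtain ⟨s, hxn, hs0⟩ : ∃ s : D, x ^ n = algebraMap A D π * s ∧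
      ∃ (c : A) (z : D), s = algebraMap A D c + x * z ∧ IsUnit c := by
    have h0 : aeval x f = 0 := by rw [hx, AdjoinRoot.aeval_eq, AdjoinRoot.mk_self]
    rw [aeval_eq_sum_range, hdeg, Finset.sum_range_succ, ← hdeg, hfm.coeff_natDegree, one_smul, hdeg] at h0
    choose c hc using fun i : Fin n ↦ Ideal.mem_span_singleton.1
      (hE.mem (by rw [hdeg]; exact i.2) : f.coeff i ∈ Ideal.span {π})
    refine ⟨-∑ i : Fin n, algebraMap A D (c i) * x ^ (i : ℕ), ?_, -c ⟨0, hn⟩,
      -∑ i : Fin n, if (i : ℕ) = 0 then 0 else algebraMap A D (c i) * x ^ ((i : ℕ) - 1), ?_, ?_⟩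
    · rw [eq_comm, ← sub_eq_zero, ← neg_eq_zero, ← h0, Finset.sum_range, mul_neg, neg_sub, sub_neg_eq_add,
        Finset.mul_sum, add_comm]
      congr 1
      refine Finset.sum_congr rfl fun i _ ↦ ?_
      rw [hc i, Algebra.smul_def, map_mul, mul_assoc]
    · rw [map_neg, mul_neg, ← neg_add, neg_inj, Finset.mul_sum]
      have key : ∀ i : Fin n, algebraMap A D (c i) * x ^ (i : ℕ) =
          (if i = ⟨0, hn⟩ then algebraMap A D (c i) else 0) +
            x * (if (i : ℕ) = 0 then 0 else algebraMap A D (c i) * x ^ ((i : ℕ) - 1)) := by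
        intro i
        rcases Nat.eq_zero_or_pos (i : ℕ) with h | h
        · rw [if_pos h, if_pos (Fin.ext h), h, pow_zero, mul_one, mul_zero, add_zero]
        · rw [if_neg h.ne', if_neg (fun he ↦ h.ne' (congrArg Fin.val he)), zero_add]
          conv_lhs => rw [← Nat.sub_add_cancel h, pow_succ]
          ring
      rw [Finset.sum_congr rfl fun i _ ↦ key i, Finset.sum_add_distrib, Finset.sum_ite_eq' Finset.univ,
        if_pos (Finset.mem_univ _)]
    · refine IsUnit.neg ?_
      by_contra hu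
      refine hE.notMem ?_
      have : c ⟨0, hn⟩ ∈ Ideal.span {π} := hmax ▸ (IsLocalRing.mem_maximalIdeal _).2 hu
      rw [hc ⟨0, hn⟩, Ideal.span_singleton_pow, pow_two, Ideal.mem_span_singleton]
      exact mul_dvd_mul_left _ (Ideal.mem_span_singleton.1 this)
  have hinj : Function.Injective (algebraMap A D) := AdjoinRoot.of.injective_of_degree_ne_zero (by
    rw [degree_eq_natDegree hfm.ne_zero, hdeg]; exact_mod_cast (by omega : n ≠ 0))
  have hdec : ∀ y : D, ∃ a : A, ∃ z : D, y = algebraMap A D a + x * z := fun y => by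
    induction y using AdjoinRoot.induction_on with
    | _ p => exact ⟨p.coeff 0, AdjoinRoot.mk f p.divX, by
        conv_lhs => rw [← p.X_mul_divX_add]
        rw [map_add, map_mul, AdjoinRoot.mk_X, AdjoinRoot.mk_C, add_comm]; rfl⟩
  have hmem : ∀ J : Ideal D, J.IsMaximal → x ∈ J := fun J hJ => by
    haveI := hJ
    have h1 : (J.under A).IsMaximal := Ideal.IsMaximal.under A J
    have h2 : π ∈ J.under A := by rw [IsLocalRing.eq_maximalIdeal h1, hmax]; exact Ideal.mem_span_singleton_self π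
    exact hJ.isPrime.mem_of_pow_mem n (by rw [hxn]; exact J.mul_mem_right _ h2)
  obtain ⟨c, z₀, hsz, hcu⟩ := hs0
  have hsu : IsUnit s := by
    by_contra hu
    obtain ⟨J, hJ, hsJ⟩ := exists_max_ideal_of_mem_nonunits hu
    haveI := hJ
    have h1 : (J.under A).IsMaximal := Ideal.IsMaximal.under A J
    have hc' : c ∈ J.under A := by
      rw [Ideal.mem_comap, show algebraMap A D c = s - x * z₀ by rw [hsz]; ring]
      exact sub_mem hsJ (J.mul_mem_right _ (hmem J hJ))
    exact h1.ne_top (Ideal.eq_top_of_isUnit_mem _ hc' hcu)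
  have hxπ : x ∣ algebraMap A D π := by
    obtain ⟨u, hu⟩ := hsu
    refine ⟨x ^ (n - 1) * ↑u⁻¹, ?_⟩
    rw [← mul_assoc, ← pow_succ', Nat.sub_add_cancel hn, hxn, ← hu, mul_assoc, Units.mul_inv, mul_one]
  obtain ⟨J0, hJ0⟩ := Ideal.exists_maximal D
  have hJ0x : J0 = Ideal.span {x} := by
    refine le_antisymm (fun y hy => ?_) ((Ideal.span_singleton_le_iff_mem _).mpr (hmem J0 hJ0))
    obtain ⟨a, z, rfl⟩ := hdec y
    haveI := hJ0
    have h1 : (J0.under A).IsMaximal := Ideal.IsMaximal.under A J0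
    have ha : a ∈ J0.under A := by
      have := Ideal.sub_mem _ hy (Ideal.mul_mem_right z _ (hmem J0 hJ0))
      rw [Ideal.mem_comap]; simpa using this
    rw [IsLocalRing.eq_maximalIdeal h1, hmax, Ideal.mem_span_singleton] at ha
    obtain ⟨b, rfl⟩ := ha
    rw [Ideal.mem_span_singleton, map_mul]
    exact dvd_add (Dvd.dvd.mul_right hxπ _) (dvd_mul_right x z)
  haveI hloc : IsLocalRing D := IsLocalRing.of_unique_max_ideal ⟨J0, hJ0, fun J hJ =>
    (hJ0.eq_of_le hJ.ne_top (hJ0x ▸ (Ideal.span_singleton_le_iff_mem _).mpr (hmem J hJ))).symm⟩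
  have hmaxD : IsLocalRing.maximalIdeal D = Ideal.span {x} := (IsLocalRing.eq_maximalIdeal hJ0) ▸ hJ0x
  have hx0 : x ≠ 0 := fun h => hπ.ne_zero (hinj (by rw [map_zero]; exact (mul_eq_zero.1 (by rw [← hxn, h, zero_pow (by omega)])).resolve_right hsu.ne_zero))
  have hnf : ¬ IsField D := fun h => by
    rw [IsLocalRing.isField_iff_maximalIdeal_eq, hmaxD, Ideal.span_singleton_eq_bot] at h
    exact hx0 h
  haveI hdvr : IsDiscreteValuationRing D :=
    ((IsDiscreteValuationRing.TFAE D hnf).out 0 4 rfl rfl).mpr ⟨x, hmaxD⟩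
  refine ⟨hdom, hdvr, hmaxD, ⟨s, hsu, hxn⟩, ?_⟩
  intro K₁ _ _ _
  letI : Algebra A K₁ := ((algebraMap D K₁).comp (algebraMap A D)).toAlgebra
  haveI : IsScalarTower A D K₁ := IsScalarTower.of_algebraMap_eq fun _ ↦ rfl
  set g := (algebraMap D K₁).comp (algebraMap A D)
  let V0 : ValuationSubring K₁ :=
    { (algebraMap D K₁).range with
      mem_or_inv_mem' := fun z => by
        rcases ValuationRing.isInteger_or_isInteger D z with ⟨d, hd⟩ | ⟨d, hd⟩
        · exact Or.inl ⟨d, hd⟩
        · exact Or.inr ⟨d, hd⟩ }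
  have hpolyV : ∀ (V : ValuationSubring K₁), EtRam.Dominates A g V → algebraMap D K₁ x ∈ V :=
    fun V hV ↦ EtRamLib.ValTower.mem_of_isIntegral (A := A) (L := K₁) V hV.1
      ((Algebra.IsIntegral.isIntegral (R := A) x).map (IsScalarTower.toAlgHom A D K₁))
  have hint' : ∀ (V : ValuationSubring K₁), EtRam.Dominates A g V → ∀ d : D, algebraMap D K₁ d ∈ V := by
    intro V hV d
    induction d using AdjoinRoot.induction_on with
    | _ p =>
      induction p using Polynomial.induction_on' with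
      | add p q hp hq => rw [map_add, map_add]; exact add_mem hp hq
      | monomial i a =>
        rw [← C_mul_X_pow_eq_monomial, map_mul, map_pow, AdjoinRoot.mk_C, AdjoinRoot.mk_X, map_mul, map_pow]
        exact mul_mem (hV.1 a) (pow_mem (hpolyV V hV) i)
  have hgπ : ∀ (V : ValuationSubring K₁), EtRam.Dominates A g V →
      V.valuation (g π) = V.valuation (algebraMap D K₁ x) ^ n := by
    intro V hV
    obtain ⟨u, hu⟩ := hsu
    have h1 : V.valuation (algebraMap D K₁ s) = 1 := by
      refine le_antisymm ((V.valuation_le_one_iff _).mpr (hint' V hV s)) ?_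
      have h2 : V.valuation (algebraMap D K₁ ↑u⁻¹) ≤ 1 := (V.valuation_le_one_iff _).mpr (hint' V hV _)
      calc (1 : V.ValueGroup) = V.valuation (algebraMap D K₁ s) * V.valuation (algebraMap D K₁ ↑u⁻¹) := by
            rw [← map_mul, ← map_mul, ← hu, Units.mul_inv, map_one, map_one]
        _ ≤ _ := mul_le_of_le_one_right' h2
    rw [← map_pow, ← map_pow, hxn, map_mul, map_mul, h1, mul_one]
    rfl
  have hint := hint'
  have hlt : ∀ (V : ValuationSubring K₁), EtRam.Dominates A g V → V.valuation (algebraMap D K₁ x) < 1 := by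
    intro V hV
    rcases lt_or_eq_of_le ((V.valuation_le_one_iff _).mpr (hint V hV x)) with h | h
    · exact h
    · have h1 : V.valuation (g π) < 1 := hV.2 π (by rw [hmax]; exact Ideal.mem_span_singleton_self π)
      rw [hgπ V hV, h, one_pow] at h1
      exact absurd h1 (lt_irrefl _)
  have hV : ∀ V : ValuationSubring K₁, EtRam.Dominates A g V → V = V0 := by
    intro V hV
    ext z
    refine ⟨fun hz => ?_, fun ⟨d, hd⟩ => hd ▸ hint V hV d⟩
    rcases eq_or_ne z 0 with hz0' | hzne
    · exact ⟨0, by rw [map_zero, hz0']⟩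
    rcases ValuationRing.isInteger_or_isInteger D z with ⟨d, hd⟩ | ⟨d, hd⟩
    · exact ⟨d, hd⟩
    rcases em (IsUnit d) with hdu | hdu
    · obtain ⟨d, rfl⟩ := hdu
      exact ⟨(↑d⁻¹ : D), by rw [map_units_inv, hd, inv_inv]⟩
    · exfalso
      obtain ⟨e, rfl⟩ : x ∣ d := Ideal.mem_span_singleton.mp (hmaxD ▸ (IsLocalRing.mem_maximalIdeal d).mpr hdu)
      have hz0 : z ≠ 0 := fun hz0 => hzne hz0
      have h1 : V.valuation (z * z⁻¹) < 1 := by
        rw [← hd, map_mul (algebraMap D K₁), map_mul, map_mul, ← mul_assoc]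
        exact mul_lt_one_of_lt_of_le (lt_of_le_of_lt (mul_le_of_le_one_left' ((V.valuation_le_one_iff _).mpr hz)) (hlt V hV)) ((V.valuation_le_one_iff _).mpr (hint V hV e))
      simp [mul_inv_cancel₀ hz0] at h1
  have hunit : ∀ (d : D), algebraMap D K₁ d ∈ V0 := fun d => ⟨d, rfl⟩
  refine ⟨⟨V0, fun a => ⟨_, rfl⟩, fun a ha => ?_⟩, fun V V' h h' => (hV V h).trans (hV V' h').symm, ?_⟩
  · rw [hmax, Ideal.mem_span_singleton] at ha
    obtain ⟨b, rfl⟩ := ha
    rcases lt_or_eq_of_le ((V0.valuation_le_one_iff _).mpr (show g (π * b) ∈ V0 from ⟨_, rfl⟩)) with h | h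
    · exact h
    · exfalso
      obtain ⟨d, hd⟩ : (g (π * b))⁻¹ ∈ V0 := (V0.valuation_le_one_iff _).mp (by rw [map_inv₀, h, inv_one])
      have hne : g (π * b) ≠ 0 := fun h0 => by simp [h0] at h
      obtain ⟨w, hw⟩ := hxπ
      have h2 : algebraMap D K₁ (x * (w * algebraMap A D b * d)) = algebraMap D K₁ 1 := by
        have h3 : algebraMap D K₁ d * g (π * b) = 1 := by rw [hd]; exact inv_mul_cancel₀ hne
        rw [map_one, ← h3, ← mul_assoc, ← mul_assoc, ← hw]
        simp only [g, RingHom.comp_apply, map_mul]; ring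
      exact (IsLocalRing.mem_maximalIdeal x).mp (hmaxD ▸ Ideal.mem_span_singleton_self x) (IsUnit.of_mul_eq_one _ (IsFractionRing.injective D K₁ h2))
  · intro V h r
    obtain ⟨⟨z, hz⟩, rfl⟩ := IsLocalRing.residue_surjective r
    obtain ⟨d, rfl⟩ : z ∈ V0 := hV V h ▸ hz
    obtain ⟨a, e, rfl⟩ := hdec d
    refine ⟨a, ?_⟩
    rw [← sub_eq_zero]
    simp only [← map_sub]
    rw [IsLocalRing.residue_eq_zero_iff]
    refine (ValuationSubring.valuation_lt_one_iff V _).mpr ?_
    simp only [AddSubgroupClass.coe_sub]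
    rw [show (RingHom.codRestrict g V h.1 a : K₁) - algebraMap D K₁ (algebraMap A D a + x * e) = -(algebraMap D K₁ x * algebraMap D K₁ e) by
      rw [map_add, map_mul]; simp [g, RingHom.codRestrict]]
    rw [Valuation.map_neg, map_mul]
    exact mul_lt_one_of_lt_of_le (hlt V h) ((V.valuation_le_one_iff _).mpr (hint V h e))

end Groth.Agent.EtRamLib.Eisenstein
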