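import Mathlib
import Groth.Prelude.Def_EtRam
import Groth.Agent.EtRamLib.Basic

/-!
# Wild inertia and tameness: the ring theoretic steps

`A → V → W` are discrete valuation rings.
-/

set_option autoImplicit false
universe u

open Polynomial IsLocalRing

namespace Groth.Agent.EtRamLib.WildFix

variable {A V W : Type u} [CommRing A] [CommRing V] [CommRing W]
  [Algebra A V] [Algebra A W] [Algebra V W] [IsScalarTower A V W]

/-- a natural number prime to the residue characteristic is a unit -/
lemma isUnit_natCast [IsLocalRing A] {e : ℕ} (he : 0 < e)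
    (h : ∀ p : ℕ, p.Prime → CharP (ResidueField A) p → ¬ p ∣ e) : IsUnit (e : A) := by
  rw [← residue_ne_zero_iff_isUnit, map_natCast]
  obtain ⟨q, hq⟩ := CharP.exists (ResidueField A)
  intro h0
  have hd := (CharP.cast_eq_zero_iff (ResidueField A) q e).1 h0
  rcases CharP.char_is_prime_or_zero (ResidueField A) q with hp | rfl
  · exact h q hp hq hd
  · exact he.ne' (Nat.eq_zero_of_zero_dvd hd)

lemma not_dvd_of_isUnit [IsLocalRing A] {e : ℕ} (he : IsUnit (e : A)) (p : ℕ) (hc : CharP (ResidueField A) p) :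
    ¬ p ∣ e := fun hd ↦ (he.map (residue A)).ne_zero (by
  rw [map_natCast]; exact (CharP.cast_eq_zero_iff (ResidueField A) p e).2 hd)

lemma exists_polynomial [IsLocalRing A] [IsLocalRing V] [IsLocalHom (algebraMap A V)]
    [Algebra.IsSeparable (ResidueField A) (ResidueField V)] (x : V) :
    ∃ F : A[X], aeval x F ∈ maximalIdeal V ∧ IsUnit (aeval x (derivative F)) := by
  obtain ⟨F, hF⟩ := Polynomial.map_surjective (residue A) residue_surjective
    (minpoly (ResidueField A) (residue V x))
  have key : ∀ G : A[X], residue V (aeval x G) = aeval (residue V x) (G.map (residue A)) := fun G ↦ by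
    rw [aeval_def, hom_eval₂, aeval_def, eval₂_map]
    congr 1
  refine ⟨F, ?_, ?_⟩
  · rw [← residue_eq_zero_iff, key, hF, minpoly.aeval]
  · rw [← residue_ne_zero_iff_isUnit, key, ← derivative_map, hF]
    exact (Algebra.IsSeparable.isSeparable (ResidueField A) (residue V x)).aeval_derivative_ne_zero
      (minpoly.aeval _ _)

variable [IsDomain W] [IsDiscreteValuationRing W]

/-- the elements on which `σ` is congruent to the identity to order `n` -/
def Step (σ : W →ₐ[A] W) (n : ℕ) (x : V) : Prop :=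
  ∃ w ∈ maximalIdeal W ^ n, σ (algebraMap V W x) = algebraMap V W x * (1 + w)

lemma Step.mul {σ : W →ₐ[A] W} {n : ℕ} {x y : V} (hx : Step σ n x) (hy : Step σ n y) : Step σ n (x * y) := by
  obtain ⟨a, ha, hxa⟩ := hx
  obtain ⟨b, hb, hyb⟩ := hy
  refine ⟨a + b + a * b, add_mem (add_mem ha hb) (Ideal.mul_mem_left _ a hb), ?_⟩
  rw [map_mul, map_mul, hxa, hyb]
  ring

lemma Step.one {σ : W →ₐ[A] W} {n : ℕ} : Step (V := V) σ n 1 := ⟨0, zero_mem _, by simp⟩

lemma Step.pow {σ : W →ₐ[A] W} {n : ℕ} {x : V} (hx : Step σ n x) : ∀ k : ℕ, Step σ n (x ^ k)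
  | 0 => by rw [pow_zero]; exact Step.one
  | k + 1 => by rw [pow_succ]; exact (hx.pow k).mul hx

/-- congruence to the identity improves along a tame extension -/
lemma fix [IsDomain V] [IsDiscreteValuationRing V] [IsLocalHom (algebraMap V W)]
    (hVW : Function.Injective (algebraMap V W)) (σ : W →ₐ[A] W)
    (hsep : ∀ x : V, ∃ F : A[X], aeval x F ∈ maximalIdeal V ∧ IsUnit (aeval x (derivative F)))
    {π : A} {ϖ : V} {e : ℕ} {u : Vˣ} (hϖ : Irreducible ϖ) (hu : algebraMap A V π = u * ϖ ^ e)
    (he : IsUnit (e : W)) (h1 : ∀ x : V, Step σ 1 x) (x : V) :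
    σ (algebraMap V W x) = algebraMap V W x := by
  have main : ∀ n : ℕ, 1 ≤ n → ∀ x : V, Step σ n x := by
    intro n hn
    induction n, hn using Nat.le_induction with
    | base => exact h1
    | succ n hn ih =>
      have hm : ∀ y ∈ maximalIdeal V, σ (algebraMap V W y) - algebraMap V W y ∈ maximalIdeal W ^ (n + 1) := by
        intro y hy
        obtain ⟨w, hw, hyw⟩ := ih y
        rw [hyw, mul_add, mul_one, add_sub_cancel_left, pow_succ']
        exact Ideal.mul_mem_mul (map_nonunit (algebraMap V W) y hy) hw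
      have hall : ∀ y : V, σ (algebraMap V W y) - algebraMap V W y ∈ maximalIdeal W ^ (n + 1) := by
        intro y
        obtain ⟨w, hw, hyw⟩ := ih y
        set d := σ (algebraMap V W y) - algebraMap V W y with hd
        have hdn : d ∈ maximalIdeal W ^ n := by
          rw [hd, hyw, mul_add, mul_one, add_sub_cancel_left]
          exact Ideal.mul_mem_left _ _ hw
        obtain ⟨F, hF, hF'⟩ := hsep y
        obtain ⟨k, hk⟩ := binomExpansion (F.map (algebraMap A W)) (algebraMap V W y) d
        simp only [eval_map_algebraMap, derivative_map] at hk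
        rw [show algebraMap V W y + d = σ (algebraMap V W y) by rw [hd]; ring, aeval_algHom_apply,
          aeval_algebraMap_apply, aeval_algebraMap_apply] at hk
        have h2 : k * d ^ 2 ∈ maximalIdeal W ^ (n + 1) := by
          refine Ideal.mul_mem_left _ k (Ideal.pow_le_pow_right (by omega : n + 1 ≤ n * 2) ?_)
          rw [pow_mul]
          exact Ideal.pow_mem_pow hdn 2
        have h3 := sub_mem (hm _ hF) h2
        rw [hk, show ∀ a b c : W, a + b + c - a - c = b by intros; ring] at h3
        exact (Ideal.unit_mul_mem_iff_mem _ (hF'.map _)).1 h3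
      have hunit : ∀ v : Vˣ, Step σ (n + 1) (v : V) := by
        intro v
        obtain ⟨v', hv'⟩ := (v.isUnit.map (algebraMap V W)).exists_left_inv
        refine ⟨v' * (σ (algebraMap V W v) - algebraMap V W v), Ideal.mul_mem_left _ _ (hall v), ?_⟩
        rw [mul_add, mul_one, ← mul_assoc, mul_comm (algebraMap V W v) v', hv', one_mul]
        ring
      have hϖstep : Step σ (n + 1) ϖ := by
        obtain ⟨w, hw, hww⟩ := ih ϖ
        obtain ⟨a, ha, hua⟩ := hunit u
        refine ⟨w, (Ideal.unit_mul_mem_iff_mem _ he).1 ?_, hww⟩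
        have h0 : algebraMap V W (u * ϖ ^ e) ≠ 0 :=
          (map_ne_zero_iff _ hVW).2 (mul_ne_zero u.ne_zero (pow_ne_zero _ hϖ.ne_zero))
        have h4 : (1 + a) * (1 + w) ^ e = 1 := by
          refine mul_left_cancel₀ h0 ?_
          rw [mul_one]
          calc algebraMap V W (u * ϖ ^ e) * ((1 + a) * (1 + w) ^ e)
              = σ (algebraMap V W (u * ϖ ^ e)) := by
                rw [map_mul, map_pow, map_mul, map_pow, hua, hww, mul_pow]; ring
            _ = _ := by rw [← hu, ← IsScalarTower.algebraMap_apply, AlgHom.commutes]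
        obtain ⟨c, hc⟩ := binomExpansion ((X : W[X]) ^ e) 1 w
        simp only [eval_pow, eval_X, one_pow, derivative_X_pow, eval_mul, eval_C, mul_one] at hc
        have h5 : (e : W) * w = -(a * (1 + w) ^ e) - c * w ^ 2 := by linear_combination -hc + h4
        rw [h5]
        refine sub_mem (neg_mem (Ideal.mul_mem_right _ _ ha)) ?_
        refine Ideal.mul_mem_left _ c (Ideal.pow_le_pow_right (by omega : n + 1 ≤ n * 2) ?_)
        rw [pow_mul]
        exact Ideal.pow_mem_pow hw 2
      intro y
      rcases eq_or_ne y 0 with rfl | hy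
      · exact ⟨0, zero_mem _, by simp⟩
      · obtain ⟨k, v, rfl⟩ := IsDiscreteValuationRing.eq_unit_mul_pow_irreducible hy hϖ
        exact (hunit v).mul (hϖstep.pow k)
  rw [← sub_eq_zero, ← Ideal.mem_bot, ← Ideal.iInf_pow_eq_bot_of_isLocalRing (maximalIdeal W)
    (maximalIdeal.isMaximal W).ne_top, Ideal.mem_iInf]
  intro n
  obtain ⟨w, hw, hxw⟩ := main (max 1 n) (le_max_left _ _) x
  rw [hxw, mul_add, mul_one, add_sub_cancel_left]
  exact Ideal.mul_mem_left _ _ (Ideal.pow_le_pow_right (le_max_right _ _) hw)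

section Orbit

variable {H : Type*} [Group H] [MulSemiringAction H W]

/-- `σ` moves every element by a principal unit -/
def IsWildElt (σ : H) : Prop := ∀ x : W, ∃ w ∈ maximalIdeal W, σ • x = x * (1 + w)

lemma associated_smul (σ : H) (x : W) : Associated (σ • x) x := by
  obtain ⟨ϖ, hϖ⟩ := IsDiscreteValuationRing.exists_irreducible W
  have hσϖ : Irreducible (σ • ϖ) :=
    (MulEquiv.irreducible_iff (MulSemiringAction.toRingEquiv H W σ)).2 hϖ
  rcases eq_or_ne x 0 with rfl | hx
  · rw [smul_zero]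
  obtain ⟨k, v, rfl⟩ := IsDiscreteValuationRing.eq_unit_mul_pow_irreducible hx hϖ
  rw [smul_mul', smul_pow']
  exact (associated_one_iff_isUnit.2 (v.isUnit.map (MulSemiringAction.toRingHom H W σ))).trans
    (associated_one_iff_isUnit.2 v.isUnit).symm |>.mul_mul
      ((IsDiscreteValuationRing.associated_of_irreducible W hσϖ hϖ).pow_pow)

/-- an inertia element of `p`-power order is wild -/
lemma isWildElt_of_pow_eq_one (htriv : ∀ (σ : H) (x : W), σ • x - x ∈ maximalIdeal W) (p : ℕ)
    [Fact p.Prime] [CharP (ResidueField W) p] {σ : H} {k : ℕ} (hσ : σ ^ p ^ k = 1) : IsWildElt (W := W) σ := by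
  obtain ⟨ϖ, hϖ⟩ := IsDiscreteValuationRing.exists_irreducible W
  obtain ⟨v, hv⟩ := (associated_smul σ ϖ).symm
  have hres : ∀ (τ : H) (y : W), residue W (τ • y) = residue W y := fun τ y ↦ by
    rw [← sub_eq_zero, ← map_sub, residue_eq_zero_iff]; exact htriv τ y
  have hpow : ∀ j : ℕ, ∃ r : W, σ ^ j • ϖ = ϖ * r ∧ residue W r = residue W (v : W) ^ j := by
    intro j
    induction j with
    | zero => exact ⟨1, by simp, by simp⟩
    | succ j ih =>
      obtain ⟨r, hr, hr'⟩ := ih
      refine ⟨(v : W) * σ • r, ?_, ?_⟩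
      · rw [pow_succ', mul_smul, hr, smul_mul', ← hv, mul_assoc]
      · rw [map_mul, hres, hr', pow_succ']
  obtain ⟨r, hr, hr'⟩ := hpow (p ^ k)
  rw [hσ, one_smul, left_eq_mul₀ hϖ.ne_zero] at hr
  rw [hr, map_one] at hr'
  have hv1 : residue W (v : W) = 1 := by
    rw [← sub_eq_zero]
    refine eq_zero_of_pow_eq_zero (n := p ^ k) ?_
    rw [sub_pow_char_pow, one_pow, ← hr', sub_self]
  intro x
  rcases eq_or_ne x 0 with rfl | hx
  · exact ⟨0, zero_mem _, by simp⟩
  obtain ⟨m, t, rfl⟩ := IsDiscreteValuationRing.eq_unit_mul_pow_irreducible hx hϖ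
  refine ⟨((t⁻¹ : Wˣ) : W) * σ • (t : W) * (v : W) ^ m - 1, ?_, ?_⟩
  · rw [← residue_eq_zero_iff, map_sub, map_mul, map_mul, map_pow, hres, hv1, ← map_mul, Units.inv_mul]
    simp
  · rw [add_sub_cancel, smul_mul', smul_pow', ← hv, mul_pow]
    have e : (t : W) * ((t⁻¹ : Wˣ) : W) = 1 := t.mul_inv
    linear_combination (-(σ • (t : W)) * ϖ ^ m * (v : W) ^ m) * e

/-- The orbit of an element fixed by the wild elements has order prime to the residue characteristic;
its sum and product are invariant. -/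
lemma exists_invariants [Finite H] (htriv : ∀ (σ : H) (x : W), σ • x - x ∈ maximalIdeal W) (y : W)
    (hy : ∀ σ : H, IsWildElt (W := W) σ → σ • y = y) :
    ∃ c : ℕ, 0 < c ∧ IsUnit (c : W) ∧ ∃ z z' : W, (∀ σ : H, σ • z = z) ∧ (∀ σ : H, σ • z' = z') ∧
      z - (c : W) * y ∈ maximalIdeal W ∧ Associated z' (y ^ c) := by
  classical
  haveI := Fintype.ofFinite H
  let O : Finset W := Finset.univ.image fun σ : H ↦ σ • y
  have hOσ : ∀ (τ : H), O.image (τ • ·) = O := fun τ ↦ by
    apply Finset.eq_of_subset_of_card_le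
    · intro w hw
      simp only [O, Finset.mem_image, Finset.mem_univ, true_and] at hw ⊢
      obtain ⟨_, ⟨σ, rfl⟩, rfl⟩ := hw
      exact ⟨τ * σ, by rw [mul_smul]⟩
    · rw [Finset.card_image_of_injective _ (MulAction.injective τ)]
  have hOorb : (O : Set W) = MulAction.orbit H y := by
    ext w; simp [O, MulAction.mem_orbit_iff]
  have hcard : O.card = (MulAction.stabilizer H y).index := by
    rw [MulAction.index_stabilizer, ← hOorb, Set.ncard_coe_finset]
  have hpos : 0 < O.card := Finset.card_pos.2 ⟨y, Finset.mem_image.2 ⟨1, Finset.mem_univ _, one_smul _ _⟩⟩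
  refine ⟨O.card, hpos, isUnit_natCast hpos fun p hp hc ↦ ?_, ∑ w ∈ O, w, ∏ w ∈ O, w, fun τ ↦ ?_, fun τ ↦ ?_, ?_, ?_⟩
  · haveI := Fact.mk hp
    haveI := hc
    intro hdvd
    obtain ⟨P⟩ := (inferInstance : Nonempty (Sylow p H))
    have hle : (P : Subgroup H) ≤ MulAction.stabilizer H y := fun σ hσ ↦ by
      obtain ⟨k, hk⟩ := P.2 ⟨σ, hσ⟩
      refine hy σ (isWildElt_of_pow_eq_one htriv p (k := k) ?_)
      simpa using congrArg Subtype.val hk
    exact P.not_dvd_index' (Nat.card_pos).ne' (hdvd.trans (hcard ▸ Subgroup.index_dvd_of_le hle))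
  · rw [Finset.smul_sum]
    conv_rhs => rw [← hOσ τ]
    rw [Finset.sum_image (MulAction.injective τ).injOn]
  · rw [Finset.smul_prod']
    conv_rhs => rw [← hOσ τ]
    rw [Finset.prod_image (MulAction.injective τ).injOn]
  · rw [← nsmul_eq_mul, ← Finset.sum_const, ← Finset.sum_sub_distrib]
    refine sum_mem fun w hw ↦ ?_
    obtain ⟨σ, -, rfl⟩ := Finset.mem_image.1 hw
    exact htriv σ y
  · rw [← Finset.prod_const]
    refine Associates.mk_eq_mk_iff_associated.1 ?_
    rw [← Associates.mkMonoidHom_apply, ← Associates.mkMonoidHom_apply, map_prod, map_prod]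
    refine Finset.prod_congr rfl fun w hw ↦ ?_
    obtain ⟨σ, -, rfl⟩ := Finset.mem_image.1 hw
    exact Associates.mk_eq_mk_iff_associated.2 (associated_smul σ y)

/-- Invariants unramified over `A` and `V` fixed by the wild elements: `V` is tame over `A`. -/
lemma tame_of_fixed [IsDomain A] [IsDiscreteValuationRing A] [IsDomain V] [IsDiscreteValuationRing V]
    [IsLocalHom (algebraMap A V)] [IsLocalHom (algebraMap A W)] [IsLocalHom (algebraMap V W)]
    [IsScalarTower (ResidueField A) (ResidueField V) (ResidueField W)]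
    (hAV : Function.Injective (algebraMap A V)) (hVW : Function.Injective (algebraMap V W)) [Finite H]
    (htriv : ∀ (σ : H) (x : W), σ • x - x ∈ maximalIdeal W)
    (hfixed : ∀ z : W, (∀ σ : H, σ • z = z) → IsSeparable (ResidueField A) (residue W z) ∧
      ∀ π : A, Irreducible π → z ≠ 0 → ∃ k : ℕ, Associated z (algebraMap A W π ^ k))
    (hwild : ∀ σ : H, IsWildElt (W := W) σ → ∀ y : V, σ • algebraMap V W y = algebraMap V W y) :
    Algebra.IsSeparable (ResidueField A) (ResidueField V) ∧
      IsUnit (Ideal.ramificationIdx' (maximalIdeal A) (maximalIdeal V) : A) := by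
  refine ⟨⟨fun ybar ↦ ?_⟩, ?_⟩
  · obtain ⟨y, rfl⟩ := residue_surjective ybar
    obtain ⟨c, -, hc, z, -, hz, -, hzy, -⟩ := exists_invariants htriv (algebraMap V W y) fun σ hσ ↦ hwild σ hσ y
    have h := (hfixed z hz).1
    have he : residue W z = (c : ResidueField W) * residue W (algebraMap V W y) := by
      rw [← map_natCast (residue W), ← map_mul, ← sub_eq_zero, ← map_sub, residue_eq_zero_iff]
      exact hzy
    have hc0 : (c : ResidueField W) ≠ 0 := by
      rw [← map_natCast (residue W)]; exact (hc.map (residue W)).ne_zero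
    have hmem : residue W (algebraMap V W y) ∈ separableClosure (ResidueField A) (ResidueField W) := by
      rw [show residue W (algebraMap V W y) = (c : ResidueField W)⁻¹ * residue W z by
        rw [he, ← mul_assoc, inv_mul_cancel₀ hc0, one_mul]]
      exact mul_mem (inv_mem (natCast_mem _ c)) (mem_separableClosure_iff.2 h)
    rw [← ResidueField.algebraMap_residue] at hmem
    have hm := mem_separableClosure_iff.1 hmem
    rwa [IsSeparable, minpoly.algebraMap_eq (algebraMap (ResidueField V) (ResidueField W)).injective] at hm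
  · obtain ⟨π, hπ⟩ := IsDiscreteValuationRing.exists_irreducible A
    obtain ⟨ϖ, hϖ⟩ := IsDiscreteValuationRing.exists_irreducible V
    obtain ⟨η, hη⟩ := IsDiscreteValuationRing.exists_irreducible W
    obtain ⟨e, u, he, hu, hidx⟩ := exists_ramificationIdx hAV hπ hϖ
    rw [hidx]
    obtain ⟨c, hc0, hc, -, z, -, hz, -, hzy⟩ := exists_invariants htriv (algebraMap V W ϖ) fun σ hσ ↦ hwild σ hσ ϖ
    have hj0 : algebraMap V W ϖ ≠ 0 := (map_ne_zero_iff _ hVW).2 hϖ.ne_zero
    obtain ⟨k, hk⟩ := (hfixed z hz).2 π hπ (fun h0 ↦ by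
      rw [h0] at hzy
      exact pow_ne_zero c hj0 (associated_zero_iff_eq_zero _ |>.1 hzy.symm))
    have h2 : Associated (algebraMap V W ϖ ^ c) (algebraMap V W ϖ ^ (e * k)) := by
      refine hzy.symm.trans (hk.trans ?_)
      rw [IsScalarTower.algebraMap_apply A V W, hu, map_mul, map_pow, mul_pow, ← pow_mul]
      exact (associated_unit_mul_left _ _ ((u.isUnit.map _).pow k))
    have hnu : ¬ IsUnit (algebraMap V W ϖ) := fun h ↦ hϖ.not_isUnit (isUnit_of_map_unit _ _ h)
    have hceq : c = e * k := by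
      obtain ⟨m, t, ht⟩ := IsDiscreteValuationRing.eq_unit_mul_pow_irreducible hj0 hη
      have hm : 0 < m := Nat.pos_of_ne_zero fun h ↦ hnu (by rw [ht, h, pow_zero, mul_one]; exact t.isUnit)
      obtain ⟨s, hs⟩ := h2
      rw [ht, mul_pow, mul_pow, ← pow_mul, ← pow_mul, mul_right_comm, ← Units.val_pow_eq_pow_val,
        ← Units.val_pow_eq_pow_val, ← Units.val_mul] at hs
      exact Nat.eq_of_mul_eq_mul_left hm (IsDiscreteValuationRing.unit_mul_pow_congr_pow hη hη _ _ _ _ hs)
    refine isUnit_of_map_unit (algebraMap A W) _ ?_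
    rw [map_natCast]
    rw [hceq, Nat.cast_mul] at hc
    exact isUnit_of_mul_isUnit_left hc

/-- `V` is fixed by `H`: it is unramified over `A`. -/
lemma unramified_of_fixed [IsDomain A] [IsDiscreteValuationRing A] [IsDomain V] [IsDiscreteValuationRing V]
    [IsLocalHom (algebraMap A V)] [IsLocalHom (algebraMap A W)] [IsLocalHom (algebraMap V W)]
    [IsScalarTower (ResidueField A) (ResidueField V) (ResidueField W)]
    (hAV : Function.Injective (algebraMap A V)) (hVW : Function.Injective (algebraMap V W))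
    (hfixed : ∀ z : W, (∀ σ : H, σ • z = z) → IsSeparable (ResidueField A) (residue W z) ∧
      ∀ π : A, Irreducible π → z ≠ 0 → ∃ k : ℕ, Associated z (algebraMap A W π ^ k))
    (hV : ∀ σ : H, ∀ y : V, σ • algebraMap V W y = algebraMap V W y) :
    Algebra.IsSeparable (ResidueField A) (ResidueField V) ∧
      Ideal.ramificationIdx' (maximalIdeal A) (maximalIdeal V) = 1 := by
  refine ⟨⟨fun ybar ↦ ?_⟩, ?_⟩
  · obtain ⟨y, rfl⟩ := residue_surjective ybar
    have hm := (hfixed _ fun σ ↦ hV σ y).1
    rw [← ResidueField.algebraMap_residue] at hm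
    rwa [IsSeparable, minpoly.algebraMap_eq (algebraMap (ResidueField V) (ResidueField W)).injective] at hm
  · obtain ⟨π, hπ⟩ := IsDiscreteValuationRing.exists_irreducible A
    obtain ⟨ϖ, hϖ⟩ := IsDiscreteValuationRing.exists_irreducible V
    obtain ⟨e, u, he, hu, hidx⟩ := exists_ramificationIdx hAV hπ hϖ
    rw [hidx]
    have hj0 : algebraMap V W ϖ ≠ 0 := (map_ne_zero_iff _ hVW).2 hϖ.ne_zero
    obtain ⟨k, hk⟩ := (hfixed _ fun σ ↦ hV σ ϖ).2 π hπ hj0
    have hnu : ¬ IsUnit (algebraMap V W ϖ) := fun h ↦ hϖ.not_isUnit (isUnit_of_map_unit _ _ h)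
    have h2 : Associated (algebraMap V W ϖ ^ 1) (algebraMap V W ϖ ^ (e * k)) := by
      rw [pow_one]
      refine hk.trans ?_
      rw [IsScalarTower.algebraMap_apply A V W, hu, map_mul, map_pow, mul_pow, ← pow_mul]
      exact associated_unit_mul_left _ _ ((u.isUnit.map _).pow k)
    exact Nat.eq_one_of_mul_eq_one_right (le_antisymm ((pow_dvd_pow_iff hj0 hnu).1 h2.symm.dvd)
      ((pow_dvd_pow_iff hj0 hnu).1 h2.dvd))

end Orbit

end Groth.Agent.EtRamLib.WildFix
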