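import Mathlib
import Groth.Agent.EtRamLib.WildFix
import Groth.Agent.EtRamLib.ValTower
import Groth.Agent.S7139

/-!
# Tame and unramified extensions inside a Galois extension

Tame = fixed by the wild inertia elements; unramified = fixed by the inertia elements.
-/

set_option autoImplicit false
universe u

open IsLocalRing
open scoped Pointwise

namespace Groth.Agent.EtRamLib.WildFixField

variable (A K N : Type u) [CommRing A] [IsDomain A] [IsDiscreteValuationRing A] [Field K] [Algebra A K]
  [IsFractionRing A K] [Field N] [Algebra K N]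

/-- `σ` moves every element of `N` by a principal unit of `W` -/
def Wild (W : ValuationSubring N) (σ : N ≃ₐ[K] N) : Prop := ∀ x : N, x ≠ 0 → W.valuation (σ x / x - 1) < 1

/-- `σ` is trivial modulo the maximal ideal of `W` -/
def Inert (W : ValuationSubring N) (σ : N ≃ₐ[K] N) : Prop := ∀ x ∈ W, W.valuation (σ x - x) < 1

variable {A K N}

lemma Wild.inert {W : ValuationSubring N} {σ : N ≃ₐ[K] N} (h : Wild K N W σ) : Inert K N W σ := fun x hx ↦ by
  rcases eq_or_ne x 0 with rfl | hx0
  · simp
  · rw [show σ x - x = x * (σ x / x - 1) by rw [mul_sub, mul_div_cancel₀ _ hx0, mul_one], map_mul]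
    exact (mul_le_of_le_one_left' ((W.valuation_le_one_iff x).2 hx)).trans_lt (h x hx0)

lemma Inert.mem {W : ValuationSubring N} {σ : N ≃ₐ[K] N} (h : Inert K N W σ) {x : N} (hx : x ∈ W) : σ x ∈ W := by
  have := add_mem ((W.valuation_le_one_iff _).1 (h x hx).le) hx
  rwa [sub_add_cancel] at this

variable [FiniteDimensional K N] [IsGalois K N]

variable (L : Type u) [Field L] [Algebra K L] [Algebra L N] [IsScalarTower K L N]

/-- a tame extension is fixed by the wild elements -/
theorem fix_of_isTamelyRamified (h : EtRam.IsTamelyRamified A ((algebraMap K L).comp (algebraMap A K)))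
    (W : ValuationSubring N) (hW : EtRam.Dominates A ((algebraMap K N).comp (algebraMap A K)) W)
    (σ : N ≃ₐ[K] N) (hσ : Wild K N W σ) (x : L) : σ (algebraMap L N x) = algebraMap L N x := by
  haveI : FiniteDimensional K L := Module.Finite.of_injective (IsScalarTower.toAlgHom K L N).toLinearMap
    (algebraMap L N).injective
  haveI : Algebra.IsSeparable K L := Algebra.isSeparable_tower_bot_of_isSeparable K L N
  obtain ⟨hV, hVW⟩ := ValTower.dominates_tower A K L N W hW
  let g := (algebraMap K L).comp (algebraMap A K)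
  let V := W.comap (algebraMap L N)
  letI : Algebra A V := (RingHom.codRestrict g V hV.1).toAlgebra
  letI : Algebra A W := (RingHom.codRestrict ((algebraMap K N).comp (algebraMap A K)) W hW.1).toAlgebra
  letI : Algebra V W := (RingHom.codRestrict ((algebraMap L N).comp V.subtype) W hVW.1).toAlgebra
  haveI : IsScalarTower A V W := IsScalarTower.of_algebraMap_eq fun a ↦
    Subtype.ext (IsScalarTower.algebraMap_apply K L N (algebraMap A K a))
  haveI : IsDiscreteValuationRing V := ValTower.isDiscreteValuationRing_of_dominates A K L V hV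
  haveI : IsDiscreteValuationRing W := ValTower.isDiscreteValuationRing_of_dominates A K N W hW
  haveI : IsLocalHom (algebraMap A V) := ValTower.isLocalHom_of_dominates V hV
  haveI : IsLocalHom (algebraMap V W) := ValTower.isLocalHom_of_dominates W hVW
  have hAV : Function.Injective (algebraMap A V) := ValTower.algebraMap_injective_of_dominates V hV
  have hVW' : Function.Injective (algebraMap V W) := fun a b e ↦
    Subtype.ext ((algebraMap L N).injective (congrArg Subtype.val e))
  obtain ⟨hsep, hp⟩ := h V hV
  haveI := hsep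
  let σW : W →ₐ[A] W :=
    { toFun := fun w ↦ ⟨σ w, hσ.inert.mem w.2⟩
      map_one' := Subtype.ext (map_one σ)
      map_mul' := fun a b ↦ Subtype.ext (map_mul σ _ _)
      map_zero' := Subtype.ext (map_zero σ)
      map_add' := fun a b ↦ Subtype.ext (map_add σ _ _)
      commutes' := fun a ↦ Subtype.ext (σ.commutes (algebraMap A K a)) }
  obtain ⟨π, hπ⟩ := IsDiscreteValuationRing.exists_irreducible A
  obtain ⟨ϖ, hϖ⟩ := IsDiscreteValuationRing.exists_irreducible V
  obtain ⟨e, u, he, hu, hidx⟩ := exists_ramificationIdx hAV hπ hϖ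
  have heW : IsUnit (e : W) := by
    have := (WildFix.isUnit_natCast (A := A) he fun p hp' hc ↦ hidx ▸ hp p hp' hc).map (algebraMap A W)
    rwa [map_natCast] at this
  have h1 : ∀ y : V, WildFix.Step σW 1 y := by
    intro y
    rcases eq_or_ne y 0 with rfl | hy
    · exact ⟨0, zero_mem _, by simp⟩
    have hy0 : algebraMap L N (y : L) ≠ 0 := (map_ne_zero_iff _ (algebraMap L N).injective).2
      (fun h0 ↦ hy (Subtype.ext h0))
    have hlt := hσ _ hy0
    refine ⟨⟨_, (W.valuation_le_one_iff _).1 hlt.le⟩, ?_, Subtype.ext ?_⟩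
    · rw [pow_one]
      exact (W.valuation_lt_one_iff _).2 hlt
    · change σ (algebraMap L N y) = algebraMap L N y * (1 + (σ (algebraMap L N y) / algebraMap L N y - 1))
      rw [add_sub_cancel, mul_div_cancel₀ _ hy0]
  have key : ∀ y : V, σ (algebraMap L N (y : L)) = algebraMap L N (y : L) := fun y ↦
    congrArg Subtype.val (WildFix.fix hVW' σW WildFix.exists_polynomial hϖ hu heW h1 y)
  rcases V.mem_or_inv_mem x with hx | hx
  · exact key ⟨x, hx⟩
  · exact inv_injective (by rw [← map_inv₀, ← map_inv₀]; exact key ⟨x⁻¹, hx⟩)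

/-- an unramified extension is fixed by the inertia elements -/
theorem fix_of_isUnramifiedExt (h : EtRam.IsUnramifiedExt A ((algebraMap K L).comp (algebraMap A K)))
    (W : ValuationSubring N) (hW : EtRam.Dominates A ((algebraMap K N).comp (algebraMap A K)) W)
    (σ : N ≃ₐ[K] N) (hσ : Inert K N W σ) (x : L) : σ (algebraMap L N x) = algebraMap L N x := by
  haveI : FiniteDimensional K L := Module.Finite.of_injective (IsScalarTower.toAlgHom K L N).toLinearMap
    (algebraMap L N).injective
  haveI : Algebra.IsSeparable K L := Algebra.isSeparable_tower_bot_of_isSeparable K L N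
  obtain ⟨hV, hVW⟩ := ValTower.dominates_tower A K L N W hW
  let g := (algebraMap K L).comp (algebraMap A K)
  let V := W.comap (algebraMap L N)
  letI : Algebra A V := (RingHom.codRestrict g V hV.1).toAlgebra
  letI : Algebra A W := (RingHom.codRestrict ((algebraMap K N).comp (algebraMap A K)) W hW.1).toAlgebra
  letI : Algebra V W := (RingHom.codRestrict ((algebraMap L N).comp V.subtype) W hVW.1).toAlgebra
  haveI : IsScalarTower A V W := IsScalarTower.of_algebraMap_eq fun a ↦
    Subtype.ext (IsScalarTower.algebraMap_apply K L N (algebraMap A K a))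
  haveI : IsDiscreteValuationRing V := ValTower.isDiscreteValuationRing_of_dominates A K L V hV
  haveI : IsDiscreteValuationRing W := ValTower.isDiscreteValuationRing_of_dominates A K N W hW
  haveI : IsLocalHom (algebraMap A V) := ValTower.isLocalHom_of_dominates V hV
  haveI : IsLocalHom (algebraMap V W) := ValTower.isLocalHom_of_dominates W hVW
  have hVW' : Function.Injective (algebraMap V W) := fun a b e ↦
    Subtype.ext ((algebraMap L N).injective (congrArg Subtype.val e))
  obtain ⟨hwu, hsep⟩ := h V hV
  haveI := hsep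
  let σW : W →ₐ[A] W :=
    { toFun := fun w ↦ ⟨σ w, hσ.mem w.2⟩
      map_one' := Subtype.ext (map_one σ)
      map_mul' := fun a b ↦ Subtype.ext (map_mul σ _ _)
      map_zero' := Subtype.ext (map_zero σ)
      map_add' := fun a b ↦ Subtype.ext (map_add σ _ _)
      commutes' := fun a ↦ Subtype.ext (σ.commutes (algebraMap A K a)) }
  obtain ⟨π, hπ⟩ := IsDiscreteValuationRing.exists_irreducible A
  have hϖ : Irreducible (algebraMap A V π) := by
    rw [IsDiscreteValuationRing.irreducible_iff_uniformizer, ← hwu, hπ.maximalIdeal_eq, Ideal.map_span,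
      Set.image_singleton]
  have h1 : ∀ y : V, WildFix.Step σW 1 y := by
    intro y
    rcases eq_or_ne y 0 with rfl | hy
    · exact ⟨0, zero_mem _, by simp⟩
    obtain ⟨k, v, rfl⟩ := IsDiscreteValuationRing.eq_unit_mul_pow_irreducible hy hϖ
    refine WildFix.Step.mul ?_ (WildFix.Step.pow ⟨0, zero_mem _, ?_⟩ k)
    · obtain ⟨v', hv'⟩ := (v.isUnit.map (algebraMap V W)).exists_left_inv
      refine ⟨v' * (σW (algebraMap V W v) - algebraMap V W v), Ideal.mul_mem_left _ _ ?_, ?_⟩
      · rw [pow_one]
        exact (W.valuation_lt_one_iff _).2 (hσ _ (algebraMap V W v).2)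
      · rw [mul_add, mul_one, ← mul_assoc, mul_comm (algebraMap V W v) v', hv', one_mul]
        ring
    · rw [← IsScalarTower.algebraMap_apply, AlgHom.commutes, add_zero, mul_one]
  have key : ∀ y : V, σ (algebraMap L N (y : L)) = algebraMap L N (y : L) := fun y ↦
    congrArg Subtype.val (WildFix.fix hVW' σW WildFix.exists_polynomial hϖ
      (π := π) (e := 1) (u := 1) (by simp) (by simp) h1 y)
  rcases V.mem_or_inv_mem x with hx | hx
  · exact key ⟨x, hx⟩
  · exact inv_injective (by rw [← map_inv₀, ← map_inv₀]; exact key ⟨x⁻¹, hx⟩)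

omit L in
/-- For each valuation ring `W` of `N` over `A`: a group of inertia automorphisms whose invariants
are unramified over `A`. -/
theorem exists_inertia (W : ValuationSubring N)
    (hW : EtRam.Dominates A ((algebraMap K N).comp (algebraMap A K)) W) :
    letI : Algebra A W := (RingHom.codRestrict ((algebraMap K N).comp (algebraMap A K)) W hW.1).toAlgebra
    haveI : IsLocalHom (algebraMap A W) := ValTower.isLocalHom_of_dominates W hW
    ∃ H : Subgroup (N ≃ₐ[K] N), (∀ σ ∈ H, Inert K N W σ) ∧
      ∀ z : W, (∀ σ ∈ H, σ (z : N) = z) → IsSeparable (ResidueField A) (residue W z) ∧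
        ∀ π : A, Irreducible π → z ≠ 0 → ∃ k : ℕ, Associated z (algebraMap A W π ^ k) := by
  letI : Algebra A N := ((algebraMap K N).comp (algebraMap A K)).toAlgebra
  haveI : IsScalarTower A K N := IsScalarTower.of_algebraMap_eq fun _ ↦ rfl
  letI : Algebra A W := (RingHom.codRestrict ((algebraMap K N).comp (algebraMap A K)) W hW.1).toAlgebra
  haveI : IsLocalHom (algebraMap A W) := ValTower.isLocalHom_of_dominates W hW
  haveI : SMulCommClass (N ≃ₐ[K] N) A N := ⟨fun σ a x ↦ by
    rw [Algebra.smul_def, Algebra.smul_def, smul_mul']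
    congr 1
    exact σ.commutes (algebraMap A K a)⟩
  haveI : IsDiscreteValuationRing W := ValTower.isDiscreteValuationRing_of_dominates A K N W hW
  let B := integralClosure A N
  have hBW : ∀ b : B, (b : N) ∈ W := ValTower.exists_algebra_integralClosure A K N W hW
  letI : Algebra B W := ((B.val).toRingHom.codRestrict W hBW).toAlgebra
  obtain ⟨hm0, hloc⟩ := ValTower.isLocalization_of_dominates A K N W hW hBW
  haveI : IsDedekindDomain B := IsIntegralClosure.isDedekindDomain A K N _
  haveI := hloc
  set m := (maximalIdeal W).comap (algebraMap B W) with hm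
  haveI : m.IsMaximal := Ideal.IsPrime.isMaximal inferInstance hm0
  let H := m.inertia (N ≃ₐ[K] N)
  have hlt : ∀ b ∈ m, W.valuation ((b : B) : N) < 1 := fun b hb ↦ (W.valuation_lt_one_iff _).1 hb
  have hH : ∀ σ ∈ H, Inert K N W σ := by
    intro σ hσ x hx
    obtain ⟨b, s, hbs⟩ := IsLocalization.exists_mk'_eq m.primeCompl (⟨x, hx⟩ : W)
    have hxs : x * ((s : B) : N) = (b : N) := by
      have h0 := IsLocalization.mk'_spec W b s
      rw [hbs] at h0
      exact congrArg Subtype.val h0
    have hσs : σ • (s : B) ∉ m := fun h0 ↦ s.2 (by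
      have h2 := sub_mem h0 (hσ (s : B))
      rwa [sub_sub_cancel] at h2)
    have hval : W.valuation (σ ((s : B) : N)) = 1 := by
      refine (W.valuation_eq_one_iff (algebraMap B W (σ • (s : B)))).1 ?_
      by_contra hu
      exact hσs hu
    have e : (σ x - x) * σ ((s : B) : N) = (σ (b : N) - (b : N)) - x * (σ ((s : B) : N) - ((s : B) : N)) := by
      rw [← hxs, map_mul]; ring
    calc W.valuation (σ x - x) = W.valuation ((σ x - x) * σ ((s : B) : N)) := by rw [map_mul, hval, mul_one]
      _ < 1 := by
        rw [e]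
        refine (W.valuation.map_sub _ _).trans_lt (max_lt (hlt _ (hσ b)) ?_)
        rw [map_mul]
        exact (mul_le_of_le_one_left' ((W.valuation_le_one_iff x).2 hx)).trans_lt (hlt _ (hσ (s : B)))
  refine ⟨H, hH, fun z hz ↦ ?_⟩
  let F := IntermediateField.fixedField H
  let B' := integralClosure A F
  haveI : IsScalarTower A F N := IsScalarTower.of_algebraMap_eq fun _ ↦ rfl
  haveI : IsScalarTower A K F := IsScalarTower.of_algebraMap_eq fun _ ↦ rfl
  letI : Algebra B' B := ((AlgHom.mapIntegralClosure (IsScalarTower.toAlgHom A F N)).toRingHom).toAlgebra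
  haveI : IsScalarTower A B' B := IsScalarTower.of_algebraMap_eq fun _ ↦ Subtype.ext rfl
  haveI : IsScalarTower B' B N := IsScalarTower.of_algebraMap_eq fun _ ↦ rfl
  haveI : IsScalarTower B' F N := IsScalarTower.of_algebraMap_eq fun _ ↦ rfl
  obtain ⟨-, het⟩ := S7139.result A K N B (fun σ b ↦ rfl) m B'
  obtain ⟨hU, hUW⟩ := ValTower.dominates_tower A K F N W hW
  let U := W.comap (algebraMap F N)
  have hB'U : ∀ b : B', (b : F) ∈ U := fun b ↦ hBW (algebraMap B' B b)
  letI : Algebra B' U := ((B'.val).toRingHom.codRestrict U hB'U).toAlgebra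
  letI : Algebra A U := (RingHom.codRestrict ((algebraMap K F).comp (algebraMap A K)) U hU.1).toAlgebra
  letI : Algebra U W := (RingHom.codRestrict ((algebraMap F N).comp U.subtype) W hUW.1).toAlgebra
  haveI : IsScalarTower A B' U := IsScalarTower.of_algebraMap_eq fun _ ↦ Subtype.ext rfl
  haveI : IsScalarTower A U W := IsScalarTower.of_algebraMap_eq fun _ ↦ Subtype.ext rfl
  haveI : IsLocalHom (algebraMap A U) := ValTower.isLocalHom_of_dominates U hU
  haveI : IsLocalHom (algebraMap U W) := ValTower.isLocalHom_of_dominates W hUW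
  haveI : IsDiscreteValuationRing U := ValTower.isDiscreteValuationRing_of_dominates A K F U hU
  obtain ⟨hP0, hlocU⟩ := ValTower.isLocalization_of_dominates A K F U hU hB'U
  have hPeq : m.comap (algebraMap B' B) = (maximalIdeal U).comap (algebraMap B' U) := by
    ext b
    exact (map_mem_nonunits_iff (algebraMap U W) (algebraMap B' U b))
  haveI := hlocU
  haveI : IsLocalization.AtPrime U (m.comap (algebraMap B' B)) := by
    simp only [IsLocalization.AtPrime] at hlocU ⊢
    convert hlocU using 2
  haveI := het
  haveI : Algebra.FormallyUnramified A U := Algebra.FormallyUnramified.of_equiv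
    ((IsLocalization.algEquiv (m.comap (algebraMap B' B)).primeCompl
      (Localization.AtPrime (m.comap (algebraMap B' B))) U).restrictScalars A)
  haveI : Module.Finite A B' := IsIntegralClosure.finite A K F B'
  haveI : Algebra.EssFiniteType B' U :=
    Algebra.EssFiniteType.of_isLocalization U (m.comap (algebraMap B' B)).primeCompl
  haveI : Algebra.EssFiniteType A U := Algebra.EssFiniteType.comp A B' U
  haveI := ValTower.residue_tower A U W
  let z' : U := ⟨⟨(z : N), fun σ ↦ hz σ σ.2⟩, z.2⟩
  have hz' : algebraMap U W z' = z := Subtype.ext rfl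
  refine ⟨?_, fun π hπ hz0 ↦ ?_⟩
  · have hs := Algebra.IsSeparable.isSeparable (ResidueField A) (residue U z')
    rw [← hz', ← ResidueField.algebraMap_residue]
    rw [IsSeparable, minpoly.algebraMap_eq (algebraMap (ResidueField U) (ResidueField W)).injective]
    exact hs
  · have hπU : Irreducible (algebraMap A U π) := by
      rw [IsDiscreteValuationRing.irreducible_iff_uniformizer,
        ← Algebra.FormallyUnramified.map_maximalIdeal (R := A) (S := U), hπ.maximalIdeal_eq, Ideal.map_span,
        Set.image_singleton]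
    obtain ⟨k, v, hv⟩ := IsDiscreteValuationRing.eq_unit_mul_pow_irreducible
      (show z' ≠ 0 from fun h0 ↦ hz0 (by rw [← hz', h0, map_zero])) hπU
    refine ⟨k, ?_⟩
    rw [← hz', hv, map_mul, map_pow, ← IsScalarTower.algebraMap_apply]
    exact associated_unit_mul_left _ _ (v.isUnit.map _)

/-- fixed by the wild elements: tame -/
theorem isTamelyRamified_of_fixed
    (hL : ∀ W : ValuationSubring N, EtRam.Dominates A ((algebraMap K N).comp (algebraMap A K)) W →
      ∀ σ : N ≃ₐ[K] N, Wild K N W σ → ∀ x : L, σ (algebraMap L N x) = algebraMap L N x) :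
    EtRam.IsTamelyRamified A ((algebraMap K L).comp (algebraMap A K)) := by
  haveI : FiniteDimensional K L := Module.Finite.of_injective (IsScalarTower.toAlgHom K L N).toLinearMap
    (algebraMap L N).injective
  haveI : Algebra.IsSeparable K L := Algebra.isSeparable_tower_bot_of_isSeparable K L N
  intro V hV
  obtain ⟨W, hW0, hWV⟩ := ValTower.exists_extension (M := N) A _ V hV
  have hgeq : (algebraMap L N).comp ((algebraMap K L).comp (algebraMap A K)) =
      (algebraMap K N).comp (algebraMap A K) := RingHom.ext fun a ↦ (IsScalarTower.algebraMap_apply K L N _).symm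
  have hW : EtRam.Dominates A ((algebraMap K N).comp (algebraMap A K)) W := hgeq ▸ hW0
  have hVW : EtRam.Dominates V ((algebraMap L N).comp V.subtype) W := by
    subst hWV
    exact (ValTower.dominates_tower A K L N W hW).2
  letI : Algebra A V := (RingHom.codRestrict ((algebraMap K L).comp (algebraMap A K)) V hV.1).toAlgebra
  letI : Algebra A W := (RingHom.codRestrict ((algebraMap K N).comp (algebraMap A K)) W hW.1).toAlgebra
  letI : Algebra V W := (RingHom.codRestrict ((algebraMap L N).comp V.subtype) W hVW.1).toAlgebra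
  haveI : IsScalarTower A V W := IsScalarTower.of_algebraMap_eq fun a ↦
    Subtype.ext (IsScalarTower.algebraMap_apply K L N (algebraMap A K a))
  haveI : IsDiscreteValuationRing V := ValTower.isDiscreteValuationRing_of_dominates A K L V hV
  haveI : IsDiscreteValuationRing W := ValTower.isDiscreteValuationRing_of_dominates A K N W hW
  haveI : IsLocalHom (algebraMap A V) := ValTower.isLocalHom_of_dominates V hV
  haveI : IsLocalHom (algebraMap A W) := ValTower.isLocalHom_of_dominates W hW
  haveI : IsLocalHom (algebraMap V W) := ValTower.isLocalHom_of_dominates W hVW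
  haveI := ValTower.residue_tower A V W
  have hAV : Function.Injective (algebraMap A V) := ValTower.algebraMap_injective_of_dominates V hV
  have hVW' : Function.Injective (algebraMap V W) := fun a b e ↦
    Subtype.ext ((algebraMap L N).injective (congrArg Subtype.val e))
  obtain ⟨H, hH, hfix⟩ := exists_inertia W hW
  letI : MulSemiringAction H W :=
    { smul := fun σ w ↦ ⟨(σ : N ≃ₐ[K] N) w, (hH σ σ.2).mem w.2⟩
      one_smul := fun w ↦ Subtype.ext rfl
      mul_smul := fun a b w ↦ Subtype.ext rfl
      smul_zero := fun σ ↦ Subtype.ext (map_zero (σ : N ≃ₐ[K] N))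
      smul_add := fun σ a b ↦ Subtype.ext (map_add (σ : N ≃ₐ[K] N) _ _)
      smul_one := fun σ ↦ Subtype.ext (map_one (σ : N ≃ₐ[K] N))
      smul_mul := fun σ a b ↦ Subtype.ext (map_mul (σ : N ≃ₐ[K] N) _ _) }
  have hwild : ∀ σ : H, WildFix.IsWildElt (W := W) σ → Wild K N W (σ : N ≃ₐ[K] N) := by
    intro σ hσ x hx
    suffices key : ∀ y : W, (y : N) ≠ 0 → W.valuation ((σ : N ≃ₐ[K] N) y / y - 1) < 1 by
      rcases W.mem_or_inv_mem x with h | h
      · exact key ⟨x, h⟩ hx
      · have hk := key ⟨x⁻¹, h⟩ (inv_ne_zero hx)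
        have hsx : (σ : N ≃ₐ[K] N) x ≠ 0 := by simpa using hx
        simp only [map_inv₀] at hk
        set t := (σ : N ≃ₐ[K] N) x / x - 1 with ht
        have e : ((σ : N ≃ₐ[K] N) x)⁻¹ / x⁻¹ - 1 = -t / (1 + t) := by
          rw [ht, add_sub_cancel]; field_simp; ring
        rw [e, map_div₀, Valuation.map_neg] at hk
        rcases lt_or_ge (W.valuation t) 1 with h1 | h1
        · exact h1
        · have hle : W.valuation (1 + t) ≤ W.valuation t :=
            (W.valuation.map_add _ _).trans (max_le (by rw [map_one]; exact h1) le_rfl)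
          have hpos : (0 : _) < W.valuation (1 + t) := by
            rw [zero_lt_iff, Ne, Valuation.zero_iff, ht, add_sub_cancel]
            exact div_ne_zero hsx hx
          exact absurd ((div_lt_one₀ hpos).1 hk) (not_lt.2 hle)
    intro y hy
    obtain ⟨w, hw, hyw⟩ := hσ y
    have h2 : (σ : N ≃ₐ[K] N) y = (y : N) * (1 + (w : N)) := congrArg Subtype.val hyw
    rw [h2, mul_div_cancel_left₀ _ hy, add_sub_cancel_left]
    exact (W.valuation_lt_one_iff w).1 hw
  obtain ⟨h1, h2⟩ := WildFix.tame_of_fixed (H := H) hAV hVW'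
    (fun σ x ↦ (W.valuation_lt_one_iff _).2 (hH σ σ.2 x x.2))
    (fun z hz ↦ hfix z fun σ hσ ↦ congrArg Subtype.val (hz ⟨σ, hσ⟩))
    (fun σ hσ y ↦ Subtype.ext (hL W hW σ (hwild σ hσ) y))
  intro _
  exact ⟨h1, fun p _ hc ↦ WildFix.not_dvd_of_isUnit h2 p hc⟩

/-- fixed by the inertia elements: unramified -/
theorem isUnramifiedExt_of_fixed
    (hL : ∀ W : ValuationSubring N, EtRam.Dominates A ((algebraMap K N).comp (algebraMap A K)) W →
      ∀ σ : N ≃ₐ[K] N, Inert K N W σ → ∀ x : L, σ (algebraMap L N x) = algebraMap L N x) :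
    EtRam.IsUnramifiedExt A ((algebraMap K L).comp (algebraMap A K)) := by
  haveI : FiniteDimensional K L := Module.Finite.of_injective (IsScalarTower.toAlgHom K L N).toLinearMap
    (algebraMap L N).injective
  haveI : Algebra.IsSeparable K L := Algebra.isSeparable_tower_bot_of_isSeparable K L N
  intro V hV
  obtain ⟨W, hW0, hWV⟩ := ValTower.exists_extension (M := N) A _ V hV
  have hgeq : (algebraMap L N).comp ((algebraMap K L).comp (algebraMap A K)) =
      (algebraMap K N).comp (algebraMap A K) := RingHom.ext fun a ↦ (IsScalarTower.algebraMap_apply K L N _).symm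
  have hW : EtRam.Dominates A ((algebraMap K N).comp (algebraMap A K)) W := hgeq ▸ hW0
  have hVW : EtRam.Dominates V ((algebraMap L N).comp V.subtype) W := by
    subst hWV
    exact (ValTower.dominates_tower A K L N W hW).2
  letI : Algebra A V := (RingHom.codRestrict ((algebraMap K L).comp (algebraMap A K)) V hV.1).toAlgebra
  letI : Algebra A W := (RingHom.codRestrict ((algebraMap K N).comp (algebraMap A K)) W hW.1).toAlgebra
  letI : Algebra V W := (RingHom.codRestrict ((algebraMap L N).comp V.subtype) W hVW.1).toAlgebra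
  haveI : IsScalarTower A V W := IsScalarTower.of_algebraMap_eq fun a ↦
    Subtype.ext (IsScalarTower.algebraMap_apply K L N (algebraMap A K a))
  haveI : IsDiscreteValuationRing V := ValTower.isDiscreteValuationRing_of_dominates A K L V hV
  haveI : IsDiscreteValuationRing W := ValTower.isDiscreteValuationRing_of_dominates A K N W hW
  haveI : IsLocalHom (algebraMap A V) := ValTower.isLocalHom_of_dominates V hV
  haveI : IsLocalHom (algebraMap A W) := ValTower.isLocalHom_of_dominates W hW
  haveI : IsLocalHom (algebraMap V W) := ValTower.isLocalHom_of_dominates W hVW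
  haveI := ValTower.residue_tower A V W
  have hAV : Function.Injective (algebraMap A V) := ValTower.algebraMap_injective_of_dominates V hV
  have hVW' : Function.Injective (algebraMap V W) := fun a b e ↦
    Subtype.ext ((algebraMap L N).injective (congrArg Subtype.val e))
  obtain ⟨H, hH, hfix⟩ := exists_inertia W hW
  letI : MulSemiringAction H W :=
    { smul := fun σ w ↦ ⟨(σ : N ≃ₐ[K] N) w, (hH σ σ.2).mem w.2⟩
      one_smul := fun w ↦ Subtype.ext rfl
      mul_smul := fun a b w ↦ Subtype.ext rfl
      smul_zero := fun σ ↦ Subtype.ext (map_zero (σ : N ≃ₐ[K] N))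
      smul_add := fun σ a b ↦ Subtype.ext (map_add (σ : N ≃ₐ[K] N) _ _)
      smul_one := fun σ ↦ Subtype.ext (map_one (σ : N ≃ₐ[K] N))
      smul_mul := fun σ a b ↦ Subtype.ext (map_mul (σ : N ≃ₐ[K] N) _ _) }
  obtain ⟨h1, h2⟩ := WildFix.unramified_of_fixed (H := H) hAV hVW'
    (fun z hz ↦ hfix z fun σ hσ ↦ congrArg Subtype.val (hz ⟨σ, hσ⟩))
    (fun σ y ↦ Subtype.ext (hL W hW σ (hH σ σ.2) y))
  intro _
  exact ⟨(ValTower.isWeaklyUnramified_iff A V hAV).2 h2, h1⟩

section General

variable (A K : Type u) [CommRing A] [IsDomain A] [IsDiscreteValuationRing A] [Field K] [Algebra A K]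
  [IsFractionRing A K] (L : Type u) [Field L] [Algebra K L] [FiniteDimensional K L] [Algebra.IsSeparable K L]
  (N : Type u) [Field N] [Algebra K N] [Algebra L N] [IsScalarTower K L N]

/-- A tame extension inside an arbitrary field is fixed by automorphisms acting by principal units
on a discrete valuation ring over `A`. -/
theorem fix_tame (h : EtRam.IsTamelyRamified A ((algebraMap K L).comp (algebraMap A K)))
    (W : ValuationSubring N) [IsDiscreteValuationRing W]
    (hW : EtRam.Dominates A ((algebraMap K N).comp (algebraMap A K)) W)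
    (σ : N →+* N) (hσK : ∀ c : K, σ (algebraMap K N c) = algebraMap K N c)
    (hσ : ∀ x : N, x ≠ 0 → W.valuation (σ x / x - 1) < 1) (x : L) : σ (algebraMap L N x) = algebraMap L N x := by
  obtain ⟨hV, hVW⟩ := ValTower.dominates_tower A K L N W hW
  let V := W.comap (algebraMap L N)
  letI : Algebra A V := (RingHom.codRestrict ((algebraMap K L).comp (algebraMap A K)) V hV.1).toAlgebra
  letI : Algebra A W := (RingHom.codRestrict ((algebraMap K N).comp (algebraMap A K)) W hW.1).toAlgebra
  letI : Algebra V W := (RingHom.codRestrict ((algebraMap L N).comp V.subtype) W hVW.1).toAlgebra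
  haveI : IsScalarTower A V W := IsScalarTower.of_algebraMap_eq fun a ↦
    Subtype.ext (IsScalarTower.algebraMap_apply K L N (algebraMap A K a))
  haveI : IsDiscreteValuationRing V := ValTower.isDiscreteValuationRing_of_dominates A K L V hV
  haveI : IsLocalHom (algebraMap A V) := ValTower.isLocalHom_of_dominates V hV
  haveI : IsLocalHom (algebraMap V W) := ValTower.isLocalHom_of_dominates W hVW
  have hAV : Function.Injective (algebraMap A V) := ValTower.algebraMap_injective_of_dominates V hV
  have hVW' : Function.Injective (algebraMap V W) := fun a b e ↦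
    Subtype.ext ((algebraMap L N).injective (congrArg Subtype.val e))
  obtain ⟨hsep, hp⟩ := h V hV
  haveI := hsep
  have hmem : ∀ w : W, σ (w : N) ∈ W := fun w ↦ by
    rcases eq_or_ne (w : N) 0 with h0 | h0
    · rw [h0, map_zero]; exact zero_mem _
    · have h2 : (w : N) * (σ w / w - 1) + (w : N) = σ w := by
        rw [mul_sub, mul_div_cancel₀ _ h0, mul_one, sub_add_cancel]
      rw [← h2]
      exact add_mem (mul_mem w.2 ((W.valuation_le_one_iff _).1 (hσ _ h0).le)) w.2
  let σW : W →ₐ[A] W :=
    { toFun := fun w ↦ ⟨σ w, hmem w⟩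
      map_one' := Subtype.ext (map_one σ)
      map_mul' := fun a b ↦ Subtype.ext (map_mul σ _ _)
      map_zero' := Subtype.ext (map_zero σ)
      map_add' := fun a b ↦ Subtype.ext (map_add σ _ _)
      commutes' := fun a ↦ Subtype.ext (hσK (algebraMap A K a)) }
  obtain ⟨π, hπ⟩ := IsDiscreteValuationRing.exists_irreducible A
  obtain ⟨ϖ, hϖ⟩ := IsDiscreteValuationRing.exists_irreducible V
  obtain ⟨e, u, he, hu, hidx⟩ := exists_ramificationIdx hAV hπ hϖ
  have heW : IsUnit (e : W) := by
    have := (WildFix.isUnit_natCast (A := A) he fun p hp' hc ↦ hidx ▸ hp p hp' hc).map (algebraMap A W)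
    rwa [map_natCast] at this
  have h1 : ∀ y : V, WildFix.Step σW 1 y := by
    intro y
    rcases eq_or_ne y 0 with rfl | hy
    · exact ⟨0, zero_mem _, by simp⟩
    have hy0 : algebraMap L N (y : L) ≠ 0 := (map_ne_zero_iff _ (algebraMap L N).injective).2
      (fun h0 ↦ hy (Subtype.ext h0))
    have hlt := hσ _ hy0
    refine ⟨⟨_, (W.valuation_le_one_iff _).1 hlt.le⟩, ?_, Subtype.ext ?_⟩
    · rw [pow_one]
      exact (W.valuation_lt_one_iff _).2 hlt
    · change σ (algebraMap L N y) = algebraMap L N y * (1 + (σ (algebraMap L N y) / algebraMap L N y - 1))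
      rw [add_sub_cancel, mul_div_cancel₀ _ hy0]
  have key : ∀ y : V, σ (algebraMap L N (y : L)) = algebraMap L N (y : L) := fun y ↦
    congrArg Subtype.val (WildFix.fix hVW' σW WildFix.exists_polynomial hϖ hu heW h1 y)
  rcases V.mem_or_inv_mem x with hx | hx
  · exact key ⟨x, hx⟩
  · exact inv_injective (by rw [← map_inv₀, ← map_inv₀]; exact key ⟨x⁻¹, hx⟩)

/-- An unramified extension inside an arbitrary field is fixed by automorphisms trivial modulo a
discrete valuation ring over `A`. -/
theorem fix_unramified (h : EtRam.IsUnramifiedExt A ((algebraMap K L).comp (algebraMap A K)))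
    (W : ValuationSubring N) [IsDiscreteValuationRing W]
    (hW : EtRam.Dominates A ((algebraMap K N).comp (algebraMap A K)) W)
    (σ : N →+* N) (hσK : ∀ c : K, σ (algebraMap K N c) = algebraMap K N c)
    (hσ : ∀ x ∈ W, W.valuation (σ x - x) < 1) (x : L) : σ (algebraMap L N x) = algebraMap L N x := by
  obtain ⟨hV, hVW⟩ := ValTower.dominates_tower A K L N W hW
  let V := W.comap (algebraMap L N)
  letI : Algebra A V := (RingHom.codRestrict ((algebraMap K L).comp (algebraMap A K)) V hV.1).toAlgebra
  letI : Algebra A W := (RingHom.codRestrict ((algebraMap K N).comp (algebraMap A K)) W hW.1).toAlgebra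
  letI : Algebra V W := (RingHom.codRestrict ((algebraMap L N).comp V.subtype) W hVW.1).toAlgebra
  haveI : IsScalarTower A V W := IsScalarTower.of_algebraMap_eq fun a ↦
    Subtype.ext (IsScalarTower.algebraMap_apply K L N (algebraMap A K a))
  haveI : IsDiscreteValuationRing V := ValTower.isDiscreteValuationRing_of_dominates A K L V hV
  haveI : IsLocalHom (algebraMap A V) := ValTower.isLocalHom_of_dominates V hV
  haveI : IsLocalHom (algebraMap V W) := ValTower.isLocalHom_of_dominates W hVW
  have hVW' : Function.Injective (algebraMap V W) := fun a b e ↦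
    Subtype.ext ((algebraMap L N).injective (congrArg Subtype.val e))
  obtain ⟨hwu, hsep⟩ := h V hV
  haveI := hsep
  let σW : W →ₐ[A] W :=
    { toFun := fun w ↦ ⟨σ w, by
        have := add_mem ((W.valuation_le_one_iff _).1 (hσ w w.2).le) w.2
        rwa [sub_add_cancel] at this⟩
      map_one' := Subtype.ext (map_one σ)
      map_mul' := fun a b ↦ Subtype.ext (map_mul σ _ _)
      map_zero' := Subtype.ext (map_zero σ)
      map_add' := fun a b ↦ Subtype.ext (map_add σ _ _)
      commutes' := fun a ↦ Subtype.ext (hσK (algebraMap A K a)) }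
  obtain ⟨π, hπ⟩ := IsDiscreteValuationRing.exists_irreducible A
  have hϖ : Irreducible (algebraMap A V π) := by
    rw [IsDiscreteValuationRing.irreducible_iff_uniformizer, ← hwu, hπ.maximalIdeal_eq, Ideal.map_span,
      Set.image_singleton]
  have h1 : ∀ y : V, WildFix.Step σW 1 y := by
    intro y
    rcases eq_or_ne y 0 with rfl | hy
    · exact ⟨0, zero_mem _, by simp⟩
    obtain ⟨k, v, rfl⟩ := IsDiscreteValuationRing.eq_unit_mul_pow_irreducible hy hϖ
    refine WildFix.Step.mul ?_ (WildFix.Step.pow ⟨0, zero_mem _, ?_⟩ k)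
    · obtain ⟨v', hv'⟩ := (v.isUnit.map (algebraMap V W)).exists_left_inv
      refine ⟨v' * (σW (algebraMap V W v) - algebraMap V W v), Ideal.mul_mem_left _ _ ?_, ?_⟩
      · rw [pow_one]
        exact (W.valuation_lt_one_iff _).2 (hσ _ (algebraMap V W v).2)
      · rw [mul_add, mul_one, ← mul_assoc, mul_comm (algebraMap V W v) v', hv', one_mul]
        ring
    · rw [← IsScalarTower.algebraMap_apply, AlgHom.commutes, add_zero, mul_one]
  have key : ∀ y : V, σ (algebraMap L N (y : L)) = algebraMap L N (y : L) := fun y ↦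
    congrArg Subtype.val (WildFix.fix hVW' σW WildFix.exists_polynomial hϖ
      (π := π) (e := 1) (u := 1) (by simp) (by simp) h1 y)
  rcases V.mem_or_inv_mem x with hx | hx
  · exact key ⟨x, hx⟩
  · exact inv_injective (by rw [← map_inv₀, ← map_inv₀]; exact key ⟨x⁻¹, hx⟩)

end General

end Groth.Agent.EtRamLib.WildFixField
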