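import Mathlib
import Groth.Agent.EtRamLib.WildFixField
import Groth.Agent.EtRamLib.Eisenstein

/-!
# Abhyankar's lemma for discrete valuation rings

`A' = A[z]/(z^e - π)` with `e` invertible in the residue field.
-/

set_option autoImplicit false
universe u

open Polynomial IsLocalRing

namespace Groth.Agent.EtRamLib.Abhyankar

variable {A K : Type u} [CommRing A] [IsDomain A] [IsDiscreteValuationRing A] [Field K] [Algebra A K]
  [IsFractionRing A K]

lemma natCast_ne_zero {e : ℕ} (he : (e : ResidueField A) ≠ 0) : (e : K) ≠ 0 := by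
  intro h
  have : (e : A) = 0 := IsFractionRing.injective A K (by rw [map_natCast, map_zero, h])
  exact he (by rw [← map_natCast (residue A), this, map_zero])

lemma facts (π : A) (hπ : maximalIdeal A = Ideal.span {π}) {e : ℕ} (he : 0 < e) :
    ∃ (_ : IsDomain (AdjoinRoot (X ^ e - C π : A[X])))
      (_ : IsDiscreteValuationRing (AdjoinRoot (X ^ e - C π : A[X]))),
      maximalIdeal (AdjoinRoot (X ^ e - C π : A[X])) = Ideal.span {AdjoinRoot.root _} ∧
      AdjoinRoot.root (X ^ e - C π : A[X]) ^ e = AdjoinRoot.of _ π ∧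
      Function.Injective (AdjoinRoot.of (X ^ e - C π : A[X])) ∧
      Algebra.IsIntegral A (AdjoinRoot (X ^ e - C π : A[X])) := by
  have hirr : Irreducible π := (IsDiscreteValuationRing.irreducible_iff_uniformizer π).2 hπ
  have hm : (X ^ e - C π : A[X]).Monic := monic_X_pow_sub_C π he.ne'
  have hdeg : (X ^ e - C π : A[X]).natDegree = e := natDegree_X_pow_sub_C
  have hE : (X ^ e - C π : A[X]).IsEisensteinAt (Ideal.span {π}) := by
    refine ⟨?_, fun {n} hn ↦ ?_, ?_⟩
    · rw [hm.leadingCoeff, ← hπ]
      exact (IsLocalRing.notMem_maximalIdeal).2 isUnit_one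
    · rw [hdeg] at hn
      rw [coeff_sub, coeff_X_pow, if_neg hn.ne, coeff_C]
      split_ifs
      · rw [zero_sub, neg_mem_iff]; exact Ideal.mem_span_singleton_self π
      · rw [sub_zero]; exact zero_mem _
    · rw [coeff_sub, coeff_X_pow, if_neg he.ne, coeff_C_zero, zero_sub, neg_mem_iff,
        Ideal.span_singleton_pow, pow_two, Ideal.mem_span_singleton]
      rintro ⟨c, hc⟩
      exact hirr.not_isUnit (IsUnit.of_mul_eq_one c
        (mul_left_cancel₀ hirr.ne_zero (by rw [mul_one]; linear_combination -hc)))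
  obtain ⟨-, h1, h2, h3, -, -⟩ := Eisenstein.totallyRamified A π hirr _ hm hE e hdeg he
  refine ⟨h1, h2, h3, ?_, AdjoinRoot.of.injective_of_degree_ne_zero (by
    rw [degree_X_pow_sub_C he π]; exact_mod_cast he.ne'), ?_⟩
  · rw [← sub_eq_zero, ← AdjoinRoot.mk_X, ← AdjoinRoot.mk_C, ← map_pow, ← map_sub, AdjoinRoot.mk_self]
  · haveI := hm.finite_adjoinRoot
    exact Algebra.IsIntegral.of_finite A _

variable (L : Type u) [Field L] [Algebra K L] [FiniteDimensional K L] [Algebra.IsSeparable K L]
  (N : Type u) [Field N] [Algebra K N] [Algebra L N] [IsScalarTower K L N]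

/-- Inertial automorphisms fixing a root `π ^ (1/e)` fix a tame extension whose indices divide `e`. -/
theorem fix_of_root (π : A) (hπ : Irreducible π)
    (h : EtRam.IsTamelyRamified A ((algebraMap K L).comp (algebraMap A K)))
    (W : ValuationSubring N) [IsDiscreteValuationRing W]
    (hW : EtRam.Dominates A ((algebraMap K N).comp (algebraMap A K)) W)
    (σ : N →+* N) (hσK : ∀ c : K, σ (algebraMap K N c) = algebraMap K N c)
    (hσ : ∀ x ∈ W, W.valuation (σ x - x) < 1) (r : N) (e : ℕ)
    (hr : r ^ e = algebraMap K N (algebraMap A K π)) (hσr : σ r = r)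
    (hdvd : ∀ (V : ValuationSubring L) (hV : EtRam.Dominates A ((algebraMap K L).comp (algebraMap A K)) V),
      letI : Algebra A V := (RingHom.codRestrict ((algebraMap K L).comp (algebraMap A K)) V hV.1).toAlgebra
      Ideal.ramificationIdx' (maximalIdeal A) (maximalIdeal V) ∣ e)
    (x : L) : σ (algebraMap L N x) = algebraMap L N x := by
  obtain ⟨hV, hVW⟩ := ValTower.dominates_tower A K L N W hW
  let V := W.comap (algebraMap L N)
  letI : Algebra A V := (RingHom.codRestrict ((algebraMap K L).comp (algebraMap A K)) V hV.1).toAlgebra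
  letI : Algebra A W := (RingHom.codRestrict ((algebraMap K N).comp (algebraMap A K)) W hW.1).toAlgebra
  letI : Algebra V W := (RingHom.codRestrict ((algebraMap L N).comp V.subtype) W hVW.1).toAlgebra
  haveI : IsScalarTower A V W := IsScalarTower.of_algebraMap_eq fun a ↦
    Subtype.ext (IsScalarTower.algebraMap_apply K L N (algebraMap A K a))
  haveI : IsDiscreteValuationRing V := ValTower.isDiscreteValuationRing_of_dominates A K L V hV
  haveI : IsLocalHom (algebraMap A V) := ValTower.isLocalHom_of_dominates V hV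
  haveI : IsLocalHom (algebraMap V W) := ValTower.isLocalHom_of_dominates W hVW
  have hAV : Function.Injective (algebraMap A V) := ValTower.algebraMap_injective_of_dominates V hV
  have hVW' : Function.Injective (algebraMap V W) := fun a b e ↦
    Subtype.ext ((algebraMap L N).injective (congrArg Subtype.val e))
  obtain ⟨hsep, hp⟩ := h V hV
  haveI := hsep
  let σW : W →ₐ[A] W :=
    { toFun := fun w ↦ ⟨σ w, by
        have := add_mem ((W.valuation_le_one_iff _).1 (hσ w w.2).le) w.2
        rwa [sub_add_cancel] at this⟩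
      map_one' := Subtype.ext (map_one σ)
      map_mul' := fun a b ↦ Subtype.ext (map_mul σ _ _)
      map_zero' := Subtype.ext (map_zero σ)
      map_add' := fun a b ↦ Subtype.ext (map_add σ _ _)
      commutes' := fun a ↦ Subtype.ext (hσK (algebraMap A K a)) }
  obtain ⟨ϖ, hϖ⟩ := IsDiscreteValuationRing.exists_irreducible V
  obtain ⟨eV, u, heV, hu, hidx⟩ := exists_ramificationIdx hAV hπ hϖ
  have heW : IsUnit (eV : W) := by
    have := (WildFix.isUnit_natCast (A := A) heV fun p hp' hc ↦ hidx ▸ hp p hp' hc).map (algebraMap A W)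
    rwa [map_natCast] at this
  obtain ⟨c, hc⟩ := hidx ▸ hdvd V hV
  set P : N := ((algebraMap V W ϖ : W) : N) with hP
  set U : N := ((algebraMap V W (u : V) : W) : N) with hU
  have hP0 : P ≠ 0 := by
    simpa [hP] using (map_ne_zero_iff _ hVW').2 hϖ.ne_zero
  have hU1 : W.valuation U = 1 := (W.valuation_eq_one_iff _).1 (u.isUnit.map (algebraMap V W))
  set y : N := r ^ c / P with hy
  have hye : y ^ eV = U := by
    rw [hy, div_pow, ← pow_mul, mul_comm c eV, ← hc, hr,
      div_eq_iff (pow_ne_zero _ hP0), hP, hU]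
    have h2 := congrArg Subtype.val (congrArg (algebraMap V W) hu)
    rw [← IsScalarTower.algebraMap_apply, map_mul, map_pow] at h2
    push_cast at h2
    exact h2
  have hy1 : W.valuation y = 1 := by
    have h3 : W.valuation y ^ eV = 1 := by rw [← map_pow, hye, hU1]
    exact (pow_eq_one_iff_of_nonneg zero_le' heV.ne').1 h3
  have hy0 : y ≠ 0 := fun h0 ↦ by rw [h0, map_zero] at hy1; exact zero_ne_one hy1
  have hσy : W.valuation (σ y - y) < 1 := hσ y ((W.valuation_le_one_iff _).1 hy1.le)
  have hstep : WildFix.Step σW 1 ϖ := by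
    have hσy1 : W.valuation (σ y) = 1 := by
      have := W.valuation.map_add_eq_of_lt_left (x := y) (y := σ y - y) (by rw [hy1]; exact hσy)
      rwa [add_sub_cancel, hy1] at this
    have hσy0 : σ y ≠ 0 := fun h0 ↦ by rw [h0, map_zero] at hσy1; exact zero_ne_one hσy1
    have hval : W.valuation ((y - σ y) / σ y) < 1 := by
      rw [map_div₀, hσy1, div_one, ← Valuation.map_sub_swap]; exact hσy
    refine ⟨⟨_, (W.valuation_le_one_iff _).1 hval.le⟩, ?_, Subtype.ext ?_⟩
    · rw [pow_one]; exact (W.valuation_lt_one_iff _).2 hval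
    · change σ P = P * (1 + (y - σ y) / σ y)
      have hσP : σ P ≠ 0 := (_root_.map_ne_zero σ).2 hP0
      rw [one_add_div hσy0, add_sub_cancel, hy, map_div₀, map_pow, hσr]
      have hr0 : r ^ c ≠ 0 := by
        intro h0
        rw [hy, h0, zero_div] at hy0
        exact hy0 rfl
      field_simp
  have h1 : ∀ z : V, WildFix.Step σW 1 z := by
    intro z
    rcases eq_or_ne z 0 with rfl | hz
    · exact ⟨0, zero_mem _, by simp⟩
    obtain ⟨k, v, rfl⟩ := IsDiscreteValuationRing.eq_unit_mul_pow_irreducible hz hϖ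
    refine WildFix.Step.mul ?_ (WildFix.Step.pow hstep k)
    obtain ⟨v', hv'⟩ := (v.isUnit.map (algebraMap V W)).exists_left_inv
    refine ⟨v' * (σW (algebraMap V W v) - algebraMap V W v), Ideal.mul_mem_left _ _ ?_, ?_⟩
    · rw [pow_one]
      exact (W.valuation_lt_one_iff _).2 (hσ _ (algebraMap V W v).2)
    · rw [mul_add, mul_one, ← mul_assoc, mul_comm (algebraMap V W v) v', hv', one_mul]
      ring
  have key : ∀ z : V, σ (algebraMap L N (z : L)) = algebraMap L N (z : L) := fun z ↦
    congrArg Subtype.val (WildFix.fix hVW' σW WildFix.exists_polynomial hϖ hu heW h1 z)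
  rcases V.mem_or_inv_mem x with hx | hx
  · exact key ⟨x, hx⟩
  · exact inv_injective (by rw [← map_inv₀, ← map_inv₀]; exact key ⟨x⁻¹, hx⟩)

omit L in
/-- A wild automorphism fixes a root `π ^ (1/e)`. -/
theorem wild_fix_root (π : A) (hπ : Irreducible π) (W : ValuationSubring N)
    (hW : EtRam.Dominates A ((algebraMap K N).comp (algebraMap A K)) W)
    (σ : N →+* N) (hσK : ∀ c : K, σ (algebraMap K N c) = algebraMap K N c)
    (hσ : ∀ x : N, x ≠ 0 → W.valuation (σ x / x - 1) < 1)
    (r : N) (e : ℕ) (he : 0 < e) (heA : IsUnit (e : A))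
    (hr : r ^ e = algebraMap K N (algebraMap A K π)) : σ r = r := by
  have hπ0 : algebraMap K N (algebraMap A K π) ≠ 0 :=
    (_root_.map_ne_zero _).2 ((map_ne_zero_iff _ (IsFractionRing.injective A K)).2 hπ.ne_zero)
  have hr0 : r ≠ 0 := fun h0 ↦ hπ0 (by rw [← hr, h0, zero_pow he.ne'])
  set z := σ r / r with hz
  have hz1 : W.valuation (z - 1) < 1 := hσ r hr0
  have hze : z ^ e = 1 := by
    rw [hz, div_pow, ← map_pow, hr, hσK, div_self hπ0]
  let w : W := ⟨z - 1, (W.valuation_le_one_iff _).1 hz1.le⟩
  have hw : w ∈ maximalIdeal W := (W.valuation_lt_one_iff w).2 hz1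
  obtain ⟨k, hk⟩ := binomExpansion ((X : W[X]) ^ e) 1 w
  simp only [eval_pow, eval_X, one_pow, derivative_X_pow, eval_mul, eval_C, mul_one] at hk
  have h1w : (1 + w) ^ e = 1 := Subtype.ext (by
    push_cast
    rw [show (1 : N) + (w : N) = z from add_sub_cancel _ _]
    exact hze)
  rw [h1w] at hk
  have heW : IsUnit (e : W) := by
    have := heA.map (RingHom.codRestrict ((algebraMap K N).comp (algebraMap A K)) W hW.1)
    rwa [map_natCast] at this
  have hunit : IsUnit ((e : W) + k * w) := by
    by_contra hu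
    have h2 := sub_mem (IsLocalRing.mem_maximalIdeal _ |>.2 hu) (Ideal.mul_mem_left _ k hw)
    rw [add_sub_cancel_right] at h2
    exact h2 heW
  have hw0 : w = 0 := by
    have h3 : ((e : W) + k * w) * w = 0 := by linear_combination -hk
    exact (mul_eq_zero.1 h3).resolve_left hunit.ne_zero
  have hz0 : z = 1 := sub_eq_zero.1 (congrArg Subtype.val hw0)
  rw [hz, div_eq_one_iff_eq hr0] at hz0
  exact hz0

end Groth.Agent.EtRamLib.Abhyankar
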