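import Mathlib
import Groth.Agent.S7158

/-!
# Extensions `z ^ p = ξ + (lower terms with integral coefficients)` of discrete valuation rings
-/

set_option autoImplicit false
universe u
open Polynomial
open scoped Classical

namespace Groth.Agent.EtRamLib.PRootCases

open Groth.Agent.S7158

variable {K L : Type u} [Field K] [Field L] [Algebra K L]
variable (A : Type u) [CommRing A] [IsDomain A] [IsDiscreteValuationRing A] [Algebra A K] [IsFractionRing A K]
  (π : A) (hπ : IsLocalRing.maximalIdeal A = Ideal.span {π})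

/-- the monic polynomial `X ^ p - Σ d_i X ^ i - c` -/
lemma exists_monic (p : ℕ) (hp : 0 < p) (d : Fin p → K) (c : K) (z : L)
    (hz : z ^ p = algebraMap K L c + ∑ i : Fin p, algebraMap K L (d i) * z ^ (i : ℕ)) :
    ∃ q : K[X], q.Monic ∧ q.natDegree = p ∧ aeval z q = 0 := by
  set r : K[X] := (∑ i : Fin p, C (d i) * X ^ (i : ℕ)) + C c with hr
  have hrdeg : r.degree < (p : ℕ) := by
    refine (degree_add_le _ _).trans_lt (max_lt ?_ (degree_C_le.trans_lt (by exact_mod_cast hp)))
    refine (degree_sum_le _ _).trans_lt ((Finset.sup_lt_iff (WithBot.bot_lt_coe p)).2 fun i _ ↦ ?_)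
    exact (degree_C_mul_X_pow_le _ _).trans_lt (WithBot.coe_lt_coe.2 i.2)
  refine ⟨X ^ p - r, monic_X_pow_sub hrdeg,
    natDegree_eq_of_degree_eq_some (by rw [degree_sub_eq_left_of_degree_lt (by rwa [degree_X_pow]), degree_X_pow]), ?_⟩
  simp only [hr, map_sub, map_add, map_sum, map_mul, map_pow, aeval_X, aeval_C]
  rw [hz]
  ring

lemma val_z (V : ValuationSubring L) (p : ℕ) (d : Fin p → L) (hd : ∀ i, V.valuation (d i) ≤ 1) (z y : L)
    (hz : z ^ p = y + ∑ i : Fin p, d i * z ^ (i : ℕ)) (hy : 1 < V.valuation y) :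
    V.valuation z ^ p = V.valuation y := by
  have hgt : 1 < V.valuation z := by
    by_contra hle
    push Not at hle
    refine not_le.2 hy ?_
    rw [eq_sub_of_add_eq hz.symm]
    refine (Valuation.map_sub _ _ _).trans (max_le ?_ (Valuation.map_sum_le _ fun i _ ↦ ?_))
    · rw [map_pow]; exact pow_le_one₀ zero_le hle
    · rw [map_mul, map_pow]; exact mul_le_one' (hd i) (pow_le_one₀ zero_le hle)
  have hlt : V.valuation (∑ i : Fin p, d i * z ^ (i : ℕ)) < V.valuation (z ^ p) := by
    refine Valuation.map_sum_lt _ ((Valuation.ne_zero_iff _).2 (pow_ne_zero _ fun h0 ↦ by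
      rw [h0, map_zero] at hgt; exact absurd hgt (not_lt.2 zero_le))) fun i _ ↦ ?_
    rw [map_mul, map_pow, map_pow]
    exact (mul_le_of_le_one_left' (hd i)).trans_lt (pow_lt_pow_right₀ hgt i.2)
  rw [eq_sub_of_add_eq hz.symm, Valuation.map_sub_eq_of_lt_left _ hlt, map_pow]

include hπ in
theorem totallyRamified (p : ℕ) (hp : p.Prime) (ξ : K) (z : L) (d : Fin p → A)
    (hz : z ^ p = algebraMap K L ξ + ∑ i : Fin p, algebraMap K L (algebraMap A K (d i)) * z ^ (i : ℕ)) (hgen : IntermediateField.adjoin K {z} = ⊤)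
    (n : ℕ) (a : Aˣ) (hn : 0 < n) (hpn : ¬ p ∣ n) (h : ξ * algebraMap A K π ^ n = algebraMap A K a) :
    EtRam.IsTotallyRamified A ((algebraMap K L).comp (algebraMap A K)) ∧ Module.finrank K L = p := by
  classical
  obtain ⟨F, hFm, hFd, hzF⟩ := exists_monic p hp.pos (fun i ↦ algebraMap A K (d i)) ξ z hz
  have hrep := exists_coeffs p z F hFm hFd hzF hgen hp.pos
  have hvz : ∀ {V : ValuationSubring L}, EtRam.Dominates A ((algebraMap K L).comp (algebraMap A K)) V →
      V.valuation z ^ p = (V.valuation (algebraMap K L (algebraMap A K π)) ^ n)⁻¹ := by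
    intro V hV
    have hy := congrArg (fun x ↦ V.valuation (algebraMap K L x)) h
    simp only [map_mul, map_pow, Groth.Agent.S7158.val_unit A π hπ hV] at hy
    rw [← eq_inv_of_mul_eq_one_left hy]
    refine val_z V p _ (fun i ↦ (V.valuation_le_one_iff _).2 (hV.1 (d i))) z _ hz ?_
    rw [eq_inv_of_mul_eq_one_left hy]
    exact (one_lt_inv₀ (pow_pos (val_pos A π hπ hV) n)).2
      (pow_lt_one₀ zero_le (val_lt_one A π hπ hV) hn.ne')
  obtain ⟨V₀, hV₀⟩ := exists_dominates (K := K) (L := L) A
  refine ⟨⟨⟨V₀, hV₀⟩, fun V V' hV hV' ↦ ?_, fun V hV r ↦ ?_⟩, ?_⟩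
  · ext y
    obtain ⟨c, rfl⟩ := hrep y
    rw [← V.valuation_le_one_iff, ← V'.valuation_le_one_iff,
      (val_sum_distinct A π hπ hV p n hp hpn z (hvz hV) c).2.1,
      (val_sum_distinct A π hπ hV' p n hp hpn z (hvz hV') c).2.1]
  · obtain ⟨⟨y, hy⟩, rfl⟩ := IsLocalRing.residue_surjective r
    obtain ⟨c, rfl⟩ := hrep y
    obtain ⟨-, h2, h3⟩ := val_sum_distinct A π hπ hV p n hp hpn z (hvz hV) c
    have hcs := h2.1 ((V.valuation_le_one_iff _).2 hy)
    have hterm : ∀ i : Fin p, V.valuation (algebraMap K L (c i) * z ^ (i : ℕ)) ≤ 1 := by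
      intro i
      obtain ⟨b, hb⟩ := hcs i
      rw [← pow_le_one_iff hp.ne_zero, map_mul, map_pow, mul_pow, ← pow_mul, mul_comm (i : ℕ) p, pow_mul,
        hvz hV, inv_pow, ← pow_mul, ← div_eq_mul_inv, ← map_pow V.valuation, ← map_pow V.valuation,
        ← map_div₀, ← map_pow, ← map_pow, ← map_div₀, ← hb]
      exact (V.valuation_le_one_iff _).2 (hV.1 b)
    have hp0 : 0 < p := hp.pos
    obtain ⟨a₀, ha₀⟩ := (val_mem_range A π hπ hV (c ⟨0, hp0⟩)).1 (by simpa using hterm ⟨0, hp0⟩)
    refine ⟨a₀, ?_⟩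
    rw [← sub_eq_zero]
    simp only [← map_sub]
    rw [IsLocalRing.residue_eq_zero_iff]
    refine (V.valuation_lt_one_iff _).2 ?_
    change V.valuation (algebraMap K L (algebraMap A K a₀) - ∑ i : Fin p, algebraMap K L (c i) * z ^ (i : ℕ)) < 1
    rw [Finset.sum_eq_add_sum_sdiff_singleton_of_mem (Finset.mem_univ (⟨0, hp0⟩ : Fin p)), ha₀]
    simp only [pow_zero, mul_one, sub_add_cancel_left, Valuation.map_neg]
    refine Valuation.map_sum_lt _ one_ne_zero fun i hi ↦ lt_of_le_of_ne (hterm i) (h3 i ?_)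
    rw [Finset.mem_sdiff, Finset.mem_singleton] at hi
    exact fun h0 ↦ hi.2 (Fin.ext h0)
  · haveI : FiniteDimensional K L := by
      haveI := IntermediateField.adjoin.finiteDimensional (K := K) (x := z) ⟨F, hFm, hzF⟩
      exact Module.Finite.equiv ((IntermediateField.equivOfEq hgen).trans IntermediateField.topEquiv).toLinearEquiv
    refine le_antisymm ?_ ?_
    · rw [← IntermediateField.finrank_top', ← hgen, IntermediateField.adjoin.finrank ⟨F, hFm, hzF⟩, ← hFd]
      exact natDegree_le_of_dvd (minpoly.dvd K z hzF) hFm.ne_zero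
    · have hli : LinearIndependent K (fun i : Fin p ↦ z ^ (i : ℕ)) := by
        rw [Fintype.linearIndependent_iff]
        intro c hc i
        exact congrFun ((val_sum_distinct A π hπ hV₀ p n hp hpn z (hvz hV₀) c).1
          (by simpa [Algebra.smul_def] using hc)) i
      simpa using hli.fintype_card_le_finrank

include hπ in
theorem inseparable (p : ℕ) (hp : p.Prime) [CharP (IsLocalRing.ResidueField A) p] (w : L) (a : A) (b : Fin p → A)
    (hb : ∀ i, b i ∈ IsLocalRing.maximalIdeal A)
    (hwq : w ^ p = algebraMap K L (algebraMap A K a) + ∑ i : Fin p, algebraMap K L (algebraMap A K (b i)) * w ^ (i : ℕ))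
    (hwgen : IntermediateField.adjoin K {w} = ⊤)
    (hr : ∀ r : A, IsLocalRing.residue A a ≠ IsLocalRing.residue A r ^ p) :
    let g := (algebraMap K L).comp (algebraMap A K)
    (∃ V : ValuationSubring L, EtRam.Dominates A g V) ∧
      (∀ V V' : ValuationSubring L, EtRam.Dominates A g V → EtRam.Dominates A g V' → V = V') ∧
      ∀ (V : ValuationSubring L) (h : EtRam.Dominates A g V),
        letI : Algebra A V := (RingHom.codRestrict g V h.1).toAlgebra
        ∀ [IsLocalHom (algebraMap A V)],
          EtRam.IsWeaklyUnramified A V ∧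
            IsPurelyInseparable (IsLocalRing.ResidueField A) (IsLocalRing.ResidueField V) ∧
            Module.finrank (IsLocalRing.ResidueField A) (IsLocalRing.ResidueField V) = p := by
  intro g
  obtain ⟨q, hqm, hqd, hqw⟩ := exists_monic p hp.pos (fun i ↦ algebraMap A K (b i)) (algebraMap A K a) w hwq
  have hrep := exists_coeffs p w q hqm hqd hqw hwgen hp.pos
  -- the structure at a dominating valuation ring
  have main : ∀ (V : ValuationSubring L) (hV : EtRam.Dominates A ((algebraMap K L).comp (algebraMap A K)) V),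
      letI : Algebra A V := (RingHom.codRestrict ((algebraMap K L).comp (algebraMap A K)) V hV.1).toAlgebra
      ∀ [IsLocalHom (algebraMap A V)],
        (∀ c : Fin p → K, V.valuation (∑ i : Fin p, algebraMap K L (c i) * w ^ (i : ℕ)) ≤ 1 ↔
          ∀ i, ∃ b : A, algebraMap A K b = c i) ∧
        (∀ c : Fin p → A, V.valuation (∑ i : Fin p, algebraMap K L (algebraMap A K (c i)) * w ^ (i : ℕ)) < 1 ↔
          ∀ i, c i ∈ IsLocalRing.maximalIdeal A) ∧
        ∃ hwV : w ∈ V, IsLocalRing.residue V ⟨w, hwV⟩ ^ p =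
          algebraMap (IsLocalRing.ResidueField A) (IsLocalRing.ResidueField V) (IsLocalRing.residue A a) := by
    intro V hV
    intro _
    letI : Algebra A V := (RingHom.codRestrict ((algebraMap K L).comp (algebraMap A K)) V hV.1).toAlgebra
    have hone : ∀ b : A, V.valuation (algebraMap K L (algebraMap A K b)) ≤ 1 :=
      fun b ↦ (V.valuation_le_one_iff _).2 (hV.1 b)
    have hvw : V.valuation w ≤ 1 := by
      by_contra hgt
      push Not at hgt
      have hy : algebraMap K L (algebraMap A K a) = w ^ p - ∑ i : Fin p, algebraMap K L (algebraMap A K (b i)) * w ^ (i : ℕ) :=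
        eq_sub_of_add_eq hwq.symm
      have hlt : V.valuation (∑ i : Fin p, algebraMap K L (algebraMap A K (b i)) * w ^ (i : ℕ)) < V.valuation (w ^ p) := by
        refine Valuation.map_sum_lt _ ((Valuation.ne_zero_iff _).2 (pow_ne_zero _ fun h0 ↦ by
          rw [h0, map_zero] at hgt; exact absurd hgt (not_lt.2 zero_le))) fun i _ ↦ ?_
        rw [map_mul, map_pow, map_pow]
        exact (mul_le_of_le_one_left' (hone _)).trans_lt (pow_lt_pow_right₀ hgt i.2)
      have h3 : V.valuation (w ^ p) ≤ 1 := by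
        have := hone a
        rwa [hy, Valuation.map_sub_eq_of_lt_left _ hlt] at this
      rw [map_pow] at h3
      exact absurd (one_lt_pow₀ hgt hp.ne_zero) (not_lt.2 h3)
    have hwV : w ∈ V := (V.valuation_le_one_iff _).1 hvw
    have hres : IsLocalRing.residue V ⟨w, hwV⟩ ^ p =
        algebraMap (IsLocalRing.ResidueField A) (IsLocalRing.ResidueField V) (IsLocalRing.residue A a) := by
      have heq : (⟨w, hwV⟩ : V) ^ p = algebraMap A V a + ∑ i : Fin p, algebraMap A V (b i) * (⟨w, hwV⟩ : V) ^ (i : ℕ) := by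
        apply Subtype.ext
        rw [AddMemClass.coe_add, AddSubmonoidClass.coe_finsetSum]
        exact hwq
      rw [IsLocalRing.ResidueField.algebraMap_residue, ← map_pow, heq, map_add, add_eq_left, map_sum]
      refine Finset.sum_eq_zero fun i _ ↦ ?_
      rw [map_mul, (IsLocalRing.residue_eq_zero_iff (algebraMap A V (b i))).2
        (fun hu ↦ hb i (isUnit_of_map_unit (algebraMap A V) (b i) hu)), zero_mul]
    have hirr : Irreducible (X ^ p - C (IsLocalRing.residue A a) : (IsLocalRing.ResidueField A)[X]) := by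
      refine X_pow_sub_C_irreducible_of_prime hp fun r hr' ↦ ?_
      obtain ⟨r, rfl⟩ := IsLocalRing.residue_surjective r
      exact hr r hr'.symm
    have hindep : ∀ c : Fin p → A, V.valuation (∑ i : Fin p, algebraMap K L (algebraMap A K (c i)) * w ^ (i : ℕ)) < 1 →
        ∀ i, c i ∈ IsLocalRing.maximalIdeal A := by
      intro c hc i
      have hsum : (∑ i : Fin p, algebraMap A V (c i) * (⟨w, hwV⟩ : V) ^ (i : ℕ)) ∈ IsLocalRing.maximalIdeal V := by
        rw [V.valuation_lt_one_iff, AddSubmonoidClass.coe_finsetSum]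
        exact hc
      rw [← IsLocalRing.residue_eq_zero_iff, map_sum] at hsum
      simp only [map_mul, map_pow, ← IsLocalRing.ResidueField.algebraMap_residue] at hsum
      set Q : (IsLocalRing.ResidueField A)[X] := ∑ i : Fin p, C (IsLocalRing.residue A (c i)) * X ^ (i : ℕ)
      have hQ0 : aeval (IsLocalRing.residue V ⟨w, hwV⟩) Q = 0 := by simpa [Q] using hsum
      have hdvd := minpoly.dvd _ _ hQ0
      rw [← minpoly.eq_of_irreducible_of_monic hirr (by simp [hres]) (monic_X_pow_sub_C _ hp.ne_zero)] at hdvd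
      have hQdeg : Q.degree < (X ^ p - C (IsLocalRing.residue A a) : (IsLocalRing.ResidueField A)[X]).degree := by
        rw [degree_X_pow_sub_C hp.pos]
        refine (degree_sum_le _ _).trans_lt ((Finset.sup_lt_iff (WithBot.bot_lt_coe p)).2 fun i _ ↦ ?_)
        exact (degree_C_mul_X_pow_le _ _).trans_lt (WithBot.coe_lt_coe.2 i.2)
      have hQ := eq_zero_of_dvd_of_degree_lt hdvd hQdeg
      have := congrArg (fun R : (IsLocalRing.ResidueField A)[X] ↦ R.coeff i) hQ
      rw [← IsLocalRing.residue_eq_zero_iff]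
      simpa [Q, finsetSum_coeff, coeff_X_pow, Fin.val_inj] using this
    have hle1 : ∀ c : Fin p → A, V.valuation (∑ i : Fin p, algebraMap K L (algebraMap A K (c i)) * w ^ (i : ℕ)) ≤ 1 :=
      fun c ↦ Valuation.map_sum_le _ fun i _ ↦ by
        rw [map_mul, map_pow]; exact mul_le_one' (hone _) (pow_le_one₀ zero_le hvw)
    refine ⟨fun c ↦ ⟨fun hc ↦ ?_, fun hc ↦ ?_⟩, fun c ↦ ⟨hindep c, fun hc ↦ ?_⟩, hwV, hres⟩
    · haveI : Nonempty (Fin p) := ⟨⟨0, hp.pos⟩⟩
      obtain ⟨k, -, hk⟩ := Finset.exists_max_image Finset.univ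
        (fun i : Fin p ↦ V.valuation (algebraMap K L (c i))) Finset.univ_nonempty
      intro i
      rcases eq_or_ne (c k) 0 with hk0 | hk0
      · have := hk i (Finset.mem_univ _)
        rw [hk0, map_zero, map_zero, le_zero_iff, Valuation.zero_iff, _root_.map_eq_zero] at this
        exact ⟨0, by rw [map_zero, this]⟩
      have hvk : 0 < V.valuation (algebraMap K L (c k)) :=
        zero_lt_iff.2 ((Valuation.ne_zero_iff _).2 ((_root_.map_ne_zero _).2 hk0))
      have hdiv : ∀ j, ∃ b : A, algebraMap A K b = c j / c k := fun j ↦ by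
        rw [← val_mem_range A π hπ hV, map_div₀, map_div₀, div_le_one₀ hvk]
        exact hk j (Finset.mem_univ _)
      choose d hd using hdiv
      have hk1 : ¬ (d k ∈ IsLocalRing.maximalIdeal A) := by
        have : d k = 1 := IsFractionRing.injective A K (by rw [hd, div_self hk0, map_one])
        rw [this]
        exact fun h1 ↦ h1 isUnit_one
      have hnot : ¬ V.valuation (∑ i : Fin p, algebraMap K L (algebraMap A K (d i)) * w ^ (i : ℕ)) < 1 :=
        fun hlt ↦ hk1 (hindep d hlt k)
      have hval : V.valuation (∑ i : Fin p, algebraMap K L (c i) * w ^ (i : ℕ)) = V.valuation (algebraMap K L (c k)) := by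
        have hfac : (∑ i : Fin p, algebraMap K L (c i) * w ^ (i : ℕ)) =
            algebraMap K L (c k) * ∑ i : Fin p, algebraMap K L (algebraMap A K (d i)) * w ^ (i : ℕ) := by
          rw [Finset.mul_sum]
          refine Finset.sum_congr rfl fun j _ ↦ ?_
          rw [← mul_assoc, ← map_mul, hd, mul_div_cancel₀ _ hk0]
        rw [hfac, map_mul, le_antisymm (hle1 d) (not_lt.1 hnot), mul_one]
      rw [hval] at hc
      exact (val_mem_range A π hπ hV _).1 ((hk i (Finset.mem_univ _)).trans hc)
    · choose b hb using hc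
      simp only [← hb]
      exact hle1 b
    · refine Valuation.map_sum_lt _ one_ne_zero fun i _ ↦ ?_
      rw [map_mul, map_pow]
      exact mul_lt_one_of_lt_of_le (hV.2 _ (hc i)) (pow_le_one₀ zero_le hvw)
  refine ⟨exists_dominates (K := K) (L := L) A, fun V V' hV hV' ↦ ?_, fun V hV ↦ ?_⟩
  · haveI := EtRamLib.ValTower.isLocalHom_of_dominates V hV
    haveI := EtRamLib.ValTower.isLocalHom_of_dominates V' hV'
    ext y
    obtain ⟨c, rfl⟩ := hrep y
    rw [← V.valuation_le_one_iff, ← V'.valuation_le_one_iff, (main V hV).1 c, (main V' hV').1 c]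
  · intro _
    letI : Algebra A V := (RingHom.codRestrict ((algebraMap K L).comp (algebraMap A K)) V hV.1).toAlgebra
    obtain ⟨h1, h2, hwV, hres⟩ := main V hV
    set wb := IsLocalRing.residue V ⟨w, hwV⟩ with hwb
    have hvals : ∀ y : V, ∃ c : Fin p → A, y = ∑ i : Fin p, algebraMap A V (c i) * (⟨w, hwV⟩ : V) ^ (i : ℕ) := by
      intro y
      obtain ⟨c, hc⟩ := hrep (y : L)
      have := (h1 c).1 (hc ▸ (V.valuation_le_one_iff _).2 y.2)
      choose b hb using this
      refine ⟨b, Subtype.ext ?_⟩
      rw [hc, AddSubmonoidClass.coe_finsetSum]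
      refine Finset.sum_congr rfl fun i _ ↦ ?_
      change _ = algebraMap K L (algebraMap A K (b i)) * w ^ (i : ℕ)
      rw [hb i]
    have hspan : ∀ x : IsLocalRing.ResidueField V, ∃ c : Fin p → A,
        x = ∑ i : Fin p, algebraMap (IsLocalRing.ResidueField A) (IsLocalRing.ResidueField V) (IsLocalRing.residue A (c i)) * wb ^ (i : ℕ) := by
      intro x
      obtain ⟨y, rfl⟩ := IsLocalRing.residue_surjective x
      obtain ⟨c, rfl⟩ := hvals y
      exact ⟨c, by simp only [map_sum, map_mul, map_pow, wb, IsLocalRing.ResidueField.algebraMap_residue]⟩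
    refine ⟨le_antisymm ?_ fun y hy ↦ ?_, ?_, ?_⟩
    · rw [Ideal.map_le_iff_le_comap]
      exact fun b hb hu ↦ hb (isUnit_of_map_unit (algebraMap A V) b hu)
    · obtain ⟨c, rfl⟩ := hvals y
      rw [V.valuation_lt_one_iff, AddSubmonoidClass.coe_finsetSum] at hy
      have hc := (h2 c).1 hy
      exact Ideal.sum_mem _ fun i _ ↦ Ideal.mul_mem_right _ _ (Ideal.mem_map_of_mem _ (hc i))
    · haveI : Fact p.Prime := ⟨hp⟩
      haveI : CharP (IsLocalRing.ResidueField V) p := charP_of_injective_algebraMap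
        (algebraMap (IsLocalRing.ResidueField A) (IsLocalRing.ResidueField V)).injective p
      haveI : ExpChar (IsLocalRing.ResidueField A) p := ExpChar.prime hp
      rw [isPurelyInseparable_iff_pow_mem (IsLocalRing.ResidueField A) p]
      intro x
      obtain ⟨c, rfl⟩ := hspan x
      refine ⟨1, ?_⟩
      rw [pow_one, sum_pow_char]
      refine Subring.sum_mem _ fun i _ ↦ ?_
      rw [mul_pow, ← pow_mul, mul_comm (i : ℕ) p, pow_mul, hres]
      exact mul_mem (pow_mem (RingHom.mem_range_self _ _) _) (pow_mem (RingHom.mem_range_self _ _) _)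
    · have hli : LinearIndependent (IsLocalRing.ResidueField A) (fun i : Fin p ↦ wb ^ (i : ℕ)) := by
        rw [Fintype.linearIndependent_iff]
        intro c hc i
        choose b hb using fun i ↦ IsLocalRing.residue_surjective (c i)
        have : V.valuation (∑ i : Fin p, algebraMap K L (algebraMap A K (b i)) * w ^ (i : ℕ)) < 1 := by
          have hmem : (∑ i : Fin p, algebraMap A V (b i) * (⟨w, hwV⟩ : V) ^ (i : ℕ)) ∈ IsLocalRing.maximalIdeal V := by
            rw [← IsLocalRing.residue_eq_zero_iff, map_sum]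
            simp only [Algebra.smul_def, ← hb, wb, IsLocalRing.ResidueField.algebraMap_residue] at hc
            simp only [map_mul, map_pow]
            exact hc
          rw [V.valuation_lt_one_iff, AddSubmonoidClass.coe_finsetSum] at hmem
          exact hmem
        rw [← hb i, IsLocalRing.residue_eq_zero_iff]
        exact (h2 b).1 this i
      have hsp : ⊤ ≤ Submodule.span (IsLocalRing.ResidueField A) (Set.range fun i : Fin p ↦ wb ^ (i : ℕ)) := by
        intro x _
        obtain ⟨c, rfl⟩ := hspan x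
        refine Submodule.sum_mem _ fun i _ ↦ ?_
        rw [← Algebra.smul_def]
        exact Submodule.smul_mem _ _ (Submodule.subset_span ⟨i, rfl⟩)
      rw [Module.finrank_eq_card_basis (Module.Basis.mk hli hsp), Fintype.card_fin]


end Groth.Agent.EtRamLib.PRootCases
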