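import Mathlib
import Groth.Prelude.Def_EtRam
import Groth.Agent.EtRamLib.ValTower
import Groth.Agent.RegLoc.KAExt
import Groth.Agent.CAlgA.VNR

/-!
# Weakly unramified extensions with separable residue fields are preserved by finite base change
-/

set_option autoImplicit false
universe u

open IsLocalRing TensorProduct

namespace Groth.Agent.EtRamLib.Solution

/-- a valuation ring of a finite extension dominating a DVR is a DVR -/
theorem isDVR (A K : Type u) [CommRing A] [IsDomain A] [IsDiscreteValuationRing A] [Field K] [Algebra A K]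
    [IsFractionRing A K] (L : Type u) [Field L] [Algebra K L] [FiniteDimensional K L] (V : ValuationSubring L)
    (hV : EtRam.Dominates A ((algebraMap K L).comp (algebraMap A K)) V) : IsDiscreteValuationRing V := by
  letI : Algebra A L := ((algebraMap K L).comp (algebraMap A K)).toAlgebra
  haveI : IsScalarTower A K L := IsScalarTower.of_algebraMap_eq fun _ ↦ rfl
  let S : Subalgebra A L := { V.toSubring.toSubsemiring with algebraMap_mem' := fun a ↦ hV.1 a }
  haveI : IsNoetherianRing S := RegLoc.isNoetherianRing_of_between (R := A) (K := K) S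
  let e : S ≃+* V :=
    { toFun := fun z ↦ ⟨z.1, z.2⟩
      invFun := fun z ↦ ⟨z.1, z.2⟩
      left_inv := fun _ ↦ rfl
      right_inv := fun _ ↦ rfl
      map_mul' := fun _ _ ↦ rfl
      map_add' := fun _ _ ↦ rfl }
  haveI : IsNoetherianRing V := isNoetherianRing_of_ringEquiv S e
  obtain ⟨π, hπ⟩ := IsDiscreteValuationRing.exists_irreducible A
  have hnf : ¬ IsField V := by
    intro hf
    let x : V := ⟨_, hV.1 π⟩
    have hx : x ∈ maximalIdeal V := (V.valuation_lt_one_iff x).2 (hV.2 π
      (hπ.maximalIdeal_eq ▸ Ideal.mem_span_singleton_self π))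
    have hx0 : x ≠ 0 := fun h ↦ hπ.ne_zero (IsFractionRing.injective A K ((algebraMap K L).injective
      (by rw [map_zero, map_zero]; exact congrArg Subtype.val h)))
    rw [IsLocalRing.isField_iff_maximalIdeal_eq.1 hf, Ideal.mem_bot] at hx
    exact hx0 hx
  exact ((IsDiscreteValuationRing.TFAE V hnf).out 1 0).mp (inferInstance : ValuationRing V)

/-- the residue field of a DVR inside a finite extension is algebraic -/
theorem residue_isAlgebraic (A K : Type u) [CommRing A] [IsDomain A] [IsDiscreteValuationRing A] [Field K]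
    [Algebra A K] [IsFractionRing A K] (L : Type u) [Field L] [Algebra K L] [FiniteDimensional K L]
    [Algebra A L] [IsScalarTower A K L] (V : ValuationSubring L) [Algebra A V] [IsScalarTower A V L]
    [IsLocalHom (algebraMap A V)] : Algebra.IsAlgebraic (ResidueField A) (ResidueField V) := by
  constructor
  intro x
  obtain ⟨v, rfl⟩ := IsLocalRing.residue_surjective x
  obtain ⟨q, hq, hqv⟩ : IsAlgebraic A (v : L) :=
    (IsFractionRing.isAlgebraic_iff A K L).2 (Algebra.IsAlgebraic.isAlgebraic _)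
  obtain ⟨π, hπ⟩ := IsDiscreteValuationRing.exists_irreducible A
  have hCπ : Irreducible (Polynomial.C π) := (Polynomial.prime_C_iff.2 hπ.prime).irreducible
  obtain ⟨n, r, hr, rfl⟩ := WfDvdMonoid.max_power_factor hq hCπ
  refine ⟨r.map (IsLocalRing.residue A), fun h ↦ hr ((Polynomial.C_dvd_iff_dvd_coeff _ _).2 fun i ↦ ?_), ?_⟩
  · rw [← Ideal.mem_span_singleton, ← hπ.maximalIdeal_eq, ← residue_eq_zero_iff, ← Polynomial.coeff_map, h,
      Polynomial.coeff_zero]
  · have hinj : Function.Injective (algebraMap A L) := by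
      rw [IsScalarTower.algebraMap_eq A K L]
      exact (algebraMap K L).injective.comp (IsFractionRing.injective A K)
    have h0 : Polynomial.aeval v r = 0 := by
      apply Subtype.ext
      rw [map_mul, map_pow, Polynomial.aeval_C, mul_eq_zero,
        pow_eq_zero_iff'] at hqv
      rcases hqv with ⟨h, -⟩ | h
      · exact absurd (hinj (h.trans (map_zero _).symm)) hπ.ne_zero
      · change algebraMap V L (Polynomial.aeval v r) = 0
        rw [← Polynomial.aeval_algebraMap_apply]
        exact h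
    rw [Polynomial.aeval_def, Polynomial.eval₂_map, show (algebraMap (ResidueField A) (ResidueField V)).comp (residue A) = (residue V).comp (algebraMap A V) from rfl,
      ← Polynomial.hom_eval₂, ← Polynomial.aeval_def, h0, map_zero]

/-- a compositum of a finite extension with a field is finite over the field -/
theorem surjective_lift (K L K₁ M : Type u) [Field K] [Field L] [Field K₁] [Field M] [Algebra K L] [Algebra K K₁]
    [Algebra K M] [Algebra L M] [Algebra K₁ M] [IsScalarTower K L M] [IsScalarTower K K₁ M]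
    (hgen : Algebra.adjoin L (Set.range (algebraMap K₁ M)) = ⊤) :
    Function.Surjective (Algebra.TensorProduct.lift (Algebra.ofId L M) (IsScalarTower.toAlgHom K K₁ M)
      fun _ _ ↦ Commute.all _ _ : L ⊗[K] K₁ →ₐ[L] M) := by
  rw [← AlgHom.range_eq_top, eq_top_iff, ← hgen]
  refine Algebra.adjoin_le ?_
  rintro _ ⟨x, rfl⟩
  exact ⟨1 ⊗ₜ x, by simp⟩

/-- generated quotient of a base change of a geometrically reduced extension, algebraic case -/
theorem geometricallyReduced_of_surjective {κ κB κ₁ κW : Type u} [Field κ] [Field κB] [Field κ₁] [Field κW]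
    [Algebra κ κB] [Algebra κ κ₁] [Algebra κ κW] [Algebra κB κW] [Algebra κ₁ κW] [IsScalarTower κ κB κW]
    [IsScalarTower κ κ₁ κW] [Algebra.IsAlgebraic κ κ₁] [Algebra.IsGeometricallyReduced κ κB]
    (hs : Function.Surjective (Algebra.TensorProduct.lift (Algebra.ofId κ₁ κW) (IsScalarTower.toAlgHom κ κB κW)
      fun _ _ ↦ Commute.all _ _ : κ₁ ⊗[κ] κB →ₐ[κ₁] κW)) :
    Algebra.IsGeometricallyReduced κ₁ κW := by
  set θ := (Algebra.TensorProduct.lift (Algebra.ofId κ₁ κW) (IsScalarTower.toAlgHom κ κB κW)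
      fun _ _ ↦ Commute.all _ _ : κ₁ ⊗[κ] κB →ₐ[κ₁] κW)
  letI : Algebra κB (κ₁ ⊗[κ] κB) := Algebra.TensorProduct.rightAlgebra
  haveI : IsScalarTower κ κB (κ₁ ⊗[κ] κB) := Algebra.TensorProduct.right_isScalarTower
  haveI : Algebra.IsIntegral κB (κ₁ ⊗[κ] κB) := by
    refine ⟨fun z ↦ ?_⟩
    induction z using TensorProduct.induction_on with
    | zero => exact isIntegral_zero
    | add a b ha hb => exact ha.add hb
    | tmul a b =>
      have ha : IsIntegral κB (a ⊗ₜ[κ] (1 : κB)) :=
        ((Algebra.IsAlgebraic.isAlgebraic (R := κ) a).isIntegral.map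
          (Algebra.TensorProduct.includeLeft : κ₁ →ₐ[κ] κ₁ ⊗[κ] κB)).tower_top
      have hb : IsIntegral κB ((1 : κ₁) ⊗ₜ[κ] b) := isIntegral_algebraMap (x := b)
      simpa using ha.mul hb
  let Ω := AlgebraicClosure κ₁
  haveI : Algebra.IsAlgebraic κ Ω := Algebra.IsAlgebraic.trans κ κ₁ Ω
  haveI : IsReduced (Ω ⊗[κ₁] (κ₁ ⊗[κ] κB)) :=
    isReduced_of_injective (Algebra.TensorProduct.cancelBaseChange κ κ₁ Ω Ω κB) (AlgEquiv.injective _)
  rw [Algebra.isGeometricallyReduced_field_iff]
  refine CAlgA.VNR.isReduced_of_surjective_of_ker (k := κB)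
    (Algebra.TensorProduct.includeRight : κ₁ ⊗[κ] κB →ₐ[κ₁] Ω ⊗[κ₁] (κ₁ ⊗[κ] κB)).toRingHom
    (Algebra.TensorProduct.map (AlgHom.id κ₁ Ω) θ).toRingHom
    (Algebra.TensorProduct.map_surjective (AlgHom.id κ₁ Ω) θ Function.surjective_id hs)
    (RingHom.ker θ) ?_
  exact Algebra.TensorProduct.lTensor_ker θ hs

/-- A subalgebra of `W` which is von Neumann regular modulo `π₁` and generates the field: the ring
`W` is weakly unramified over `A₁`, with residue field given by the subalgebra. -/
theorem criterion {A₁ M : Type u} [CommRing A₁] [IsDomain A₁] [IsDiscreteValuationRing A₁] [Field M]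
    (W : ValuationSubring M) [IsDiscreteValuationRing W] [Algebra A₁ W] [IsLocalHom (algebraMap A₁ W)]
    (hinj : Function.Injective (algebraMap A₁ W)) {π₁ : A₁} (hπ₁ : Irreducible π₁) (S : Subalgebra A₁ W)
    (hfrac : ∀ w : M, ∃ x ∈ S, ∃ y ∈ S, y ≠ 0 ∧ w * (y : M) = (x : M))
    (hreg : ∀ a ∈ S, ∃ b ∈ S, ∃ r ∈ S, a - a * a * b = r * algebraMap A₁ W π₁) :
    EtRam.IsWeaklyUnramified A₁ W ∧ ∀ z : ResidueField W, ∃ s ∈ S, residue W s = z := by
  set q : W := algebraMap A₁ W π₁
  have hq : q ≠ 0 := (map_ne_zero_iff _ hinj).2 hπ₁.ne_zero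
  have hqm : ¬ IsUnit q := fun h ↦ hπ₁.not_isUnit (isUnit_of_map_unit (algebraMap A₁ W) _ h)
  -- non-units are divisible by `π₁`, up to units
  have step : ∀ x ∈ S, ¬ IsUnit x → ∃ t ∈ S, ∃ r ∈ S, IsUnit t ∧ t * x = r * q := by
    intro x hxS hx
    obtain ⟨b, hbS, r, hrS, h⟩ := hreg x hxS
    refine ⟨1 - x * b, sub_mem (one_mem _) (mul_mem hxS hbS), r, hrS, ?_, ?_⟩
    · exact IsLocalRing.isUnit_one_sub_self_of_mem_nonunits _ (fun hu ↦ hx (isUnit_of_mul_isUnit_left hu))
    · linear_combination h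
  have decomp : ∀ (n : ℕ), ∀ x ∈ S, ¬ q ^ n ∣ x → ∃ k, ∃ t ∈ S, ∃ r ∈ S, IsUnit t ∧ IsUnit r ∧ t * x = r * q ^ k := by
    intro n
    induction n with
    | zero => exact fun x _ hn ↦ absurd (one_dvd _) (pow_zero q ▸ hn)
    | succ n ih =>
      intro x hxS hn
      by_cases hu : IsUnit x
      · exact ⟨0, 1, one_mem _, x, hxS, isUnit_one, hu, by simp⟩
      obtain ⟨t, htS, r, hrS, ht, htr⟩ := step x hxS hu
      have hrn : ¬ q ^ n ∣ r := fun h ↦ hn (ht.dvd_mul_left.1 (by
        rw [htr, pow_succ]; exact mul_dvd_mul_right h _))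
      obtain ⟨k, t', ht'S, r', hr'S, ht', hr', h⟩ := ih r hrS hrn
      refine ⟨k + 1, t' * t, mul_mem ht'S htS, r', hr'S, ht'.mul ht, hr', ?_⟩
      rw [mul_assoc, htr, ← mul_assoc, h, pow_succ, mul_assoc]
  have decomp' : ∀ x ∈ S, x ≠ 0 → ∃ k, ∃ t ∈ S, ∃ r ∈ S, IsUnit t ∧ IsUnit r ∧ t * x = r * q ^ k := by
    intro x hxS hx
    obtain ⟨n, hn⟩ := FiniteMultiplicity.of_not_isUnit hqm hx
    exact decomp (n + 1) x hxS hn
  have assoc : ∀ w : W, w ≠ 0 → ∃ k, ∃ t ∈ S, ∃ r ∈ S, IsUnit t ∧ IsUnit r ∧ w * t = r * q ^ k := by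
    intro w hw0
    obtain ⟨x, hxS, y, hyS, hy, hxy⟩ := hfrac w
    have hxy' : w * y = x := Subtype.ext hxy
    have hx : x ≠ 0 := hxy' ▸ mul_ne_zero hw0 hy
    obtain ⟨j, t, htS, r, hrS, ht, hr, h⟩ := decomp' x hxS hx
    obtain ⟨k, t', ht'S, r', hr'S, ht', hr', h'⟩ := decomp' y hyS hy
    have hkj : k ≤ j := by
      by_contra hlt
      push Not at hlt
      have : q ^ k ∣ q ^ j := by
        rw [← (hr.dvd_mul_left (b := q ^ j)), ← h, ← hxy', ← mul_assoc, ← ht'.dvd_mul_left]
        refine ⟨t * w * r', ?_⟩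
        linear_combination (t * w) * h'
      exact absurd ((pow_dvd_pow_iff hq hqm).1 this) (not_le.2 hlt)
    refine ⟨j - k, r' * t, mul_mem hr'S htS, r * t', mul_mem hrS ht'S, hr'.mul ht, hr.mul ht', ?_⟩
    apply mul_right_cancel₀ (pow_ne_zero k hq)
    rw [mul_assoc (r * t'), ← pow_add, Nat.sub_add_cancel hkj]
    linear_combination t' * h - (w * t) * h' + (t * t') * hxy'
  refine ⟨le_antisymm (Ideal.map_le_iff_le_comap.2 fun a ha ↦ map_nonunit (algebraMap A₁ W) a ha) fun w hw' ↦ ?_, fun z ↦ ?_⟩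
  · rcases eq_or_ne w 0 with rfl | hw0
    · exact zero_mem _
    obtain ⟨k, t, -, r, -, ht, hr, h⟩ := assoc w hw0
    rw [hπ₁.maximalIdeal_eq, Ideal.map_span, Set.image_singleton, Ideal.mem_span_singleton, ← ht.dvd_mul_right]
    rcases Nat.eq_zero_or_pos k with rfl | hk
    · rw [pow_zero, mul_one] at h
      exact absurd (isUnit_of_mul_isUnit_left (h ▸ hr)) hw'
    · rw [h]
      exact dvd_mul_of_dvd_right (dvd_pow_self _ hk.ne') _
  · obtain ⟨w, rfl⟩ := IsLocalRing.residue_surjective z
    by_cases hwm : IsUnit w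
    swap
    · exact ⟨0, zero_mem _, by rw [map_zero, (residue_eq_zero_iff w).2 hwm]⟩
    obtain ⟨k, t, htS, r, hrS, ht, hr, h⟩ := assoc w hwm.ne_zero
    rcases Nat.eq_zero_or_pos k with rfl | hk
    · obtain ⟨b, hbS, r₀, -, hb⟩ := hreg t htS
      refine ⟨r * b, mul_mem hrS hbS, ?_⟩
      rw [pow_zero, mul_one] at h
      have h1 := congrArg (residue W) hb
      rw [map_mul (residue W) r₀, (residue_eq_zero_iff q).2 hqm, mul_zero, map_sub, map_mul, map_mul] at h1
      apply mul_left_cancel₀ ((residue_ne_zero_iff_isUnit _).2 ht)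
      rw [← h, map_mul, map_mul]
      linear_combination -(residue W w) * h1
    · exact absurd (isUnit_of_dvd_unit (dvd_mul_of_dvd_right (dvd_pow_self _ hk.ne') r) (h ▸ hwm.mul ht)) hqm

/-- The local extensions of a weakly unramified extension with separable or trivial residue field extension -/
theorem main' (A B K L K₁ M : Type u) [CommRing A] [IsDomain A] [IsDiscreteValuationRing A]
    [CommRing B] [IsDomain B] [IsDiscreteValuationRing B] [Algebra A B] [IsLocalHom (algebraMap A B)]
    [Field K] [Field L] [Field K₁] [Field M] [Algebra A K] [IsFractionRing A K] [Algebra B L] [IsFractionRing B L]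
    [Algebra K L] [Algebra A L] [IsScalarTower A K L] [IsScalarTower A B L]
    (hw : EtRam.IsWeaklyUnramified A B)
    [Algebra K K₁] [FiniteDimensional K K₁]
    [Algebra K M] [Algebra L M] [Algebra K₁ M] [IsScalarTower K L M] [IsScalarTower K K₁ M]
    (hgen : Algebra.adjoin L (Set.range (algebraMap K₁ M)) = ⊤) (W : ValuationSubring M)
    (hW : EtRam.Dominates B ((algebraMap L M).comp (algebraMap B L)) W)
    (hres : Algebra.IsGeometricallyReduced (ResidueField A) (ResidueField B) ∨
      EtRam.IsTotallyRamified A ((algebraMap K K₁).comp (algebraMap A K))) :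
    letI : Algebra (W.comap (algebraMap K₁ M)) W := (EtRam.inclOfComap W (algebraMap K₁ M)).toAlgebra
    EtRam.IsWeaklyUnramified (W.comap (algebraMap K₁ M)) W ∧
      (Algebra.IsGeometricallyReduced (ResidueField A) (ResidueField B) → @Algebra.IsGeometricallyReduced (ResidueField (W.comap (algebraMap K₁ M))) (ResidueField W) _ _
        (IsLocalRing.ResidueField.map (EtRam.inclOfComap W (algebraMap K₁ M))).toAlgebra) ∧
      (EtRam.IsTotallyRamified A ((algebraMap K K₁).comp (algebraMap A K)) → ∀ z : ResidueField W,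
        ∃ b : B, residue W (((algebraMap L M).comp (algebraMap B L)).codRestrict W hW.1 b) = z) := by
  classical
  have hAM : (algebraMap L M).comp ((algebraMap B L).comp (algebraMap A B)) =
      (algebraMap K M).comp (algebraMap A K) := by
    rw [← IsScalarTower.algebraMap_eq A B L, IsScalarTower.algebraMap_eq A K L, ← RingHom.comp_assoc,
      ← IsScalarTower.algebraMap_eq K L M]
  have hWA : EtRam.Dominates A ((algebraMap K M).comp (algebraMap A K)) W := by
    rw [← hAM]
    exact ⟨fun a ↦ hW.1 _, fun a ha ↦ hW.2 _ ((map_nonunit (algebraMap A B) a) ha)⟩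
  obtain ⟨hV, -⟩ := ValTower.dominates_tower A K K₁ M W hWA
  let A₁ := W.comap (algebraMap K₁ M)
  haveI : FiniteDimensional L M := Module.Finite.of_surjective
    (Algebra.TensorProduct.lift (Algebra.ofId L M) (IsScalarTower.toAlgHom K K₁ M)
      fun _ _ ↦ Commute.all _ _ : L ⊗[K] K₁ →ₐ[L] M).toLinearMap (surjective_lift K L K₁ M hgen)
  haveI : IsDiscreteValuationRing A₁ := isDVR A K K₁ A₁ hV
  haveI : IsDiscreteValuationRing W := isDVR B L M W hW
  letI : Algebra A₁ W := (EtRam.inclOfComap W (algebraMap K₁ M)).toAlgebra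
  letI : Algebra B W := (((algebraMap L M).comp (algebraMap B L)).codRestrict W hW.1).toAlgebra
  letI : Algebra A A₁ := (((algebraMap K K₁).comp (algebraMap A K)).codRestrict A₁ hV.1).toAlgebra
  letI : Algebra A W := ((algebraMap B W).comp (algebraMap A B)).toAlgebra
  letI : Algebra A K₁ := ((algebraMap K K₁).comp (algebraMap A K)).toAlgebra
  haveI : IsScalarTower A K K₁ := IsScalarTower.of_algebraMap_eq fun _ ↦ rfl
  haveI : IsScalarTower A A₁ K₁ := IsScalarTower.of_algebraMap_eq fun _ ↦ rfl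
  haveI : IsScalarTower A B W := IsScalarTower.of_algebraMap_eq fun _ ↦ rfl
  haveI : IsScalarTower A A₁ W := IsScalarTower.of_algebraMap_eq fun a ↦ Subtype.ext <| by
    change algebraMap L M (algebraMap B L (algebraMap A B a)) = algebraMap K₁ M (algebraMap K K₁ (algebraMap A K a))
    rw [← IsScalarTower.algebraMap_apply K K₁ M]
    exact RingHom.congr_fun hAM a
  haveI : IsLocalHom (algebraMap A A₁) := ValTower.isLocalHom_of_dominates A₁ hV
  haveI : IsLocalHom (algebraMap B W) := ValTower.isLocalHom_of_dominates W hW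
  haveI : IsLocalHom (algebraMap A₁ W) := inferInstanceAs (IsLocalHom (EtRam.inclOfComap W (algebraMap K₁ M)))
  haveI : IsLocalHom (algebraMap A W) := RingHom.isLocalHom_comp (algebraMap B W) (algebraMap A B)
  haveI := ValTower.residue_tower A B W
  haveI := ValTower.residue_tower A A₁ W
  haveI := residue_isAlgebraic A K K₁ A₁
  obtain ⟨π, hπ⟩ := IsDiscreteValuationRing.exists_irreducible A
  obtain ⟨π₁, hπ₁⟩ := IsDiscreteValuationRing.exists_irreducible A₁
  have hmB : maximalIdeal B = Ideal.span {algebraMap A B π} := by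
    rw [← hw, hπ.maximalIdeal_eq, Ideal.map_span, Set.image_singleton]
  -- the two tensor products
  let Φ : A₁ ⊗[A] B →ₐ[A₁] W :=
    Algebra.TensorProduct.lift (Algebra.ofId A₁ W) (IsScalarTower.toAlgHom A B W) fun _ _ ↦ Commute.all _ _
  let θ : ResidueField A₁ ⊗[ResidueField A] ResidueField B →ₐ[ResidueField A₁] ResidueField W :=
    Algebra.TensorProduct.lift (Algebra.ofId _ _) (IsScalarTower.toAlgHom (ResidueField A) (ResidueField B) _)
      fun _ _ ↦ Commute.all _ _
  let P : A₁ ⊗[A] B →ₐ[A] ResidueField A₁ ⊗[A] ResidueField B :=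
    Algebra.TensorProduct.map (IsScalarTower.toAlgHom A A₁ (ResidueField A₁))
      (IsScalarTower.toAlgHom A B (ResidueField B))
  haveI : TensorProduct.CompatibleSMul A (ResidueField A) (ResidueField A₁) (ResidueField B) :=
    .of_algebraMap_surjective _ _ IsLocalRing.residue_surjective
  let e := Algebra.TensorProduct.equivOfCompatibleSMul A (ResidueField A) A (ResidueField A₁) (ResidueField B)
  let ψ : A₁ ⊗[A] B →+* ResidueField A₁ ⊗[ResidueField A] ResidueField B := e.symm.toRingHom.comp P.toRingHom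
  have hψs : Function.Surjective ψ := e.symm.surjective.comp
    (Algebra.TensorProduct.map_surjective _ _ IsLocalRing.residue_surjective IsLocalRing.residue_surjective)
  have hψθ : ∀ x, θ (ψ x) = residue W (Φ x) := by
    intro x
    induction x using TensorProduct.induction_on with
    | zero => simp
    | add a b ha hb => simp only [map_add, ha, hb]
    | tmul a b =>
      change θ (residue A₁ a ⊗ₜ residue B b) = residue W (algebraMap A₁ W a * algebraMap B W b)
      rw [Algebra.TensorProduct.lift_tmul, map_mul]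
      rfl
  have hker : RingHom.ker ψ ≤ Ideal.span {π₁ ⊗ₜ[A] (1 : B)} := by
    intro x hx
    have hx' : x ∈ RingHom.ker P := by
      rw [RingHom.mem_ker] at hx ⊢
      exact (map_eq_zero_iff e.symm e.symm.injective).1 hx
    rw [Algebra.TensorProduct.map_ker _ _ IsLocalRing.residue_surjective IsLocalRing.residue_surjective] at hx'
    refine SetLike.le_def.1 (sup_le ?_ ?_) hx'
    rotate_left
    all_goals rw [Ideal.map_le_iff_le_comap]
    rotate_left
    all_goals intro a ha
    · obtain ⟨c, rfl⟩ : π₁ ∣ a := by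
        rw [← Ideal.mem_span_singleton, ← hπ₁.maximalIdeal_eq, ← residue_eq_zero_iff]; exact ha
      exact Ideal.mem_span_singleton.2 ⟨c ⊗ₜ 1, by simp⟩
    · obtain ⟨c, rfl⟩ : algebraMap A B π ∣ a := by
        rw [← Ideal.mem_span_singleton, ← hmB, ← residue_eq_zero_iff]; exact ha
      obtain ⟨d, hd⟩ : π₁ ∣ algebraMap A A₁ π := by
        rw [← Ideal.mem_span_singleton, ← hπ₁.maximalIdeal_eq]
        exact map_nonunit (algebraMap A A₁) π hπ.not_isUnit
      refine Ideal.mem_span_singleton.2 ⟨d ⊗ₜ c, ?_⟩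
      change (1 : A₁) ⊗ₜ[A] (algebraMap A B π * c) = _
      rw [Algebra.TensorProduct.tmul_mul_tmul, one_mul, ← hd, ← Algebra.smul_def, TensorProduct.tmul_smul,
        Algebra.algebraMap_eq_smul_one, TensorProduct.smul_tmul']
  haveI : IsReduced (ResidueField A₁ ⊗[ResidueField A] ResidueField B) := by
    rcases hres with hg | ht
    · haveI := hg; infer_instance
    · have hsurj : Function.Surjective (Algebra.ofId (ResidueField A) (ResidueField A₁)) := fun z ↦ by
        obtain ⟨a, ha⟩ := ht.2.2 A₁ hV z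
        exact ⟨residue A a, ha⟩
      let e₀ : ResidueField A ≃ₐ[ResidueField A] ResidueField A₁ :=
        AlgEquiv.ofBijective _ ⟨(algebraMap (ResidueField A) (ResidueField A₁)).injective, hsurj⟩
      let e₁ := ((Algebra.TensorProduct.congr e₀ (AlgEquiv.refl (A₁ := ResidueField B))).symm.trans
        (Algebra.TensorProduct.lid (ResidueField A) (ResidueField B)))
      exact isReduced_of_injective e₁ e₁.injective
  letI : Algebra (ResidueField B) (ResidueField A₁ ⊗[ResidueField A] ResidueField B) :=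
    Algebra.TensorProduct.rightAlgebra
  haveI : IsScalarTower (ResidueField A) (ResidueField B) (ResidueField A₁ ⊗[ResidueField A] ResidueField B) :=
    Algebra.TensorProduct.right_isScalarTower
  haveI : Algebra.IsIntegral (ResidueField B) (ResidueField A₁ ⊗[ResidueField A] ResidueField B) := by
    refine ⟨fun z ↦ ?_⟩
    induction z using TensorProduct.induction_on with
    | zero => exact isIntegral_zero
    | add a b ha hb => exact ha.add hb
    | tmul a b =>
      have ha : IsIntegral (ResidueField B) (a ⊗ₜ[ResidueField A] (1 : ResidueField B)) :=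
        ((Algebra.IsAlgebraic.isAlgebraic (R := ResidueField A) a).isIntegral.map
          (Algebra.TensorProduct.includeLeft :
            ResidueField A₁ →ₐ[ResidueField A] ResidueField A₁ ⊗[ResidueField A] ResidueField B)).tower_top
      have hb : IsIntegral (ResidueField B) ((1 : ResidueField A₁) ⊗ₜ[ResidueField A] b) :=
        isIntegral_algebraMap (x := b)
      simpa using ha.mul hb
  -- every element of `M` is a quotient
  have hquot : ∀ w : M, ∃ x y, Φ y ≠ 0 ∧ w * (Φ y : M) = Φ x := by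
    let S : Subfield M :=
      { carrier := {w | ∃ x y, Φ y ≠ 0 ∧ w * (Φ y : M) = Φ x}
        mul_mem' := by
          rintro a b ⟨x, y, hy, h⟩ ⟨x', y', hy', h'⟩
          refine ⟨x * x', y * y', by rw [map_mul]; exact mul_ne_zero hy hy', ?_⟩
          rw [map_mul, map_mul, MulMemClass.coe_mul, MulMemClass.coe_mul, ← h, ← h']; ring
        one_mem' := ⟨1, 1, by simp, by simp⟩
        add_mem' := by
          rintro a b ⟨x, y, hy, h⟩ ⟨x', y', hy', h'⟩
          refine ⟨x * y' + x' * y, y * y', by rw [map_mul]; exact mul_ne_zero hy hy', ?_⟩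
          rw [map_add, map_mul, map_mul, map_mul, AddMemClass.coe_add, MulMemClass.coe_mul, MulMemClass.coe_mul,
            MulMemClass.coe_mul, ← h, ← h']; ring
        zero_mem' := ⟨0, 1, by simp, by simp⟩
        neg_mem' := by
          rintro a ⟨x, y, hy, h⟩
          exact ⟨-x, y, hy, by rw [map_neg, NegMemClass.coe_neg, ← h, neg_mul]⟩
        inv_mem' := by
          rintro a ⟨x, y, hy, h⟩
          rcases eq_or_ne a 0 with rfl | ha
          · exact ⟨0, 1, by simp, by simp⟩
          refine ⟨y, x, fun h0 ↦ ?_, ?_⟩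
          · rw [h0, ZeroMemClass.coe_zero, mul_eq_zero] at h
            exact h.elim ha (fun h1 ↦ hy (Subtype.ext h1))
          · rw [← h, inv_mul_cancel_left₀ ha] }
    suffices h : S = ⊤ from fun w ↦ (h ▸ Subfield.mem_top w : w ∈ S)
    have hA₁mem : ∀ a : A₁, algebraMap K₁ M a ∈ S := fun a ↦ ⟨a ⊗ₜ 1, 1, by simp, by simp [Φ]; rfl⟩
    have hBmem : ∀ b : B, algebraMap L M (algebraMap B L b) ∈ S := fun b ↦ ⟨1 ⊗ₜ b, 1, by simp, by simp [Φ]; rfl⟩
    have hK₁ : ∀ x : K₁, algebraMap K₁ M x ∈ S := by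
      intro x
      rcases A₁.mem_or_inv_mem x with h | h
      · exact hA₁mem ⟨x, h⟩
      · have := inv_mem (hA₁mem ⟨x⁻¹, h⟩)
        rwa [map_inv₀, inv_inv] at this
    have hL : ∀ x : L, algebraMap L M x ∈ S := by
      intro x
      obtain ⟨a, b, -, rfl⟩ := IsFractionRing.div_surjective B x
      rw [map_div₀]
      exact div_mem (hBmem a) (hBmem b)
    rw [eq_top_iff]
    intro w hw0'
    clear hw0'
    have hw' : w ∈ Algebra.adjoin L (Set.range (algebraMap K₁ M)) := hgen ▸ Algebra.mem_top
    induction hw' using Algebra.adjoin_induction with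
    | mem x hx => obtain ⟨x, rfl⟩ := hx; exact hK₁ x
    | algebraMap r => exact hL r
    | add x y _ _ hx hy => exact add_mem hx hy
    | mul x y _ _ hx hy => exact mul_mem hx hy
  have hreg : ∀ a ∈ Φ.range, ∃ b ∈ Φ.range, ∃ r ∈ Φ.range, a - a * a * b = r * algebraMap A₁ W π₁ := by
    rintro _ ⟨x, rfl⟩
    obtain ⟨b, hb⟩ := CAlgA.VNR.exists_sq_mul (k := ResidueField B) (ψ x)
    obtain ⟨b, rfl⟩ := hψs b
    have hmem : x - x * x * b ∈ RingHom.ker ψ := by
      rw [RingHom.mem_ker, map_sub, map_mul, map_mul, ← hb, sub_self]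
    obtain ⟨r, hr⟩ := Ideal.mem_span_singleton.1 (hker hmem)
    refine ⟨Φ b, ⟨b, rfl⟩, Φ r, ⟨r, rfl⟩, ?_⟩
    change Φ x - Φ x * Φ x * Φ b = _
    rw [← map_mul, ← map_mul, ← map_sub, hr, map_mul, mul_comm]
    congr 1
    simp [Φ]
  have hfrac : ∀ w : M, ∃ x ∈ Φ.range, ∃ y ∈ Φ.range, y ≠ 0 ∧ w * (y : M) = (x : M) := fun w ↦ by
    obtain ⟨x, y, hy, h⟩ := hquot w
    exact ⟨_, ⟨x, rfl⟩, _, ⟨y, rfl⟩, hy, h⟩
  have hinj₁ : Function.Injective (algebraMap A₁ W) := fun a b h ↦
    Subtype.ext ((algebraMap K₁ M).injective (congrArg Subtype.val h))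
  obtain ⟨hweak, hsurjW⟩ := criterion W hinj₁ hπ₁ Φ.range hfrac hreg
  refine ⟨hweak, fun hgeo ↦ ?_, fun ht z ↦ ?_⟩
  rotate_left
  · obtain ⟨-, ⟨x, rfl⟩, rfl⟩ := hsurjW z
    have hall : ∀ y : ResidueField A₁ ⊗[ResidueField A] ResidueField B, ∃ b : B, θ y = residue W (algebraMap B W b) := by
      intro y
      induction y using TensorProduct.induction_on with
      | zero => exact ⟨0, by simp⟩
      | add y₁ y₂ h₁ h₂ =>
        obtain ⟨b₁, hb₁⟩ := h₁
        obtain ⟨b₂, hb₂⟩ := h₂
        exact ⟨b₁ + b₂, by rw [map_add, hb₁, hb₂, map_add, map_add]⟩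
      | tmul c d =>
        obtain ⟨a, ha⟩ := ht.2.2 A₁ hV c
        obtain ⟨d, rfl⟩ := IsLocalRing.residue_surjective d
        have h1 : c = residue A₁ (algebraMap A A₁ a) := ha.symm
        refine ⟨algebraMap A B a * d, ?_⟩
        rw [h1, map_mul, map_mul, ← IsScalarTower.algebraMap_apply A B W, IsScalarTower.algebraMap_apply A A₁ W]
        rw [Algebra.TensorProduct.lift_tmul]
        rfl
    obtain ⟨b, hb⟩ := hall (ψ x)
    exact ⟨b, hb.symm.trans (hψθ x)⟩
  suffices hg : Algebra.IsGeometricallyReduced (ResidueField A₁) (ResidueField W) by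
    convert hg using 1
    refine Algebra.algebra_ext _ _ fun x ↦ ?_
    obtain ⟨x, rfl⟩ := IsLocalRing.residue_surjective x
    rfl
  refine geometricallyReduced_of_surjective (κ := ResidueField A) (κB := ResidueField B) fun z ↦ ?_
  change ∃ q, θ q = z
  obtain ⟨-, ⟨x, rfl⟩, rfl⟩ := hsurjW z
  exact ⟨ψ x, hψθ x⟩

/-- the first two conclusions of `main'` -/
theorem main (A B K L K₁ M : Type u) [CommRing A] [IsDomain A] [IsDiscreteValuationRing A]
    [CommRing B] [IsDomain B] [IsDiscreteValuationRing B] [Algebra A B] [IsLocalHom (algebraMap A B)]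
    [Field K] [Field L] [Field K₁] [Field M] [Algebra A K] [IsFractionRing A K] [Algebra B L] [IsFractionRing B L]
    [Algebra K L] [Algebra A L] [IsScalarTower A K L] [IsScalarTower A B L]
    (hw : EtRam.IsWeaklyUnramified A B)
    [Algebra K K₁] [FiniteDimensional K K₁]
    [Algebra K M] [Algebra L M] [Algebra K₁ M] [IsScalarTower K L M] [IsScalarTower K K₁ M]
    (hgen : Algebra.adjoin L (Set.range (algebraMap K₁ M)) = ⊤) (W : ValuationSubring M)
    (hW : EtRam.Dominates B ((algebraMap L M).comp (algebraMap B L)) W)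
    (hres : Algebra.IsGeometricallyReduced (ResidueField A) (ResidueField B) ∨
      EtRam.IsTotallyRamified A ((algebraMap K K₁).comp (algebraMap A K))) :
    letI : Algebra (W.comap (algebraMap K₁ M)) W := (EtRam.inclOfComap W (algebraMap K₁ M)).toAlgebra
    EtRam.IsWeaklyUnramified (W.comap (algebraMap K₁ M)) W ∧
      (Algebra.IsGeometricallyReduced (ResidueField A) (ResidueField B) → @Algebra.IsGeometricallyReduced (ResidueField (W.comap (algebraMap K₁ M))) (ResidueField W) _ _
        (IsLocalRing.ResidueField.map (EtRam.inclOfComap W (algebraMap K₁ M))).toAlgebra) :=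
  ⟨(main' A B K L K₁ M hw hgen W hW hres).1, (main' A B K L K₁ M hw hgen W hW hres).2.1⟩

end Groth.Agent.EtRamLib.Solution
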