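import Mathlib
import Groth.Agent.S7158
import Groth.Agent.EtRamLib.ValTower
import Groth.Agent.EtRamLib.Solution
import Groth.Agent.EtRamLib.PRootCases

/-!
# The extension `x ^ p = π - π ^ (j + 1) * x` and radicial extensions of degree `p` above it
-/

set_option autoImplicit false
universe u

open Polynomial IntermediateField
open scoped Classical

namespace Groth.Agent.EtRamLib.DegPRoot

open Groth.Agent.S7158

section Val

variable {B L F : Type u} [CommRing B] [IsDomain B] [IsDiscreteValuationRing B] [Field L] [Algebra B L]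
  [IsFractionRing B L] [Field F] [Algebra L F] {π : B} (hπ : IsLocalRing.maximalIdeal B = Ideal.span {π})
  {W : ValuationSubring F} (hW : EtRam.Dominates B ((algebraMap L F).comp (algebraMap B L)) W)

include hπ hW

/-- a root of `X ^ p + π ^ (j + 1) * X - π` has the valuation of a `p`-th root of `π` -/
lemma val_root (p : ℕ) (hp : 1 < p) (j : ℕ) (x : F)
    (hx : x ^ p = algebraMap L F (algebraMap B L π) - algebraMap L F (algebraMap B L π) ^ (j + 1) * x) :
    W.valuation x < 1 ∧ W.valuation x ^ p = W.valuation (algebraMap L F (algebraMap B L π)) := by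
  set P := algebraMap L F (algebraMap B L π) with hP
  set v := W.valuation
  have ht0 : 0 < v P := val_pos B π hπ hW
  have ht1 : v P < 1 := val_lt_one B π hπ hW
  have hPj : v (P ^ (j + 1)) ≤ v P := by
    rw [map_pow, pow_succ]
    exact mul_le_of_le_one_left' (pow_le_one₀ zero_le ht1.le)
  have hle : v x ≤ 1 := by
    by_contra hgt
    push Not at hgt
    have h1 : v (P ^ (j + 1) * x) < v (x ^ p) := by
      rw [map_mul, map_pow v x]
      refine (mul_le_of_le_one_left' (hPj.trans ht1.le)).trans_lt ?_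
      conv_lhs => rw [← pow_one (v x)]
      exact pow_lt_pow_right₀ hgt hp
    have h2 := Valuation.map_add_eq_of_lt_left v h1
    rw [eq_sub_iff_add_eq.1 hx, map_pow v x] at h2
    exact absurd (h2 ▸ one_lt_pow₀ hgt (by omega : p ≠ 0)) (not_lt.2 ht1.le)
  have hlt : v x < 1 := by
    refine lt_of_le_of_ne hle fun h1 ↦ ?_
    have h2 : v (x ^ p) ≤ v P := by
      rw [hx]
      refine (Valuation.map_sub _ _ _).trans (max_le le_rfl ?_)
      rw [map_mul, h1, mul_one]
      exact hPj
    rw [map_pow, h1, one_pow] at h2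
    exact absurd ht1 (not_lt.2 h2)
  refine ⟨hlt, ?_⟩
  rw [← map_pow, hx]
  refine Valuation.map_sub_eq_of_lt_left v ?_
  rw [map_mul]
  calc v (P ^ (j + 1)) * v x ≤ v P * v x := mul_le_mul_left hPj _
    _ < v P * 1 := mul_lt_mul_of_pos_left hlt ht0
    _ = v P := mul_one _

/-- combinations of the powers of a `p`-th root of a uniformizer -/
lemma val_terms (p : ℕ) (hp : 0 < p) (x : F)
    (hx : W.valuation x ^ p = W.valuation (algebraMap L F (algebraMap B L π)))
    (c : Fin p → L) (hc : c ≠ 0) :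
    ∃ (k : Fin p) (m : ℤ), c k ≠ 0 ∧
      W.valuation (∑ i : Fin p, algebraMap L F (c i) * x ^ (i : ℕ)) = W.valuation x ^ m ∧
      W.valuation x ^ m = W.valuation (algebraMap L F (c k) * x ^ (k : ℕ)) ∧
      ∀ i : Fin p, W.valuation (algebraMap L F (c i) * x ^ (i : ℕ)) ≤ W.valuation x ^ m := by
  set v := W.valuation
  set s := v x with hs
  have ht0 : 0 < v (algebraMap L F (algebraMap B L π)) := val_pos B π hπ hW
  have hs0 : 0 < s := zero_lt_iff.2 fun h ↦ by
    rw [← hx, h, zero_pow hp.ne'] at ht0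
    exact lt_irrefl _ ht0
  have hs1 : s ≠ 1 := fun h ↦ by
    have := val_lt_one B π hπ hW
    rw [← hx, h, one_pow] at this
    exact lt_irrefl _ this
  have hterm : ∀ i : Fin p, c i ≠ 0 → ∃ l : ℤ,
      v (algebraMap L F (c i) * x ^ (i : ℕ)) = s ^ ((p : ℤ) * l + (i : ℕ)) := by
    intro i hi
    obtain ⟨l, hl⟩ := val_exponent B π hπ hW hi
    refine ⟨l, ?_⟩
    rw [map_mul, map_pow, hl, ← hx, zpow_add₀ hs0.ne', zpow_mul, zpow_natCast, zpow_natCast]
  obtain ⟨i₀, hi₀⟩ := Function.ne_iff.1 hc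
  haveI : Nonempty (Fin p) := ⟨i₀⟩
  obtain ⟨k, -, hk⟩ := Finset.exists_max_image Finset.univ
    (fun i : Fin p ↦ v (algebraMap L F (c i) * x ^ (i : ℕ))) Finset.univ_nonempty
  obtain ⟨l₀, hl₀⟩ := hterm i₀ hi₀
  have hpos : 0 < v (algebraMap L F (c k) * x ^ (k : ℕ)) :=
    lt_of_lt_of_le (hl₀ ▸ zpow_pos hs0 _) (hk i₀ (Finset.mem_univ _))
  have hck : c k ≠ 0 := fun h0 ↦ by simp [h0] at hpos
  obtain ⟨l, hl⟩ := hterm k hck
  refine ⟨k, (p : ℤ) * l + (k : ℕ), hck, ?_, hl.symm, fun i ↦ (hk i (Finset.mem_univ _)).trans_eq hl⟩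
  rw [← hl]
  refine Valuation.map_sum_eq_of_lt _ (Finset.mem_univ k) fun i hi ↦ ?_
  rw [Finset.mem_sdiff, Finset.mem_singleton] at hi
  refine lt_of_le_of_ne (hk i hi.1) fun he ↦ ?_
  rcases eq_or_ne (c i) 0 with h0 | h0
  · simp [← he, h0] at hpos
  obtain ⟨l', hl'⟩ := hterm i h0
  rw [hl', hl] at he
  have h1 := zpow_right_injective₀ hs0 hs1 he
  have h2 : (p : ℤ) ∣ ((i : ℕ) : ℤ) - (k : ℕ) := ⟨l - l', by linarith⟩
  have h3 := Int.eq_zero_of_abs_lt_dvd h2 (by rw [abs_lt]; constructor <;> omega)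
  exact hi.2 (Fin.ext (by omega))

end Val

/-- a root of `X ^ p + π ^ (j + 1) * X - π` generates a totally ramified extension of degree `p` -/
theorem root_totallyRamified {B L F : Type u} [CommRing B] [IsDomain B] [IsDiscreteValuationRing B] [Field L]
    [Algebra B L] [IsFractionRing B L] [Field F] [Algebra L F] (π : B)
    (hπ : IsLocalRing.maximalIdeal B = Ideal.span {π}) (p : ℕ) (hp : p.Prime) (j : ℕ) (x : F)
    (hx : x ^ p = algebraMap L F (algebraMap B L π) - algebraMap L F (algebraMap B L π) ^ (j + 1) * x)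
    (hgen : L⟮x⟯ = ⊤) :
    EtRam.IsTotallyRamified B ((algebraMap L F).comp (algebraMap B L)) ∧ Module.finrank L F = p := by
  set P := algebraMap B L π with hP
  have hP0 : P ≠ 0 := (map_ne_zero_iff _ (IsFractionRing.injective B L)).2
    ((IsDiscreteValuationRing.irreducible_iff_uniformizer π).2 hπ).ne_zero
  have hF0 : algebraMap L F P ≠ 0 := (_root_.map_ne_zero _).2 hP0
  have hx0 : x ≠ 0 := fun h ↦ by
    rw [h, zero_pow hp.ne_zero, mul_zero, sub_zero] at hx
    exact hF0 hx.symm
  set l : Fin p := ⟨p - 1, Nat.sub_lt hp.pos one_pos⟩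
  refine PRootCases.totallyRamified B π hπ p hp P⁻¹ x⁻¹ (fun i ↦ if i = l then π ^ j else 0) ?_ ?_ 1 1
    one_pos hp.not_dvd_one ?_
  · rw [Finset.sum_eq_single l (fun i _ hi ↦ by simp [hi]) (fun h ↦ absurd (Finset.mem_univ l) h), if_pos rfl]
    have h1 : x⁻¹ ^ p * x ^ p = 1 := by rw [← mul_pow, inv_mul_cancel₀ hx0, one_pow]
    have h2 : x⁻¹ ^ p * x = x⁻¹ ^ (p - 1) := by
      conv_lhs => rw [← Nat.sub_add_cancel hp.one_le, pow_succ, mul_assoc, inv_mul_cancel₀ hx0, mul_one]
    change _ = _ + _ * x⁻¹ ^ (p - 1)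
    rw [map_inv₀, map_pow, map_pow, ← hP]
    apply mul_left_cancel₀ hF0
    rw [mul_add, mul_inv_cancel₀ hF0]
    linear_combination h1 - x⁻¹ ^ p * hx + algebraMap L F P ^ (j + 1) * h2
  · rw [eq_top_iff, ← hgen, adjoin_simple_le_iff]
    simpa using inv_mem (mem_adjoin_simple_self L x⁻¹)
  · rw [pow_one, Units.val_one, map_one, inv_mul_cancel₀ hP0]

/-- the key computation: the radicial extension of degree `p` given by `w ^ p = π * u` becomes weakly
unramified over the ring generated by a root of `X ^ p + π ^ (j + 1) * X - π` -/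
theorem key {B L M F : Type u} [CommRing B] [IsDomain B] [IsDiscreteValuationRing B] [Field L]
    [Algebra B L] [IsFractionRing B L] [Field M] [Algebra L M] [Field F] [Algebra L F] [Algebra M F]
    [IsScalarTower L M F] (π : B) (hπ : IsLocalRing.maximalIdeal B = Ideal.span {π}) (p : ℕ) (hp : p.Prime)
    [CharP L p] (hdeg : Module.finrank L M = p) (w : M) (hwgen : L⟮w⟯ = ⊤) (u c : B) (b : Fin p → B) (j : ℕ)
    (hw : w ^ p = algebraMap L M (algebraMap B L (π * u)))
    (hq : u - ∑ i : Fin p, b i ^ p * π ^ (i : ℕ) = π ^ j * c)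
    (hc : ∀ r : B, IsLocalRing.residue B c ≠ IsLocalRing.residue B r ^ p)
    (x : F) (hx : x ^ p = algebraMap L F (algebraMap B L π) - algebraMap L F (algebraMap B L π) ^ (j + 1) * x)
    (hgen : M⟮x⟯ = ⊤) :
    Module.finrank M F = p ∧
      ∀ (W : ValuationSubring F), EtRam.Dominates B ((algebraMap L F).comp (algebraMap B L)) W →
        W.valuation x < 1 ∧ ∀ y : W, W.valuation (y : F) < 1 → W.valuation (y : F) ≤ W.valuation x := by
  haveI : Fact p.Prime := ⟨hp⟩
  haveI : CharP F p := charP_of_injective_algebraMap (algebraMap L F).injective p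
  -- the data in `F`
  set P := algebraMap L F (algebraMap B L π) with hP
  set g : B →+* F := (algebraMap L F).comp (algebraMap B L) with hg
  set L' : IntermediateField L F := L⟮x⟯ with hL'
  have hxL' : x ∈ L' := mem_adjoin_simple_self L x
  have hgL' : ∀ a : B, g a ∈ L' := fun a ↦ L'.algebraMap_mem _
  have hxint : IsIntegral L x := by
    refine ⟨X ^ p + (C (algebraMap B L π ^ (j + 1)) * X - C (algebraMap B L π)),
      monic_X_pow_add ?_, ?_⟩
    · refine (degree_sub_le _ _).trans_lt (max_lt ((degree_C_mul_X_le _).trans_lt ?_) (degree_C_le.trans_lt ?_))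
      · exact_mod_cast hp.one_lt
      · exact_mod_cast hp.pos
    · simp only [eval₂_add, eval₂_sub, eval₂_mul, eval₂_X_pow, eval₂_X, eval₂_C]
      rw [map_pow]
      rw [hx, hP]; ring
  haveI : FiniteDimensional L L' := adjoin.finiteDimensional hxint
  set w' := algebraMap M F w with hw'
  have hwF : w' ^ p = P * g u := by
    rw [hw', ← map_pow, hw, ← IsScalarTower.algebraMap_apply, map_mul, map_mul]; rfl
  have hP0 : P ≠ 0 := (_root_.map_ne_zero _).2 ((map_ne_zero_iff _ (IsFractionRing.injective B L)).2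
    ((IsDiscreteValuationRing.irreducible_iff_uniformizer π).2 hπ).ne_zero)
  have hx0 : x ≠ 0 := fun h ↦ by
    rw [h, zero_pow hp.ne_zero, mul_zero, sub_zero] at hx
    exact hP0 hx.symm
  set ε : F := 1 - P ^ j * x with hε
  have hxε : x ^ p = P * ε := by rw [hx, hε, pow_succ]; ring
  have hε0 : ε ≠ 0 := fun h ↦ pow_ne_zero p hx0 (by rw [hxε, h, mul_zero])
  set ζ : F := (w' / x - ∑ i : Fin p, g (b i) * x ^ (i : ℕ)) / x ^ j with hζ
  have hζp : ζ ^ p = (g u / ε - ∑ i : Fin p, g (b i) ^ p * (P * ε) ^ (i : ℕ)) / (P * ε) ^ j := by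
    rw [hζ, div_pow, sub_pow_char, div_pow, sum_pow_char, hwF, ← pow_mul, mul_comm j p, pow_mul, hxε,
      mul_div_mul_left _ _ hP0]
    congr 2
    refine Finset.sum_congr rfl fun i _ ↦ ?_
    rw [mul_pow, ← pow_mul, mul_comm (i : ℕ) p, pow_mul, hxε]
  have hεL' : ε ∈ L' := sub_mem (one_mem _) (mul_mem (pow_mem (L'.algebraMap_mem _) _) hxL')
  have haL' : ζ ^ p ∈ L' := by
    rw [hζp]
    exact div_mem (sub_mem (div_mem (hgL' u) hεL') (sum_mem fun i _ ↦
      mul_mem (pow_mem (hgL' _) _) (pow_mem (mul_mem (L'.algebraMap_mem _) hεL') _)))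
      (pow_mem (mul_mem (L'.algebraMap_mem _) hεL') _)
  set a : L' := ⟨ζ ^ p, haL'⟩
  -- `ζ` generates `F`
  have hζgen : L'⟮ζ⟯ = ⊤ := by
    set E : IntermediateField L F := L'⟮ζ⟯.restrictScalars L
    have hE : ∀ y : F, y ∈ L' → y ∈ E := fun y hy ↦ L'⟮ζ⟯.algebraMap_mem ⟨y, hy⟩
    have hζE : ζ ∈ E := mem_adjoin_simple_self L' ζ
    have hwE : w' ∈ E := by
      have : w' = x * (ζ * x ^ j + ∑ i : Fin p, g (b i) * x ^ (i : ℕ)) := by
        rw [hζ, div_mul_cancel₀ _ (pow_ne_zero _ hx0), sub_add_cancel, mul_div_cancel₀ _ hx0]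
      rw [this]
      exact mul_mem (hE x hxL') (add_mem (mul_mem hζE (pow_mem (hE x hxL') _))
        (sum_mem fun i _ ↦ mul_mem (hE _ (hgL' _)) (pow_mem (hE x hxL') _)))
    have hM : ∀ m : M, algebraMap M F m ∈ E.toSubfield := by
      intro m
      have h1 : L⟮w⟯ ≤ E.comap (IsScalarTower.toAlgHom L M F) := adjoin_simple_le_iff.2 hwE
      rw [hwgen] at h1
      exact h1 (x := m) mem_top
    rw [eq_top_iff]
    intro y _
    have h1 : M⟮x⟯ ≤ E.toSubfield.toIntermediateField hM := adjoin_simple_le_iff.2 (hE x hxL')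
    rw [hgen] at h1
    exact h1 (x := y) mem_top
  -- the structure at a dominating valuation ring
  have hstr : ∀ (W : ValuationSubring F), EtRam.Dominates B g W →
      (¬ ∃ r : L', r ^ p = a) ∧ W.valuation x < 1 ∧
        ∀ y : W, W.valuation (y : F) < 1 → W.valuation (y : F) ≤ W.valuation x := by
    intro W hW
    set v := W.valuation
    obtain ⟨hx1, hxp⟩ := val_root hπ hW p hp.one_lt j x hx
    have hPj : v (P ^ j) ≤ 1 := by
      rw [map_pow]; exact pow_le_one₀ zero_le (val_lt_one B π hπ hW).le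
    have hε1 : v ε = 1 := by
      rw [hε]
      refine Valuation.map_one_sub_of_lt v ?_
      rw [map_mul, mul_comm]; exact mul_lt_one_of_lt_of_le hx1 hPj
    have hεε : v (1 - ε) < v (P ^ j) := by
      rw [hε, sub_sub_cancel, map_mul]
      exact (mul_lt_mul_of_pos_left hx1 (zero_lt_iff.2 ((Valuation.ne_zero_iff _).2 (pow_ne_zero _ hP0)))).trans_eq (mul_one _)
    have hg1 : ∀ r : B, v (g r) ≤ 1 := fun r ↦ (W.valuation_le_one_iff _).2 (hW.1 r)
    have hεn : ∀ n : ℕ, v (1 - ε ^ n) < v (P ^ j) := by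
      intro n
      rw [← mul_neg_geom_sum ε n, map_mul]
      refine (mul_le_of_le_one_right' (Valuation.map_sum_le _ fun i _ ↦ ?_)).trans_lt hεε
      rw [map_pow, hε1, one_pow]
    -- `ζ ^ p` is congruent to `c`
    have hcong : v (ζ ^ p - g c) < 1 := by
      have heq : (ζ ^ p - g c) * (P * ε) ^ j =
          g u * (1 - ε) / ε + ∑ i : Fin p, g (b i) ^ p * P ^ (i : ℕ) * (1 - ε ^ (i : ℕ)) +
            g c * P ^ j * (1 - ε ^ j) := by
        rw [sub_mul, hζp, div_mul_cancel₀ _ (pow_ne_zero _ (mul_ne_zero hP0 hε0))]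
        have h1 : g u - ∑ i : Fin p, g (b i) ^ p * P ^ (i : ℕ) = P ^ j * g c := by
          have := congrArg g hq
          simp only [map_sub, map_sum, map_mul, map_pow] at this
          exact this
        have h2 : ∑ i : Fin p, g (b i) ^ p * P ^ (i : ℕ) * (1 - ε ^ (i : ℕ)) =
            ∑ i : Fin p, g (b i) ^ p * P ^ (i : ℕ) - ∑ i : Fin p, g (b i) ^ p * (P * ε) ^ (i : ℕ) := by
          rw [← Finset.sum_sub_distrib]
          refine Finset.sum_congr rfl fun i _ ↦ ?_
          rw [mul_pow]; ring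
        rw [h2, mul_pow, mul_sub (g u), mul_one, sub_div, mul_div_assoc, div_self hε0, mul_one]
        linear_combination h1
      have hlt : v ((ζ ^ p - g c) * (P * ε) ^ j) < v (P ^ j) := by
        rw [heq]
        refine Valuation.map_add_lt _ (Valuation.map_add_lt _ ?_ ?_) ?_
        · rw [map_div₀, hε1, div_one, map_mul]
          exact (mul_le_of_le_one_left' (hg1 u)).trans_lt hεε
        · refine Valuation.map_sum_lt _ ((Valuation.ne_zero_iff _).2 (pow_ne_zero _ hP0)) fun i _ ↦ ?_
          rw [map_mul, map_mul]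
          refine (mul_le_of_le_one_left' (mul_le_one' ?_ ?_)).trans_lt (hεn i)
          · rw [map_pow]; exact pow_le_one₀ zero_le (hg1 _)
          · rw [map_pow]; exact pow_le_one₀ zero_le (val_lt_one B π hπ hW).le
        · rw [map_mul, map_mul]
          exact (mul_le_of_le_one_left' (mul_le_one' (hg1 c) hPj)).trans_lt (hεn j)
      rw [map_mul, mul_pow, map_mul, map_pow v ε, hε1, one_pow, mul_one] at hlt
      by_contra hge
      push Not at hge
      exact absurd (le_mul_of_one_le_left' hge) (not_le.2 hlt)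
    -- the valuation ring of `L'`
    obtain ⟨hV, hVW⟩ := ValTower.dominates_tower B L L' F W hW
    set V := W.comap (algebraMap L' F)
    haveI : IsDiscreteValuationRing V := Solution.isDVR B L L' V hV
    set x' : L' := ⟨x, hxL'⟩
    have hx'gen : L⟮x'⟯ = ⊤ := by
      rw [← lift_inj, lift_adjoin_simple, lift_top]
    have hx' : x' ^ p = algebraMap L L' (algebraMap B L π) - algebraMap L L' (algebraMap B L π) ^ (j + 1) * x' :=
      Subtype.ext hx
    obtain ⟨hT, -⟩ := root_totallyRamified π hπ p hp j x' hx' hx'gen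
    have hgc : v (g c) ≤ 1 := hg1 c
    have haV : a ∈ V := by
      change algebraMap L' F a ∈ W
      rw [← W.valuation_le_one_iff]
      have h := v.map_add (ζ ^ p - g c) (g c)
      rw [sub_add_cancel] at h
      exact h.trans (max_le hcong.le hgc)
    set a' : V := ⟨a, haV⟩
    have hres : ∀ r : V, IsLocalRing.residue V a' ≠ IsLocalRing.residue V r ^ p := by
      intro r hr
      obtain ⟨r₀, hr₀⟩ := hT.2.2 V hV (IsLocalRing.residue V r)
      dsimp only at hr₀
      rw [← hr₀, ← map_pow, ← sub_eq_zero, ← map_sub, IsLocalRing.residue_eq_zero_iff] at hr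
      have hr' : v (ζ ^ p - g r₀ ^ p) < 1 := hVW.2 _ hr
      refine hc r₀ ?_
      rw [← sub_eq_zero, ← map_pow, ← map_sub, IsLocalRing.residue_eq_zero_iff]
      by_contra hu
      have hun : IsUnit (c - r₀ ^ p) := not_not.1 hu
      have h1 : v (g (c - r₀ ^ p)) = 1 := val_unit B π hπ hW hun.unit
      have h2 : v (g (c - r₀ ^ p)) < 1 := by
        have h3 : g (c - r₀ ^ p) = (ζ ^ p - g r₀ ^ p) - (ζ ^ p - g c) := by
          rw [map_sub, map_pow]; ring
        rw [h3]
        exact (Valuation.map_sub _ _ _).trans_lt (max_lt hr' hcong)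
      exact lt_irrefl _ (h1 ▸ h2)
    have hnp : ¬ ∃ r : L', r ^ p = a := by
      rintro ⟨r, hr⟩
      have hrW : algebraMap L' F r ∈ W := by
        rw [← W.valuation_le_one_iff, ← pow_le_one_iff hp.ne_zero, ← map_pow, ← map_pow, hr,
          W.valuation_le_one_iff]
        exact haV
      refine hres ⟨r, hrW⟩ ?_
      rw [← map_pow]
      exact congrArg _ (Subtype.ext hr.symm)
    refine ⟨hnp, hx1, fun y hy ↦ ?_⟩
    obtain ⟨ϖ, hϖ⟩ := IsDiscreteValuationRing.exists_irreducible V
    haveI : CharP V p :=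
      (RingHom.charP_iff ((algebraMap L' F).comp V.subtype)
        ((algebraMap L' F).injective.comp Subtype.val_injective) p).2 inferInstance
    haveI : CharP (IsLocalRing.ResidueField V) p :=
      (CharP.charP_iff_prime_eq_zero hp).2 (by rw [← map_natCast (IsLocalRing.residue V), CharP.cast_eq_zero, map_zero])
    obtain ⟨-, -, hins⟩ := PRootCases.inseparable (K := L') (L := F) V ϖ hϖ.maximalIdeal_eq p hp ζ a' (fun _ ↦ 0)
      (fun _ ↦ zero_mem _) (by simp only [map_zero, zero_mul, Finset.sum_const_zero, add_zero]; rfl) hζgen hres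
    letI : Algebra V W := (RingHom.codRestrict ((algebraMap L' F).comp V.subtype) W hVW.1).toAlgebra
    haveI : IsLocalHom (algebraMap V W) := ValTower.isLocalHom_of_dominates W hVW
    obtain ⟨hwu, -, -⟩ := @hins W hVW (ValTower.isLocalHom_of_dominates W hVW)
    have hym : y ∈ (IsLocalRing.maximalIdeal V).map (algebraMap V W) := by
      exact (SetLike.ext_iff.1 hwu y).2 ((W.valuation_lt_one_iff y).2 hy)
    clear hy
    refine Submodule.span_induction (p := fun (y : W) _ ↦ v (y : F) ≤ v x) ?_ ?_ ?_ ?_ hym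
    · rintro _ ⟨z, hz, rfl⟩
      have hz1 : v (algebraMap L' F z) < 1 := hVW.2 z hz
      change v (algebraMap L' F z) ≤ v x
      obtain ⟨F', hF'm, hF'd, hF'⟩ : ∃ F' : L[X], F'.Monic ∧ F'.natDegree = (minpoly L x').natDegree ∧
          aeval x' F' = 0 :=
        ⟨_, minpoly.monic (Algebra.IsIntegral.isIntegral x'), rfl, minpoly.aeval L x'⟩
      have hd : (minpoly L x').natDegree = p := by
        rw [← adjoin.finrank (Algebra.IsIntegral.isIntegral x'), hx'gen, finrank_top',
          (root_totallyRamified π hπ p hp j x' hx' hx'gen).2]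
      obtain ⟨d, hd'⟩ := exists_coeffs p x' F' hF'm (hF'd.trans hd) hF' hx'gen hp.pos (z : L')
      have hzF : algebraMap L' F z = ∑ i : Fin p, algebraMap L F (d i) * x ^ (i : ℕ) := by
        rw [hd', map_sum]
        refine Finset.sum_congr rfl fun i _ ↦ ?_
        rw [map_mul, map_pow, ← IsScalarTower.algebraMap_apply]
        rfl
      rw [hzF] at hz1 ⊢
      rcases eq_or_ne d 0 with rfl | hd0
      · simp
      obtain ⟨k, m, -, hm, -, -⟩ := val_terms hπ hW p hp.pos x hxp d hd0
      rw [hm] at hz1 ⊢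
      have hs0 : 0 < v x := zero_lt_iff.2 ((Valuation.ne_zero_iff _).2 hx0)
      have hm0 : 0 < m := by
        by_contra hm0
        push Not at hm0
        exact absurd (one_le_zpow_of_nonpos₀ hs0 hx1.le hm0) (not_le.2 hz1)
      conv_rhs => rw [← zpow_one (v x)]
      exact zpow_le_zpow_right_of_le_one₀ hs0 hx1.le hm0
    · simp
    · intro y₁ y₂ _ _ h1 h2
      exact (Valuation.map_add _ _ _).trans (max_le h1 h2)
    · intro r y₁ _ h1
      rw [smul_eq_mul, MulMemClass.coe_mul, map_mul]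
      exact (mul_le_of_le_one_left' (W.valuation_le_one r)).trans h1
  refine ⟨?_, fun W hW ↦ (hstr W hW).2⟩
  obtain ⟨W₀, hW₀⟩ := exists_dominates (K := L) (L := F) B
  obtain ⟨hnp, -, -⟩ := hstr W₀ hW₀
  have hdL' : Module.finrank L L' = p := by
    set x' : L' := ⟨x, hxL'⟩
    refine (root_totallyRamified π hπ p hp j x' (Subtype.ext hx) ?_).2
    rw [← lift_inj, lift_adjoin_simple, lift_top]
  have hirr : Irreducible (X ^ p - C a : L'[X]) := X_pow_sub_C_irreducible_of_prime hp fun r hr ↦ hnp ⟨r, hr⟩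
  have hroot : aeval ζ (X ^ p - C a : L'[X]) = 0 := by
    rw [map_sub, map_pow, aeval_X, aeval_C, sub_eq_zero]; rfl
  have hζint : IsIntegral L' ζ := ⟨_, monic_X_pow_sub_C _ hp.ne_zero, hroot⟩
  have hdF : Module.finrank L' F = p := by
    rw [← finrank_top', ← hζgen, adjoin.finrank hζint,
      ← minpoly.eq_of_irreducible_of_monic hirr hroot (monic_X_pow_sub_C _ hp.ne_zero), natDegree_X_pow_sub_C]
  have h1 := Module.finrank_mul_finrank L L' F
  have h2 := Module.finrank_mul_finrank L M F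
  rw [hdL', hdF, ← h2, hdeg] at h1
  exact (Nat.eq_of_mul_eq_mul_left hp.pos h1).symm

end Groth.Agent.EtRamLib.DegPRoot
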