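import Mathlib
import Groth.Prelude.Def_EGA4b
import Groth.Agent.EGA4Lib.AdicFibres

/-!
# Completions of the local rings of a compositum
-/

set_option autoImplicit false
universe u

open IsLocalRing

namespace Groth.Agent.EtRamLib.Compositum

variable {R Ω : Type u} [CommRing R] [IsDomain R] [IsLocalRing R] [Field Ω] [Algebra R Ω]
  (𝔪 : Ideal ↥(integralClosure R Ω)) [𝔪.IsMaximal] (A : Subalgebra R Ω)
  (hA : ∀ z : Ω, z ∈ A ↔ ∃ a b : ↥(integralClosure R Ω), b ∉ 𝔪 ∧ z * (b : Ω) = (a : Ω))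

include hA in
omit [IsDomain R] [IsLocalRing R] in
theorem integralClosure_le : integralClosure R Ω ≤ A := fun z hz ↦
  (hA z).2 ⟨⟨z, hz⟩, 1, fun h ↦ (Ideal.IsMaximal.ne_top ‹_›) ((Ideal.eq_top_iff_one _).2 h), mul_one z⟩

include hA in
omit [IsDomain R] [IsLocalRing R] in
/-- `A` is the localization of the integral closure at `𝔪` -/
theorem isLocalization : letI : Algebra ↥(integralClosure R Ω) A :=
      (Subalgebra.inclusion (integralClosure_le 𝔪 A hA)).toRingHom.toAlgebra
    IsLocalization.AtPrime A 𝔪 := by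
  letI : Algebra ↥(integralClosure R Ω) A :=
    (Subalgebra.inclusion (integralClosure_le 𝔪 A hA)).toRingHom.toAlgebra
  refine (isLocalization_iff _ _).2 ⟨?_, fun z ↦ ?_, fun {x y} h ↦ ⟨1, ?_⟩⟩
  · rintro ⟨b, hb⟩
    have hb0 : (b : Ω) ≠ 0 := fun h ↦ hb (by rw [show b = 0 from Subtype.ext h]; exact zero_mem _)
    refine isUnit_iff_exists_inv.2 ⟨⟨(b : Ω)⁻¹, (hA _).2 ⟨1, b, hb, inv_mul_cancel₀ hb0⟩⟩, Subtype.ext ?_⟩
    exact mul_inv_cancel₀ hb0
  · obtain ⟨a, b, hb, h⟩ := (hA (z : Ω)).1 z.2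
    exact ⟨(a, ⟨b, hb⟩), Subtype.ext h⟩
  · exact congrArg _ (Subtype.ext (congrArg Subtype.val h :))

variable [IsNoetherianRing R] [IsLocalRing A]

include hA in
/-- the basic properties of `A` -/
theorem setup [Module.Finite R ↥(integralClosure R Ω)] :
    IsNoetherianRing A ∧ (maximalIdeal R).map (algebraMap R A) ≤ maximalIdeal A ∧
      ∃ l : ℕ, maximalIdeal A ^ l ≤ (maximalIdeal R).map (algebraMap R A) ∧
        ∀ a : A, ∃ d : ↥(integralClosure R Ω),
          a - Subalgebra.inclusion (integralClosure_le 𝔪 A hA) d ∈ (maximalIdeal R).map (algebraMap R A) := by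
  letI : Algebra ↥(integralClosure R Ω) A :=
    (Subalgebra.inclusion (integralClosure_le 𝔪 A hA)).toRingHom.toAlgebra
  haveI : IsScalarTower R ↥(integralClosure R Ω) A := IsScalarTower.of_algebraMap_eq fun _ ↦ rfl
  haveI hloc := isLocalization 𝔪 A hA
  haveI : IsNoetherianRing ↥(integralClosure R Ω) := IsNoetherianRing.of_finite R _
  haveI : IsNoetherianRing A := IsLocalization.isNoetherianRing 𝔪.primeCompl _ inferInstance
  haveI : Algebra.IsIntegral R ↥(integralClosure R Ω) := Algebra.IsIntegral.of_finite R _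
  have h𝔪 : 𝔪.comap (algebraMap R _) = maximalIdeal R :=
    IsLocalRing.eq_maximalIdeal (Ideal.isMaximal_comap_of_isIntegral_of_isMaximal 𝔪)
  have hle : (maximalIdeal R).map (algebraMap R A) ≤ maximalIdeal A := by
    rw [IsScalarTower.algebraMap_eq R ↥(integralClosure R Ω) A, ← Ideal.map_map,
      ← IsLocalization.AtPrime.map_eq_maximalIdeal 𝔪 A]
    exact Ideal.map_mono (Ideal.map_le_iff_le_comap.2 h𝔪.ge)
  refine ⟨inferInstance, hle, ?_⟩
  have hrad : maximalIdeal A ≤ ((maximalIdeal R).map (algebraMap R A)).radical := by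
    rw [Ideal.radical_eq_sInf, le_sInf_iff]
    rintro p ⟨hp1, hp⟩
    haveI := hp
    have hpD : p.comap (algebraMap _ A) ≤ 𝔪 := by
      have := Ideal.comap_mono (f := algebraMap ↥(integralClosure R Ω) A) (IsLocalRing.le_maximalIdeal hp.ne_top)
      exact this.trans_eq (IsLocalization.AtPrime.comap_maximalIdeal A 𝔪)
    have hpR : (p.comap (algebraMap _ A)).comap (algebraMap R ↥(integralClosure R Ω)) = maximalIdeal R := by
      rw [Ideal.comap_comap, ← IsScalarTower.algebraMap_eq]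
      exact ((IsLocalRing.maximalIdeal.isMaximal R).eq_of_le (Ideal.comap_ne_top _ hp.ne_top)
        (Ideal.map_le_iff_le_comap.1 hp1)).symm
    have hpm : (p.comap (algebraMap ↥(integralClosure R Ω) A)).IsMaximal :=
      Ideal.isMaximal_of_isIntegral_of_isMaximal_comap (R := R) _ (hpR ▸ IsLocalRing.maximalIdeal.isMaximal R)
    rw [← IsLocalization.AtPrime.map_eq_maximalIdeal 𝔪 A, ← hpm.eq_of_le (Ideal.IsMaximal.ne_top ‹_›) hpD]
    exact Ideal.map_comap_le
  obtain ⟨l, hl⟩ := Ideal.exists_pow_le_of_le_radical_of_fg hrad (IsNoetherian.noetherian _)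
  refine ⟨l, hl, fun a ↦ ?_⟩
  obtain ⟨s, w, rfl⟩ := IsLocalization.exists_mk'_eq 𝔪.primeCompl a
  have hc : IsCoprime (Ideal.span {(w : ↥(integralClosure R Ω))}) (𝔪 ^ l) :=
    (Ideal.isCoprime_iff_sup_eq.2 (by
      rw [sup_comm]
      exact (‹𝔪.IsMaximal›).1.2 _ (lt_of_le_of_ne le_sup_left fun h ↦
        w.2 (h.ge (Ideal.mem_sup_right (Ideal.mem_span_singleton_self _)))))).pow_right
  obtain ⟨i, hi, q, hq, hiq⟩ := Ideal.isCoprime_iff_exists.1 hc
  obtain ⟨v, rfl⟩ := Ideal.mem_span_singleton'.1 hi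
  refine ⟨s * v, hl ?_⟩
  have h1 : algebraMap _ A q ∈ maximalIdeal A ^ l := by
    rw [← IsLocalization.AtPrime.map_eq_maximalIdeal 𝔪 A, ← Ideal.map_pow]
    exact Ideal.mem_map_of_mem _ hq
  refine (Eq.mp (congrArg (· ∈ _) ?_) (Ideal.mul_mem_left _ (IsLocalization.mk' A s w) h1))
  rw [show q = 1 - v * w by linear_combination hiq, map_sub, map_one, mul_sub, mul_one, map_mul, mul_left_comm,
    IsLocalization.mk'_spec, ← map_mul, mul_comm v s]
  rfl

include hA in
/-- every element of the completion of `A` is a combination of generators of the integral closure, with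
coefficients in the completion of any local ring between `R` and `A` -/
theorem exists_combination [Module.Finite R ↥(integralClosure R Ω)] {W : Type u} [CommRing W] [IsLocalRing W]
    [IsNoetherianRing W] [Algebra R W] (hWm : (maximalIdeal R).map (algebraMap R W) ≤ maximalIdeal W)
    (g : W →+* A) [IsLocalHom g] (hg : ∀ r, g (algebraMap R W r) = algebraMap R A r)
    (φ : EGA4.Cpl W →+* EGA4.Cpl A) (hφ : ∀ w, φ (algebraMap W (EGA4.Cpl W) w) = algebraMap A (EGA4.Cpl A) (g w))
    (x : EGA4.Cpl A) :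
    ∃ (k : ℕ) (d : Fin k → ↥(integralClosure R Ω)) (c : Fin k → EGA4.Cpl W),
      x = ∑ i, φ (c i) * algebraMap A (EGA4.Cpl A) (Subalgebra.inclusion (integralClosure_le 𝔪 A hA) (d i)) := by
  classical
  obtain ⟨hN, hle, l, hl, hsurj⟩ := setup 𝔪 A hA
  haveI := hN
  haveI : IsAdicComplete (maximalIdeal (EGA4.Cpl W)) (EGA4.Cpl W) := inferInstance
  haveI : IsAdicComplete (maximalIdeal (EGA4.Cpl A)) (EGA4.Cpl A) := inferInstance
  set mA := maximalIdeal (EGA4.Cpl A) with hmA
  set e := algebraMap A (EGA4.Cpl A) with he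
  set J : Ideal (EGA4.Cpl A) := (maximalIdeal R).map (e.comp (algebraMap R A)) with hJ
  have hJm : J ≤ mA := by
    rw [hJ, ← Ideal.map_map, hmA, AdicCompletion.maximalIdeal_eq_map]
    exact Ideal.map_mono hle
  have hml : mA ^ l ≤ J := by
    rw [hJ, ← Ideal.map_map, hmA, AdicCompletion.maximalIdeal_eq_map, ← Ideal.map_pow]
    exact Ideal.map_mono hl
  obtain ⟨k, d, hd⟩ := Module.Finite.exists_fin (R := R) (M := ↥(integralClosure R Ω))
  set E : Fin k → EGA4.Cpl A := fun i ↦ e (Subalgebra.inclusion (integralClosure_le 𝔪 A hA) (d i)) with hE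
  -- one step
  have base : ∀ z : EGA4.Cpl A, ∃ c : Fin k → R, z - ∑ i, e (algebraMap R A (c i)) * E i ∈ J := by
    intro z
    obtain ⟨a, ha⟩ := Groth.Agent.EGA4Lib.completion_exists_sub_mem_pow (maximalIdeal A) l z
    rw [Ideal.map_pow, ← AdicCompletion.maximalIdeal_eq_map] at ha
    obtain ⟨d', hd'⟩ := hsurj a
    obtain ⟨c, hc⟩ := (Submodule.mem_span_range_iff_exists_fun R).1 (hd ▸ Submodule.mem_top (x := d'))
    refine ⟨c, ?_⟩
    have h2 : e a - e (Subalgebra.inclusion (integralClosure_le 𝔪 A hA) d') ∈ J := by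
      rw [← map_sub, hJ, ← Ideal.map_map]
      exact Ideal.mem_map_of_mem _ hd'
    have h3 : ∑ i, e (algebraMap R A (c i)) * E i = e (Subalgebra.inclusion (integralClosure_le 𝔪 A hA) d') := by
      rw [← hc, map_sum, map_sum]
      refine Finset.sum_congr rfl fun i _ ↦ ?_
      simp only [hE]
      rw [map_smul, Algebra.smul_def, map_mul]
    rw [h3]
    have := add_mem (hml ha) h2
    rwa [sub_add_sub_cancel] at this
  have step : ∀ n (y : EGA4.Cpl A), y ∈ J ^ n → ∃ c : Fin k → R,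
      (∀ i, c i ∈ maximalIdeal R ^ n) ∧ y - ∑ i, e (algebraMap R A (c i)) * E i ∈ J ^ (n + 1) := by
    intro n y hy
    rw [hJ, ← Ideal.map_pow] at hy
    induction hy using Submodule.span_induction with
    | mem z hz =>
      obtain ⟨r, hr, rfl⟩ := hz
      obtain ⟨c, hc⟩ := base 1
      refine ⟨fun i ↦ r * c i, fun i ↦ Ideal.mul_mem_right _ _ hr, ?_⟩
      have h1 : e (algebraMap R A r) ∈ J ^ n := by
        rw [hJ, ← Ideal.map_pow]; exact Ideal.mem_map_of_mem _ hr
      have := Ideal.mul_mem_mul h1 hc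
      rw [← pow_succ, mul_sub, mul_one, Finset.mul_sum] at this
      simpa only [map_mul, mul_assoc, RingHom.comp_apply] using this
    | zero => exact ⟨0, fun i ↦ zero_mem _, by simp⟩
    | add z₁ z₂ _ _ h₁ h₂ =>
      obtain ⟨c₁, hc₁, h₁⟩ := h₁
      obtain ⟨c₂, hc₂, h₂⟩ := h₂
      refine ⟨c₁ + c₂, fun i ↦ add_mem (hc₁ i) (hc₂ i), ?_⟩
      have := add_mem h₁ h₂
      rw [← add_sub_add_comm, ← Finset.sum_add_distrib] at this
      simpa only [Pi.add_apply, map_add, add_mul] using this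
    | smul b z _ h =>
      obtain ⟨c, hc, h⟩ := h
      obtain ⟨cb, hcb⟩ : ∃ cb : Fin k → Fin k → R, ∀ i, b * E i - ∑ j, e (algebraMap R A (cb i j)) * E j ∈ J := by
        choose cb hcb using fun i ↦ base (b * E i)
        exact ⟨cb, hcb⟩
      refine ⟨fun j ↦ ∑ i, c i * cb i j, fun j ↦ sum_mem fun i _ ↦ Ideal.mul_mem_right _ _ (hc i), ?_⟩
      have h1 : ∑ i, e (algebraMap R A (c i)) * (b * E i - ∑ j, e (algebraMap R A (cb i j)) * E j) ∈ J ^ (n + 1) := by
        refine sum_mem fun i _ ↦ ?_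
        rw [pow_succ]
        refine Ideal.mul_mem_mul ?_ (hcb i)
        rw [hJ, ← Ideal.map_pow]
        exact Ideal.mem_map_of_mem _ (hc i)
      have h2 := add_mem (Ideal.mul_mem_left _ b h) h1
      refine (Eq.mp (congrArg (· ∈ _) ?_) h2)
      simp only [smul_eq_mul, mul_sub, Finset.mul_sum, Finset.sum_sub_distrib, map_sum, map_mul, Finset.sum_mul]
      rw [Finset.sum_comm (f := fun j i ↦ e (algebraMap R A (c i)) * e (algebraMap R A (cb i j)) * E j)]
      simp only [mul_assoc, mul_left_comm b]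
      abel
  -- the approximations
  have happ : ∀ n, ∃ c : Fin k → R, x - ∑ i, e (algebraMap R A (c i)) * E i ∈ J ^ n := fun n ↦ by
    induction n with
    | zero => exact ⟨0, by simp⟩
    | succ n ih =>
      obtain ⟨c, hc⟩ := ih
      obtain ⟨c', -, hc'⟩ := step n _ hc
      refine ⟨c + c', ?_⟩
      rw [sub_sub, ← Finset.sum_add_distrib] at hc'
      simpa only [Pi.add_apply, map_add, add_mul] using hc'
  let next : ∀ n, {c : Fin k → R // x - ∑ i, e (algebraMap R A (c i)) * E i ∈ J ^ n} →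
      {c : Fin k → R // x - ∑ i, e (algebraMap R A (c i)) * E i ∈ J ^ (n + 1)} := fun n c ↦
    ⟨c.1 + (step n _ c.2).choose, by
      have hc' := (step n _ c.2).choose_spec.2
      rw [sub_sub, ← Finset.sum_add_distrib] at hc'
      simpa only [Pi.add_apply, map_add, add_mul] using hc'⟩
  let seq : ∀ n, {c : Fin k → R // x - ∑ i, e (algebraMap R A (c i)) * E i ∈ J ^ n} :=
    fun n ↦ Nat.rec ⟨0, by simp⟩ next n
  have hdiff : ∀ n i, (seq (n + 1)).1 i - (seq n).1 i ∈ maximalIdeal R ^ n := fun n i ↦ by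
    change (seq n).1 i + _ - (seq n).1 i ∈ _
    rw [add_sub_cancel_left]
    exact (step n _ (seq n).2).choose_spec.1 i
  have hcau : ∀ i {m n}, m ≤ n → (seq m).1 i - (seq n).1 i ∈ maximalIdeal R ^ m := by
    intro i m n h
    induction n, h using Nat.le_induction with
    | base => rw [sub_self]; exact zero_mem _
    | succ n hmn ih =>
      have := sub_mem ih (Ideal.pow_le_pow_right hmn (hdiff n i))
      rwa [show (seq m).1 i - (seq n).1 i - ((seq (n + 1)).1 i - (seq n).1 i) = (seq m).1 i - (seq (n + 1)).1 i by ring] at this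
  set eW := algebraMap W (EGA4.Cpl W)
  have hlim : ∀ i, ∃ L : EGA4.Cpl W, ∀ n, eW (algebraMap R W ((seq n).1 i)) - L ∈ maximalIdeal (EGA4.Cpl W) ^ n := by
    intro i
    obtain ⟨L, hL⟩ := IsPrecomplete.prec (inferInstance : IsPrecomplete (maximalIdeal (EGA4.Cpl W)) (EGA4.Cpl W))
      (f := fun n ↦ eW (algebraMap R W ((seq n).1 i))) (fun {m n} h ↦ by
        rw [SModEq.sub_mem, smul_eq_mul, Ideal.mul_top, ← map_sub, ← map_sub, AdicCompletion.maximalIdeal_eq_map,
          ← Ideal.map_pow]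
        refine Ideal.mem_map_of_mem _ (Ideal.pow_right_mono hWm _ ?_)
        rw [← Ideal.map_pow]
        exact Ideal.mem_map_of_mem _ (hcau i h))
    refine ⟨L, fun n ↦ ?_⟩
    have := hL n
    rwa [SModEq.sub_mem, smul_eq_mul, Ideal.mul_top] at this
  choose c hc using hlim
  have hφm : (maximalIdeal (EGA4.Cpl W)).map φ ≤ mA := by
    rw [AdicCompletion.maximalIdeal_eq_map, Ideal.map_map, Ideal.map_le_iff_le_comap]
    intro w hw
    rw [Ideal.mem_comap, RingHom.comp_apply, hφ, hmA, AdicCompletion.maximalIdeal_eq_map]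
    exact Ideal.mem_map_of_mem _ (map_nonunit g w hw)
  refine ⟨k, d, c, sub_eq_zero.1 (IsHausdorff.haus' (I := mA) _ fun n ↦ ?_)⟩
  rw [SModEq.sub_mem, sub_zero, smul_eq_mul, Ideal.mul_top]
  have h1 := Ideal.pow_right_mono hJm n (seq n).2
  have h2 : ∑ i, (φ (eW (algebraMap R W ((seq n).1 i)) - c i)) * E i ∈ mA ^ n := by
    refine sum_mem fun i _ ↦ Ideal.mul_mem_right _ _ ?_
    have := Ideal.mem_map_of_mem φ (hc i n)
    rw [Ideal.map_pow] at this
    exact Ideal.pow_right_mono hφm n this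
  have h3 := add_mem h1 h2
  simp only [map_sub, hφ, hg, sub_mul, Finset.sum_sub_distrib, eW] at h3
  rwa [sub_add_sub_cancel] at h3

end Groth.Agent.EtRamLib.Compositum
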