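import Mathlib
import Groth.Agent.EtRamLib.Compositum

/-!
# Fractions in a compositum
-/

set_option autoImplicit false
universe u

open IsLocalRing

namespace Groth.Agent.EtRamLib.Compositum

variable {R K L M Ω : Type u} [CommRing R] [IsDomain R] [IsLocalRing R] [IsIntegrallyClosed R] [IsNoetherianRing R]
  [Field K] [Field L] [Field M] [Field Ω] [Algebra R K] [IsFractionRing R K]
  [Algebra K L] [Algebra K M] [Algebra K Ω] [Algebra L Ω] [Algebra M Ω]
  [IsScalarTower K L Ω] [IsScalarTower K M Ω]
  [FiniteDimensional K L] [FiniteDimensional K M] [Algebra.IsSeparable K L] [Algebra.IsSeparable K M]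
  [Algebra R L] [Algebra R M] [Algebra R Ω] [IsScalarTower R K L] [IsScalarTower R K M] [IsScalarTower R K Ω]
  (hΩ : IntermediateField.adjoin K (Set.range (algebraMap L Ω) ∪ Set.range (algebraMap M Ω)) = ⊤)

include hΩ in
/-- the integral closure in a compositum of separable extensions is finite -/
theorem finite_integralClosure : Module.Finite R ↥(integralClosure R Ω) := by
  let l : IntermediateField K Ω := (IsScalarTower.toAlgHom K L Ω).fieldRange
  let m : IntermediateField K Ω := (IsScalarTower.toAlgHom K M Ω).fieldRange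
  have htop : l ⊔ m = ⊤ := by
    rw [eq_top_iff, ← hΩ, IntermediateField.adjoin_le_iff]
    rintro z (⟨y, rfl⟩ | ⟨y, rfl⟩)
    · exact (le_sup_left : l ≤ l ⊔ m) ⟨y, rfl⟩
    · exact (le_sup_right : m ≤ l ⊔ m) ⟨y, rfl⟩
  let el : L ≃ₐ[K] l := AlgEquiv.ofInjectiveField (IsScalarTower.toAlgHom K L Ω)
  let em : M ≃ₐ[K] m := AlgEquiv.ofInjectiveField (IsScalarTower.toAlgHom K M Ω)
  haveI : FiniteDimensional K l := el.toLinearEquiv.finiteDimensional
  haveI : FiniteDimensional K m := em.toLinearEquiv.finiteDimensional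
  haveI : Algebra.IsSeparable K l := AlgEquiv.Algebra.isSeparable el
  haveI : Algebra.IsSeparable K m := AlgEquiv.Algebra.isSeparable em
  haveI : FiniteDimensional K ↥(l ⊔ m) := IntermediateField.finiteDimensional_sup l m
  haveI : Algebra.IsSeparable K ↥(l ⊔ m) := inferInstance
  let e : ↥(l ⊔ m) ≃ₐ[K] Ω := (IntermediateField.equivOfEq htop).trans IntermediateField.topEquiv
  haveI : FiniteDimensional K Ω := e.toLinearEquiv.finiteDimensional
  haveI : Algebra.IsSeparable K Ω := AlgEquiv.Algebra.isSeparable e
  exact IsIntegralClosure.finite R K Ω _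

variable (A : Subalgebra R Ω)

include hΩ in
omit [IsLocalRing R] [IsIntegrallyClosed R] [IsNoetherianRing R] [Algebra.IsSeparable K L] [Algebra.IsSeparable K M] in
/-- every element of the compositum is a quotient of elements of the ring generated by the two smaller rings -/
theorem exists_frac [IsScalarTower R L Ω] [IsScalarTower R M Ω] (hD : integralClosure R Ω ≤ A) (y : Ω) :
    ∃ a b : Ω,
      a ∈ Subring.closure ((algebraMap L Ω '' (A.comap (IsScalarTower.toAlgHom R L Ω) : Set L)) ∪
        (algebraMap M Ω '' (A.comap (IsScalarTower.toAlgHom R M Ω) : Set M))) ∧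
      b ∈ Subring.closure ((algebraMap L Ω '' (A.comap (IsScalarTower.toAlgHom R L Ω) : Set L)) ∪
        (algebraMap M Ω '' (A.comap (IsScalarTower.toAlgHom R M Ω) : Set M))) ∧
      b ≠ 0 ∧ y * b = a := by
  set s := (algebraMap L Ω '' (A.comap (IsScalarTower.toAlgHom R L Ω) : Set L)) ∪
        (algebraMap M Ω '' (A.comap (IsScalarTower.toAlgHom R M Ω) : Set M)) with hs
  have hmem : ∀ {N : Type u} [Field N] [Algebra K N] [Algebra R N] [IsScalarTower R K N] [FiniteDimensional K N]
      [Algebra N Ω] [IsScalarTower R N Ω] (t : Set Ω), algebraMap N Ω '' (A.comap (IsScalarTower.toAlgHom R N Ω) : Set N) ⊆ t →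
      ∀ l : N, algebraMap N Ω l ∈ Subfield.closure t := by
    intro N _ _ _ _ _ _ _ t ht l
    haveI : IsFractionRing (integralClosure R N) N := integralClosure.isFractionRing_of_finite_extension K N
    obtain ⟨a, b, -, rfl⟩ := IsFractionRing.div_surjective (integralClosure R N) l
    rw [map_div₀]
    have : ∀ c : integralClosure R N, algebraMap N Ω (c : N) ∈ Subfield.closure t := fun c ↦
      Subfield.subset_closure (ht ⟨(c : N), hD (IsIntegral.algebraMap c.2), rfl⟩)
    exact div_mem (this a) (this b)
  have htop : ∀ z : Ω, z ∈ Subfield.closure s := by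
    let F : IntermediateField K Ω := (Subfield.closure s).toIntermediateField fun k ↦ by
      rw [IsScalarTower.algebraMap_apply K L Ω]
      exact hmem s Set.subset_union_left _
    have : ⊤ ≤ F := by
      rw [← hΩ, IntermediateField.adjoin_le_iff]
      rintro z (⟨w, rfl⟩ | ⟨w, rfl⟩)
      · exact hmem s Set.subset_union_left w
      · exact hmem s Set.subset_union_right w
    exact fun z ↦ this (x := z) IntermediateField.mem_top
  obtain ⟨a, ha, b, hb, hab⟩ := Subfield.mem_closure_iff.1 (htop y)
  rcases eq_or_ne b 0 with rfl | hb0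
  · rw [div_zero] at hab
    exact ⟨0, 1, zero_mem _, one_mem _, one_ne_zero, by rw [← hab, zero_mul]⟩
  · exact ⟨a, b, ha, hb, hb0, by rw [← hab, div_mul_cancel₀ _ hb0]⟩

end Groth.Agent.EtRamLib.Compositum
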