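import Mathlib
import Groth.Agent.EtRamLib.Compositum
import Groth.Agent.S2111
import Groth.Agent.MoriNagata.Val

/-!
# The trace of a localized integral closure on a subfield
-/

set_option autoImplicit false
universe u

open IsLocalRing

namespace Groth.Agent.EtRamLib.Compositum

variable {R K L Ω : Type u} [CommRing R] [IsDomain R] [IsIntegrallyClosed R] [IsNoetherianRing R]
  [Field K] [Field L] [Field Ω] [Algebra R K] [IsFractionRing R K]
  [Algebra K L] [FiniteDimensional K L] [Algebra.IsSeparable K L]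
  [Algebra R L] [IsScalarTower R K L] [Algebra L Ω] [Algebra R Ω] [IsScalarTower R L Ω]
  (𝔪 : Ideal ↥(integralClosure R Ω)) [𝔪.IsMaximal] (A : Subalgebra R Ω)
  (hA : ∀ z : Ω, z ∈ A ↔ ∃ a b : ↥(integralClosure R Ω), b ∉ 𝔪 ∧ z * (b : Ω) = (a : Ω))

/-- an element which is a fraction at every height one prime is integral -/
theorem mem_of_height_one {N L : Type u} [CommRing N] [IsDomain N] [IsNoetherianRing N] [IsIntegrallyClosed N]
    [Field L] [Algebra N L] [IsFractionRing N L] (z : L)
    (h : ∀ P : Ideal N, P.IsPrime → P.height = 1 → ∃ a b : N, b ∉ P ∧ z * algebraMap N L b = algebraMap N L a) :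
    ∃ n : N, algebraMap N L n = z := by
  let e := FractionRing.algEquiv N L
  obtain ⟨n, hn⟩ := S2111.result (e.symm z) fun P hP h1 ↦ by
    obtain ⟨a, b, hb, hab⟩ := h P hP h1
    refine ⟨IsLocalization.mk' (Localization.AtPrime P) a (⟨b, hb⟩ : P.primeCompl), ?_⟩
    apply e.injective
    rw [e.apply_symm_apply]
    have hb0 : algebraMap N L b ≠ 0 :=
      (map_ne_zero_iff _ (IsFractionRing.injective N L)).2 fun h0 ↦ hb (h0 ▸ zero_mem _)
    apply mul_right_cancel₀ hb0
    rw [hab]
    have h2 := congrArg (fun t ↦ e (algebraMap (Localization.AtPrime P) (FractionRing N) t))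
      (IsLocalization.mk'_spec (Localization.AtPrime P) a (⟨b, hb⟩ : P.primeCompl))
    simp only [map_mul, ← IsScalarTower.algebraMap_apply, AlgEquiv.commutes] at h2
    exact h2
  exact ⟨n, by rw [← e.commutes, hn, AlgEquiv.apply_symm_apply]⟩

/-- the map of integral closures -/
noncomputable def closureMap (R L Ω : Type u) [CommRing R] [Field L] [Field Ω] [Algebra R L] [Algebra L Ω]
    [Algebra R Ω] [IsScalarTower R L Ω] : ↥(integralClosure R L) →+* ↥(integralClosure R Ω) :=
  ((algebraMap L Ω).comp (integralClosure R L).val.toRingHom).codRestrict (integralClosure R Ω)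
    fun x ↦ IsIntegral.algebraMap (A := L) (B := Ω) (x.2 : IsIntegral R (x : L))

include K hA in
/-- `A ∩ L` is the localization of the integral closure of `R` in `L` at the trace of `𝔪` -/
theorem exists_fraction {z : L} (hz : algebraMap L Ω z ∈ A) :
    ∃ a b : ↥(integralClosure R L), closureMap R L Ω b ∉ 𝔪 ∧ z * (b : L) = (a : L) := by
  classical
  let DL := ↥(integralClosure R L)
  haveI : Module.Finite R DL := IsIntegralClosure.finite R K L DL
  haveI : IsNoetherianRing DL := IsNoetherianRing.of_finite R DL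
  haveI : IsFractionRing DL L := integralClosure.isFractionRing_of_finite_extension K L
  haveI : IsIntegrallyClosed DL := integralClosure.isIntegrallyClosedOfFiniteExtension K
  letI : Algebra DL ↥(integralClosure R Ω) := (closureMap R L Ω).toAlgebra
  haveI : IsScalarTower R DL ↥(integralClosure R Ω) := IsScalarTower.of_algebraMap_eq fun r ↦
    Subtype.ext (IsScalarTower.algebraMap_apply R L Ω r)
  haveI : Algebra.IsIntegral R ↥(integralClosure R Ω) := ⟨fun x ↦ (isIntegral_algHom_iff (integralClosure R Ω).val Subtype.val_injective).1 x.2⟩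
  haveI : Algebra.IsIntegral DL ↥(integralClosure R Ω) := ⟨fun x ↦ (Algebra.IsIntegral.isIntegral (R := R) x).tower_top⟩
  haveI : FaithfulSMul DL ↥(integralClosure R Ω) := (faithfulSMul_iff_algebraMap_injective _ _).2 fun x y h ↦
    Subtype.ext ((algebraMap L Ω).injective (congrArg Subtype.val h))
  haveI : Algebra.HasGoingDown DL ↥(integralClosure R Ω) := inferInstance
  set 𝔫 := 𝔪.comap (algebraMap DL ↥(integralClosure R Ω)) with h𝔫
  haveI : 𝔪.LiesOver 𝔫 := ⟨rfl⟩
  let N := Localization.AtPrime 𝔫
  haveI : IsNoetherianRing N := IsLocalization.isNoetherianRing 𝔫.primeCompl _ inferInstance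
  haveI : IsIntegrallyClosed N := isIntegrallyClosed_of_isLocalization _ 𝔫.primeCompl 𝔫.primeCompl_le_nonZeroDivisors
  let j : N →+* L := IsLocalization.lift (M := 𝔫.primeCompl) (g := algebraMap DL L)
    fun y ↦ IsUnit.mk0 _ ((map_ne_zero_iff _ (IsFractionRing.injective DL L)).2
      fun h ↦ y.2 (by change (y : DL) ∈ 𝔫; rw [h]; exact zero_mem _))
  letI : Algebra N L := j.toAlgebra
  haveI : IsScalarTower DL N L := IsScalarTower.of_algebraMap_eq fun x ↦ (IsLocalization.lift_eq _ x).symm
  haveI : IsFractionRing N L := IsFractionRing.isFractionRing_of_isDomain_of_isLocalization 𝔫.primeCompl N L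
  obtain ⟨n, hn⟩ := mem_of_height_one (N := N) z fun P' _ hP' ↦ by
    let P := P'.comap (algebraMap DL N)
    have hPh : P.height = 1 := by
      change (P'.comap (algebraMap DL N)).height = 1
      rw [← Ideal.under_def, IsLocalization.height_under 𝔫.primeCompl P', hP']
    haveI := MoriNagata.isDVR_atPrime hPh
    have hP𝔫 : P ≤ 𝔫 :=
      (Ideal.comap_mono (IsLocalRing.le_maximalIdeal (Ideal.IsPrime.ne_top ‹_›))).trans_eq
        (IsLocalization.AtPrime.comap_maximalIdeal N 𝔫)
    obtain ⟨Q, hQ, hQp, hQl⟩ := Ideal.exists_ideal_le_liesOver_of_le (p := P) (q := 𝔫) 𝔪 hP𝔫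
    -- `z` lies in the local ring at `P`
    suffices hzP : ∃ (a : DL) (b : DL), b ∉ P ∧ z * (b : L) = (a : L) by
      obtain ⟨a, b, hb, hab⟩ := hzP
      refine ⟨algebraMap DL N a, algebraMap DL N b, hb, ?_⟩
      rw [← IsScalarTower.algebraMap_apply, ← IsScalarTower.algebraMap_apply]
      exact hab
    obtain ⟨a, b, hb, hab⟩ := IsFractionRing.div_surjective DL z
    rcases ValuationRing.dvd_total (algebraMap DL (Localization.AtPrime P) b) (algebraMap DL (Localization.AtPrime P) a)
      with ⟨c, hc⟩ | ⟨c, hc⟩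
    · obtain ⟨x, s, rfl⟩ := IsLocalization.exists_mk'_eq P.primeCompl c
      rw [IsLocalization.mul_mk'_eq_mk'_of_mul, IsLocalization.eq_mk'_iff_mul_eq, ← map_mul] at hc
      have hc' := congrArg Subtype.val (IsLocalization.injective (Localization.AtPrime P) P.primeCompl_le_nonZeroDivisors hc)
      replace hc' : (a : L) * ((s : DL) : L) = (b : L) * (x : L) := hc'
      refine ⟨x, s, s.2, ?_⟩
      have hb0 : (b : L) ≠ 0 := fun h ↦ nonZeroDivisors.ne_zero hb (Subtype.ext h)
      rw [← hab]
      change (a : L) / (b : L) * _ = _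
      rw [div_mul_eq_mul_div, div_eq_iff hb0, hc', mul_comm]
    · obtain ⟨x, s, rfl⟩ := IsLocalization.exists_mk'_eq P.primeCompl c
      rw [IsLocalization.mul_mk'_eq_mk'_of_mul, IsLocalization.eq_mk'_iff_mul_eq, ← map_mul] at hc
      have hc' := congrArg Subtype.val (IsLocalization.injective (Localization.AtPrime P) P.primeCompl_le_nonZeroDivisors hc)
      replace hc' : (b : L) * ((s : DL) : L) = (a : L) * (x : L) := hc'
      have hb0 : (b : L) ≠ 0 := fun h ↦ nonZeroDivisors.ne_zero hb (Subtype.ext h)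
      have hzx : z * (x : L) = ((s : DL) : L) := by
        rw [← hab]
        change (a : L) / (b : L) * _ = _
        rw [div_mul_eq_mul_div, div_eq_iff hb0, ← hc', mul_comm]
      by_cases hxP : x ∈ P
      · obtain ⟨a', b', hb', hab'⟩ := (hA _).1 hz
        have h3 : closureMap R L Ω s * b' = a' * closureMap R L Ω x := by
          apply Subtype.ext
          change algebraMap L Ω ((s : DL) : L) * (b' : Ω) = (a' : Ω) * algebraMap L Ω (x : L)
          rw [← hzx, map_mul, ← hab']
          ring
        have hxQ : closureMap R L Ω x ∈ Q := by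
          exact hQl.over.le hxP
        have h4 : closureMap R L Ω s * b' ∈ Q := h3 ▸ Q.mul_mem_left _ hxQ
        rcases hQp.mem_or_mem h4 with h | h
        · exact absurd (hQl.over.ge h) s.2
        · exact absurd (hQ h) hb'
      · exact ⟨s, x, hxP, hzx⟩
  obtain ⟨a, b, rfl⟩ := IsLocalization.exists_mk'_eq 𝔫.primeCompl n
  refine ⟨a, b, b.2, ?_⟩
  have h1 : algebraMap N L (IsLocalization.mk' N a b) = z := hn
  have h2 := congrArg (algebraMap N L) (IsLocalization.mk'_spec N a b)
  rw [map_mul, h1, ← IsScalarTower.algebraMap_apply, ← IsScalarTower.algebraMap_apply] at h2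
  exact h2

/-- the map to the trace -/
noncomputable def closureToComap (hD : integralClosure R Ω ≤ A) :
    ↥(integralClosure R L) →+* ↥(A.comap (IsScalarTower.toAlgHom R L Ω)) :=
  (integralClosure R L).val.toRingHom.codRestrict (A.comap (IsScalarTower.toAlgHom R L Ω))
    fun d ↦ hD (IsIntegral.algebraMap (A := L) (B := Ω) (d.2 : IsIntegral R (d : L)))

include K hA in
theorem isLocalization_comap : letI := (closureToComap (L := L) A (integralClosure_le 𝔪 A hA)).toAlgebra
    IsLocalization.AtPrime ↥(A.comap (IsScalarTower.toAlgHom R L Ω)) (𝔪.comap (closureMap R L Ω)) := by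
  letI := (closureToComap (L := L) A (integralClosure_le 𝔪 A hA)).toAlgebra
  refine (isLocalization_iff _ _).2 ⟨?_, fun z ↦ ?_, fun {x y} h ↦ ⟨1, ?_⟩⟩
  · rintro ⟨b, hb⟩
    have hb0 : (b : L) ≠ 0 := fun h ↦ hb (by
      rw [show b = 0 from Subtype.ext h]; exact zero_mem _)
    refine isUnit_iff_exists_inv.2 ⟨⟨(b : L)⁻¹, (hA _).2 ⟨1, closureMap R L Ω b, hb, ?_⟩⟩, Subtype.ext ?_⟩
    · change algebraMap L Ω (b : L)⁻¹ * algebraMap L Ω (b : L) = 1
      rw [← map_mul, inv_mul_cancel₀ hb0, map_one]
    · exact mul_inv_cancel₀ hb0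
  · obtain ⟨a, b, hb, h⟩ := exists_fraction (K := K) 𝔪 A hA z.2
    exact ⟨(a, ⟨b, hb⟩), Subtype.ext h⟩
  · exact congrArg _ (Subtype.ext (congrArg Subtype.val h :))

include K hA in
theorem noetherian_comap : IsNoetherianRing ↥(A.comap (IsScalarTower.toAlgHom R L Ω)) := by
  haveI : Module.Finite R ↥(integralClosure R L) := IsIntegralClosure.finite R K L _
  haveI : IsNoetherianRing ↥(integralClosure R L) := IsNoetherianRing.of_finite R _
  letI := (closureToComap (L := L) A (integralClosure_le 𝔪 A hA)).toAlgebra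
  haveI := isLocalization_comap (K := K) (L := L) 𝔪 A hA
  exact IsLocalization.isNoetherianRing (𝔪.comap (closureMap R L Ω)).primeCompl _ inferInstance

end Groth.Agent.EtRamLib.Compositum
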