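import Mathlib
import Groth.Prelude.Def_EGA4b
import Groth.Agent.S2644
import Groth.Agent.S5763
import Groth.Agent.EGA4Lib.HomToLocal
import Groth.Agent.Hensel.ExcellentHens
import Groth.Agent.RegLoc.Completion

/-!
# Completions of normal local G-rings
-/

set_option autoImplicit false
universe u

open IsLocalRing

namespace Groth.Agent.EtRamLib.CplNormal

theorem isDomain_isIC_cpl (A : Type u) [CommRing A] [IsNoetherianRing A] [IsLocalRing A] [IsDomain A]
    [IsIntegrallyClosed A] (hG : CAlg.IsGRing A) : IsDomain (EGA4.Cpl A) ∧ IsIntegrallyClosed (EGA4.Cpl A) := by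
  have hr := (Hensel.isGRing_iff_isRegularHom_cpl A).1 hG
  have hn : EGA4.IsNormalRing A := fun p _ ↦
    ⟨inferInstance, isIntegrallyClosed_of_isLocalization _ p.primeCompl p.primeCompl_le_nonZeroDivisors⟩
  have hN := (S2644.result A fun p _ ↦ EGA4Lib.isGeomNormal_of_isGeometricallyRegular _ _ (hr.2 p).2).1 hn
    (maximalIdeal (EGA4.Cpl A))
  let e : EGA4.Cpl A ≃+* Localization.AtPrime (maximalIdeal (EGA4.Cpl A)) :=
    (IsLocalization.atUnits (EGA4.Cpl A) (maximalIdeal (EGA4.Cpl A)).primeCompl
      (S := Localization.AtPrime (maximalIdeal (EGA4.Cpl A))) (fun x hx =>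
        (IsLocalRing.notMem_maximalIdeal.1 hx : IsUnit x))).toRingEquiv
  haveI := hN.1
  haveI := hN.2
  haveI : IsDomain (EGA4.Cpl A) := e.injective.isDomain
  exact ⟨inferInstance, IsIntegrallyClosed.of_equiv e.symm⟩

/-- an integral birational extension of an integrally closed domain of no smaller dimension is trivial -/
theorem surjective_of_birational {T A : Type u} [CommRing T] [CommRing A] [IsNoetherianRing T] [IsLocalRing T]
    [IsDomain T] [IsIntegrallyClosed T] [IsDomain A] (φ : T →+* A) (hint : φ.IsIntegral)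
    (hdim : ringKrullDim T ≤ ringKrullDim A)
    (hfrac : ∀ x : A, ∃ a b : T, φ b ≠ 0 ∧ x * φ b = φ a) : Function.Surjective φ := by
  letI := φ.toAlgebra
  haveI : Algebra.IsIntegral T A := ⟨hint⟩
  have hinj : Function.Injective φ := by
    rw [injective_iff_map_eq_zero]
    intro r hr
    by_contra hr0
    let ψ : T ⧸ Ideal.span {r} →+* A := Ideal.Quotient.lift _ φ fun t ht ↦ by
      obtain ⟨c, rfl⟩ := Ideal.mem_span_singleton'.1 ht
      rw [map_mul, hr, mul_zero]
    letI := ψ.toAlgebra
    haveI : Algebra.IsIntegral (T ⧸ Ideal.span {r}) A := ⟨fun x ↦ by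
      obtain ⟨f, hf, hfx⟩ := hint x
      refine ⟨f.map (Ideal.Quotient.mk _), hf.map _, ?_⟩
      rw [Polynomial.eval₂_map]
      exact hfx⟩
    have h1 := (S5763.result (T ⧸ Ideal.span {r}) A).1
    have h2 := ringKrullDim_quotient_succ_le_of_nonZeroDivisor (mem_nonZeroDivisors_of_ne_zero hr0)
    have h3 := (add_le_add_left (hdim.trans h1) 1).trans h2
    have h4 : ringKrullDim T ≠ ⊤ := ne_of_lt ringKrullDim_lt_top
    have h5 : ringKrullDim T ≠ ⊥ := ringKrullDim_ne_bot
    revert h3 h4 h5
    generalize ringKrullDim T = d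
    rcases d with _ | _ | d
    · exact fun _ _ h ↦ absurd rfl h
    · exact fun _ h _ ↦ absurd rfl h
    · intro h3 _ _
      have : (((d + 1 : ℕ) : ℕ∞) : WithBot ℕ∞) ≤ ((d : ℕ∞) : WithBot ℕ∞) := h3
      have := WithBot.coe_le_coe.1 this
      norm_cast at this
      omega
  intro x
  obtain ⟨a, b, hb, h⟩ := hfrac x
  have hb0 : b ≠ 0 := fun h0 ↦ hb (by rw [h0, map_zero])
  let j : A →+* FractionRing A := algebraMap A (FractionRing A)
  let J : FractionRing T →+* FractionRing A :=
    IsFractionRing.lift (A := T) (g := j.comp φ) ((IsFractionRing.injective A (FractionRing A)).comp hinj)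
  have hJ : ∀ t, J (algebraMap T (FractionRing T) t) = j (φ t) := fun t ↦ IsFractionRing.lift_algebraMap _ t
  set q := algebraMap T (FractionRing T) a / algebraMap T (FractionRing T) b with hq
  have hJq : J q = j x := by
    rw [hq, map_div₀, hJ, hJ, div_eq_iff ((map_ne_zero_iff _ (IsFractionRing.injective A _)).2 hb), ← map_mul, h]
  have hqi : IsIntegral T q := by
    obtain ⟨f, hf, hfx⟩ := hint x
    refine ⟨f, hf, J.injective ?_⟩
    rw [Polynomial.hom_eval₂, map_zero, hJq, show J.comp (algebraMap T (FractionRing T)) = j.comp φ from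
      RingHom.ext hJ, ← Polynomial.hom_eval₂, hfx, map_zero]
  obtain ⟨t, ht⟩ := IsIntegrallyClosed.isIntegral_iff.1 hqi
  exact ⟨t, IsFractionRing.injective A (FractionRing A) (by
    change j (φ t) = j x
    rw [← hJ, ht, hJq])⟩

end Groth.Agent.EtRamLib.CplNormal
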