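import Mathlib
import Groth.Prelude.Def_Found
import Groth.Agent.Props.N2Local

/-!
# The best approximation of a unit by norms from a radicial extension of a uniformizer
-/

set_option autoImplicit false
universe u

open Polynomial IntermediateField

namespace Groth.Agent.EtRamLib.DegPApprox

variable {B L M : Type u} [CommRing B] [IsDomain B] [IsDiscreteValuationRing B] [Field L] [Algebra B L]
  [IsFractionRing B L] [Field M] [Algebra L M]

/-- if `π` is not a `p`-th power in `M = L(w)`, `w ^ p = π * u`, the approximations of `u` are bounded -/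
theorem bounded (hB : CAlg.IsNagata B) {π : B} (hπ : IsLocalRing.maximalIdeal B = Ideal.span {π})
    (p : ℕ) (hp : p.Prime) [CharP L p] (hdeg : Module.finrank L M = p) (w : M) (hwgen : L⟮w⟯ = ⊤) (u : B)
    (hw : w ^ p = algebraMap L M (algebraMap B L (π * u)))
    (hnp : ∀ c : M, c ^ p ≠ algebraMap L M (algebraMap B L π)) :
    ∃ J : ℕ, ∀ b : Fin p → B, ¬ π ^ J ∣ u - ∑ i : Fin p, b i ^ p * π ^ (i : ℕ) := by
  haveI : Fact p.Prime := ⟨hp⟩
  by_contra hun
  push Not at hun
  haveI : CharP (AlgebraicClosure L) p :=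
    charP_of_injective_algebraMap (algebraMap L (AlgebraicClosure L)).injective p
  set g : B →+* AlgebraicClosure L := (algebraMap L (AlgebraicClosure L)).comp (algebraMap B L) with hg
  have hπi : Irreducible π := (IsDiscreteValuationRing.irreducible_iff_uniformizer π).2 hπ
  have hgπ : g π ≠ 0 := by
    rw [hg, RingHom.comp_apply]
    exact (_root_.map_ne_zero _).2 ((map_ne_zero_iff _ (IsFractionRing.injective B L)).2 hπi.ne_zero)
  obtain ⟨c0, hc0⟩ := IsAlgClosed.exists_pow_nat_eq (g π) hp.pos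
  obtain ⟨u0, hu0⟩ := IsAlgClosed.exists_pow_nat_eq (g u) hp.pos
  have hint : ∀ (y : AlgebraicClosure L), IsIntegral L y := fun y ↦ Algebra.IsIntegral.isIntegral y
  -- `u0` is not in `L(c0)`
  have hu0N : u0 ∉ L⟮c0⟯ := by
    intro hmem
    haveI : FiniteDimensional L M := Module.finite_of_finrank_pos (hdeg ▸ hp.pos)
    let φ : M →ₐ[L] AlgebraicClosure L := IsAlgClosed.lift
    have hφw : φ w = c0 * u0 := by
      apply frobenius_inj (AlgebraicClosure L) p
      rw [frobenius_def, frobenius_def, mul_pow, hc0, hu0, ← map_pow, hw, AlgHom.commutes, ← map_mul]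
      rfl
    have hle : φ.fieldRange ≤ L⟮c0⟯ := by
      have h1 : L⟮w⟯ ≤ L⟮c0⟯.comap φ := adjoin_simple_le_iff.2 (by
        change φ w ∈ L⟮c0⟯
        rw [hφw]
        exact mul_mem (mem_adjoin_simple_self L c0) hmem)
      rw [hwgen] at h1
      rintro _ ⟨m, rfl⟩
      exact h1 (x := m) mem_top
    haveI : FiniteDimensional L L⟮c0⟯ := adjoin.finiteDimensional (hint c0)
    have hd : Module.finrank L L⟮c0⟯ ≤ p := by
      rw [adjoin.finrank (hint c0)]
      refine (natDegree_le_of_dvd (minpoly.dvd L c0 (p := X ^ p - C (algebraMap B L π)) ?_)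
        (X_pow_sub_C_ne_zero hp.pos _)).trans_eq natDegree_X_pow_sub_C
      rw [map_sub, map_pow, aeval_X, aeval_C, hc0, hg, RingHom.comp_apply, sub_self]
    have heq : φ.fieldRange = L⟮c0⟯ :=
      eq_of_le_of_finrank_le hle (hd.trans_eq (hdeg.symm.trans (AlgEquiv.ofInjectiveField φ).toLinearEquiv.finrank_eq))
    obtain ⟨c, hc⟩ : c0 ∈ φ.fieldRange := heq.symm ▸ mem_adjoin_simple_self L c0
    refine hnp c (φ.toRingHom.injective ?_)
    change φ (c ^ p) = φ (algebraMap L M _)
    rw [map_pow, AlgHom.commutes]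
    change φ.toRingHom c ^ p = _
    rw [show φ.toRingHom c = c0 from hc, hc0, hg, RingHom.comp_apply]
  -- the finite ring of integers of `L(c0, u0)`
  set E : IntermediateField L (AlgebraicClosure L) := adjoin L {c0, u0} with hE
  haveI : FiniteDimensional L E := finiteDimensional_adjoin fun y _ ↦ hint y
  haveI : IsScalarTower B L E := IsScalarTower.of_algebraMap_eq fun b ↦
    Subtype.ext (IsScalarTower.algebraMap_apply B L (AlgebraicClosure L) b)
  haveI hfin : Module.Finite B (integralClosure B E) :=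
    Props.N2Local.finite_integralClosure ((Props.N2Local.isNagata_iff.1 hB).2 B Function.surjective_id) L E
  have hgE : ∀ b : B, ((algebraMap B E b : E) : AlgebraicClosure L) = g b := fun b ↦ by
    rw [IsScalarTower.algebraMap_apply B L E]; rfl
  have hc0E : c0 ∈ E := subset_adjoin L _ (by simp)
  have hu0E : u0 ∈ E := subset_adjoin L _ (by simp)
  have mk_int : ∀ (y : E) (r : B), (y : AlgebraicClosure L) ^ p = g r → IsIntegral B y := by
    intro y r h
    refine ⟨X ^ p - C r, monic_X_pow_sub_C _ hp.ne_zero, ?_⟩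
    rw [eval₂_sub, eval₂_X_pow, eval₂_C, sub_eq_zero]
    apply Subtype.ext
    rw [SubmonoidClass.coe_pow, h, hgE]
  let c0' : integralClosure B E := ⟨⟨c0, hc0E⟩, mk_int _ π hc0⟩
  let u0' : integralClosure B E := ⟨⟨u0, hu0E⟩, mk_int _ u hu0⟩
  set S : Submodule B (integralClosure B E) := Submodule.span B (Set.range fun i : Fin p ↦ c0' ^ (i : ℕ))
  have hmem : u0' ∈ S := by
    rw [← Submodule.Quotient.mk_eq_zero, ← Submodule.mem_bot B,
      ← Ideal.iInf_pow_smul_eq_bot_of_isLocalRing (IsLocalRing.maximalIdeal B)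
        (M := integralClosure B E ⧸ S) (IsLocalRing.maximalIdeal.isMaximal B).ne_top, Submodule.mem_iInf]
    intro k
    obtain ⟨b, r, hr⟩ := hun (p * k)
    have hyp : ((u0 - ∑ i : Fin p, g (b i) * c0 ^ (i : ℕ)) / g π ^ k) ^ p = g r := by
      rw [div_pow, sub_pow_char, sum_pow_char, hu0, div_eq_iff (pow_ne_zero _ (pow_ne_zero _ hgπ)), ← pow_mul,
        mul_comm k p, mul_comm (g r), ← map_pow g, ← map_mul, ← hr, map_sub, map_sum]
      congr 1
      refine Finset.sum_congr rfl fun i _ ↦ ?_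
      rw [mul_pow, ← pow_mul, mul_comm (i : ℕ) p, pow_mul, hc0, map_mul, map_pow, map_pow]
    have hyE : (u0 - ∑ i : Fin p, g (b i) * c0 ^ (i : ℕ)) / g π ^ k ∈ E :=
      div_mem (sub_mem hu0E (sum_mem fun i _ ↦ mul_mem (E.algebraMap_mem _) (pow_mem hc0E _)))
        (pow_mem (E.algebraMap_mem _) _)
    let y' : integralClosure B E := ⟨⟨_, hyE⟩, mk_int _ r hyp⟩
    have hsum : u0' = π ^ k • y' + ∑ i : Fin p, b i • c0' ^ (i : ℕ) := by
      apply Subtype.ext
      apply Subtype.ext
      simp only [Algebra.smul_def, AddMemClass.coe_add, MulMemClass.coe_mul, AddSubmonoidClass.coe_finsetSum,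
        SubmonoidClass.coe_pow, Subalgebra.coe_algebraMap, hgE, map_pow]
      change u0 = g π ^ k * ((u0 - ∑ i : Fin p, g (b i) * c0 ^ (i : ℕ)) / g π ^ k) + _
      rw [mul_div_cancel₀ _ (pow_ne_zero _ hgπ), sub_add_cancel]
    rw [hsum, Submodule.Quotient.mk_add, Submodule.Quotient.mk_smul,
      (Submodule.Quotient.mk_eq_zero S (x := ∑ i : Fin p, b i • c0' ^ (i : ℕ))).2
        (Submodule.sum_mem _ fun i _ ↦ Submodule.smul_mem _ _ (Submodule.subset_span ⟨i, rfl⟩)), add_zero]
    exact Submodule.smul_mem_smul (Ideal.pow_mem_pow (hπ ▸ Ideal.mem_span_singleton_self π) k) trivial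
  refine hu0N ?_
  obtain ⟨d, hd⟩ := (Submodule.mem_span_range_iff_exists_fun B).1 hmem
  have := congrArg (fun z : integralClosure B E ↦ ((z : E) : AlgebraicClosure L)) hd
  simp only [Algebra.smul_def, MulMemClass.coe_mul, AddSubmonoidClass.coe_finsetSum,
    SubmonoidClass.coe_pow, Subalgebra.coe_algebraMap, hgE] at this
  change _ = u0 at this
  rw [← this]
  exact sum_mem fun i _ ↦ mul_mem (L⟮c0⟯.algebraMap_mem _) (pow_mem (mem_adjoin_simple_self L c0) _)

/-- the maximal approximation has a residue which is not a `p`-th power -/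
theorem exists_approx (hB : CAlg.IsNagata B) {π : B} (hπ : IsLocalRing.maximalIdeal B = Ideal.span {π})
    (p : ℕ) (hp : p.Prime) [CharP L p] (hdeg : Module.finrank L M = p) (w : M) (hwgen : L⟮w⟯ = ⊤) (u : B)
    (hw : w ^ p = algebraMap L M (algebraMap B L (π * u)))
    (hnp : ∀ c : M, c ^ p ≠ algebraMap L M (algebraMap B L π)) :
    ∃ (b : Fin p → B) (j : ℕ) (c : B), u - ∑ i : Fin p, b i ^ p * π ^ (i : ℕ) = π ^ j * c ∧
      ∀ r : B, IsLocalRing.residue B c ≠ IsLocalRing.residue B r ^ p := by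
  haveI : Fact p.Prime := ⟨hp⟩
  haveI : CharP B p := (RingHom.charP_iff (algebraMap B L) (IsFractionRing.injective B L) p).2 inferInstance
  obtain ⟨J, hJ⟩ := bounded hB hπ p hp hdeg w hwgen u hw hnp
  by_contra hno
  push Not at hno
  suffices h : ∀ j, ∃ b : Fin p → B, π ^ j ∣ u - ∑ i : Fin p, b i ^ p * π ^ (i : ℕ) by
    obtain ⟨b, hb⟩ := h J
    exact hJ b hb
  intro j
  induction j with
  | zero => exact ⟨0, by rw [pow_zero]; exact one_dvd _⟩
  | succ j ih =>
    obtain ⟨b, c, hc⟩ := ih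
    obtain ⟨r, hr⟩ := hno b j c hc
    obtain ⟨d, hd⟩ : π ∣ c - r ^ p := by
      rw [← Ideal.mem_span_singleton, ← hπ, ← IsLocalRing.residue_eq_zero_iff, map_sub, map_pow, hr, sub_self]
    obtain ⟨t, s, hts⟩ : ∃ (t : Fin p) (s : ℕ), j = p * s + t :=
      ⟨⟨j % p, Nat.mod_lt _ hp.pos⟩, j / p, (Nat.div_add_mod j p).symm⟩
    refine ⟨Function.update b t (b t + π ^ s * r), d, ?_⟩
    have hsum : ∑ i : Fin p, Function.update b t (b t + π ^ s * r) i ^ p * π ^ (i : ℕ) =
        ∑ i : Fin p, b i ^ p * π ^ (i : ℕ) + π ^ j * r ^ p := by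
      rw [← Finset.add_sum_erase _ _ (Finset.mem_univ t), ← Finset.add_sum_erase _ (fun i ↦ b i ^ p * π ^ (i : ℕ))
        (Finset.mem_univ t), Function.update_self, add_pow_char, mul_pow, ← pow_mul, mul_comm s p, hts, pow_add]
      rw [Finset.sum_congr rfl fun i hi ↦ by rw [Function.update_of_ne (Finset.ne_of_mem_erase hi)]]
      ring
    rw [hsum, pow_succ, mul_assoc, ← hd]
    linear_combination hc

end Groth.Agent.EtRamLib.DegPApprox
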