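import Mathlib
import Groth.Prelude.Def_EtRam
import Groth.Prelude.Def_Found
import Groth.Agent.EtRamLib.Basic
import Groth.Agent.EtRamLib.ValTower
import Groth.Agent.EtRamLib.Solution
import Groth.Agent.CAlg48.SepGen
import Groth.Agent.Props.N2Local

/-!
# Purely inseparable base change of solutions
-/

set_option autoImplicit false
set_option linter.deprecated false
universe u

open IsLocalRing TensorProduct

namespace Groth.Agent.EtRamLib.SepDescentSolution

theorem isSeparable_of_geometricallyReduced {k K : Type u} [Field k] [Field K] [Algebra k K]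
    [Algebra.IsAlgebraic k K] [Algebra.IsGeometricallyReduced k K] : Algebra.IsSeparable k K := by
  refine ⟨fun x ↦ ?_⟩
  let F : IntermediateField k K := IntermediateField.adjoin k {x}
  haveI : FiniteDimensional k F :=
    IntermediateField.adjoin.finiteDimensional (Algebra.IsAlgebraic.isAlgebraic x).isIntegral
  haveI : Algebra.IsGeometricallyReduced k F :=
    Algebra.IsGeometricallyReduced.of_injective F.val F.val.injective
  obtain ⟨s, hs, hsep⟩ := CAlg48.SepGen.exists_separating k F
  haveI : Algebra.IsAlgebraic k F := Algebra.IsAlgebraic.of_finite k F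
  haveI : IsEmpty s := hs.isEmpty_iff_isAlgebraic.2 inferInstance
  have hs0 : (s : Set F) = ∅ := Set.eq_empty_iff_forall_notMem.2 fun y hy ↦ IsEmpty.false (α := s) ⟨y, hy⟩
  rw [hs0, IntermediateField.adjoin_empty] at hsep
  have : Algebra.IsSeparable k (⊥ : IntermediateField k F) := inferInstance
  haveI : Algebra.IsSeparable k F := Algebra.IsSeparable.trans k (⊥ : IntermediateField k F) F
  have := (Algebra.IsSeparable.isSeparable k (⟨x, IntermediateField.mem_adjoin_simple_self k x⟩ : F))
  exact (IntermediateField.isSeparable_adjoin_simple_iff_isSeparable k K).1 inferInstance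

/-- the residue fields -/
theorem residue_lemma {k k₂ kW kW₂ : Type u} [Field k] [Field k₂] [Field kW] [Field kW₂] [Algebra k k₂]
    [Algebra k kW] [Algebra k kW₂] [Algebra k₂ kW₂] [Algebra kW kW₂] [IsScalarTower k k₂ kW₂]
    [IsScalarTower k kW kW₂] [FiniteDimensional k k₂] [IsPurelyInseparable k k₂] [Algebra.IsAlgebraic k kW]
    [Algebra.IsSeparable k₂ kW₂] [IsPurelyInseparable kW kW₂] :
    Module.finrank kW kW₂ ≤ Module.finrank k k₂ ∧
      (Module.finrank k k₂ ≤ Module.finrank kW kW₂ → Algebra.IsSeparable k kW) := by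
  classical
  let S := separableClosure k kW
  haveI : IsScalarTower k S kW₂ := IsScalarTower.of_algebraMap_eq fun c ↦ IsScalarTower.algebraMap_apply k kW kW₂ c
  haveI : IsPurelyInseparable S kW := separableClosure.isPurelyInseparable k kW
  haveI : IsPurelyInseparable S kW₂ := IsPurelyInseparable.trans S kW kW₂
  -- the compositum of `S` and `k₂` is everything
  let F : IntermediateField S kW₂ := IntermediateField.adjoin S (Set.range (algebraMap k₂ kW₂))
  letI : Algebra k₂ F := ((algebraMap k₂ kW₂).codRestrict F fun c ↦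
    IntermediateField.subset_adjoin S _ ⟨c, rfl⟩).toAlgebra
  haveI : IsScalarTower k₂ F kW₂ := IsScalarTower.of_algebraMap_eq fun _ ↦ rfl
  haveI : Algebra.IsSeparable F kW₂ := Algebra.isSeparable_tower_top_of_isSeparable k₂ F kW₂
  haveI : IsPurelyInseparable F kW₂ := IsPurelyInseparable.tower_top S F kW₂
  have hF : ∀ y : kW₂, y ∈ F := fun y ↦ by
    obtain ⟨⟨c, hc⟩, hcy⟩ := IsPurelyInseparable.surjective_algebraMap_of_isSeparable F kW₂ y
    exact hcy ▸ hc
  have hsurj : Function.Surjective (Algebra.TensorProduct.lift (Algebra.ofId S kW₂) (IsScalarTower.toAlgHom k k₂ kW₂)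
      fun _ _ ↦ Commute.all _ _ : S ⊗[k] k₂ →ₐ[S] kW₂) := by
    refine Solution.surjective_lift k S k₂ kW₂ ?_
    have halg : ∀ y ∈ Set.range (algebraMap k₂ kW₂), IsAlgebraic S y := by
      rintro _ ⟨c, rfl⟩
      exact ((IsIntegral.of_finite k c).map (IsScalarTower.toAlgHom k k₂ kW₂)).tower_top.isAlgebraic
    rw [eq_top_iff]
    intro y _
    rw [← IntermediateField.adjoin_toSubalgebra_of_isAlgebraic halg]
    exact hF y
  haveI : Module.Finite S kW₂ := Module.Finite.of_surjective _ (show Function.Surjective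
    (Algebra.TensorProduct.lift (Algebra.ofId S kW₂) (IsScalarTower.toAlgHom k k₂ kW₂)
      fun _ _ ↦ Commute.all _ _ : S ⊗[k] k₂ →ₐ[S] kW₂).toLinearMap from hsurj)
  haveI : Module.Finite S kW := Module.Finite.of_injective (IsScalarTower.toAlgHom S kW kW₂).toLinearMap
    (algebraMap kW kW₂).injective
  haveI : Module.Finite kW kW₂ := Module.Finite.of_restrictScalars_finite S kW kW₂
  have hle : Module.finrank S kW₂ ≤ Module.finrank k k₂ := by
    let φ : S ⊗[k] k₂ →ₗ[S] kW₂ := (Algebra.TensorProduct.lift (Algebra.ofId S kW₂)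
      (IsScalarTower.toAlgHom k k₂ kW₂) fun _ _ ↦ Commute.all _ _ : S ⊗[k] k₂ →ₐ[S] kW₂).toLinearMap
    have h := LinearMap.finrank_range_le φ
    rw [(LinearMap.range_eq_top.2 hsurj : LinearMap.range φ = ⊤), finrank_top, Module.finrank_baseChange] at h
    exact h
  rw [← Module.finrank_mul_finrank S kW kW₂] at hle
  have hpos : 0 < Module.finrank S kW := Module.finrank_pos
  refine ⟨(Nat.le_mul_of_pos_left _ hpos).trans hle, fun hge ↦ ?_⟩
  have hpos' : 0 < Module.finrank kW kW₂ := Module.finrank_pos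
  have h1 : Module.finrank S kW = 1 := by
    rcases Nat.lt_or_ge 1 (Module.finrank S kW) with h | h
    · have := (Nat.lt_mul_iff_one_lt_left hpos').2 h
      omega
    · omega
  have hS : ∀ y : kW, y ∈ S := fun y ↦ by
    obtain ⟨c, hc⟩ : y ∈ (⊥ : Subalgebra S kW) := Subalgebra.bot_eq_top_of_finrank_eq_one h1 ▸ Algebra.mem_top
    exact hc ▸ c.2
  exact ⟨fun y ↦ mem_separableClosure_iff.1 (hS y)⟩

variable {M M₂ : Type u} [Field M] [Field M₂] [Algebra M M₂]

/-- residue fields along a purely inseparable extension -/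
theorem residue_purelyInseparable [IsPurelyInseparable M M₂] (W : ValuationSubring M) (W₂ : ValuationSubring M₂)
    [Algebra W W₂] [IsLocalHom (algebraMap W W₂)] (hWW : ∀ w : W, (algebraMap W W₂ w : M₂) = algebraMap M M₂ w)
    (hcomap : ∀ m : M, algebraMap M M₂ m ∈ W₂ → m ∈ W) :
    IsPurelyInseparable (ResidueField W) (ResidueField W₂) := by
  have key : ∀ (q : ℕ) [ExpChar M q] (x : W₂), ∃ (n : ℕ) (w : W), algebraMap W W₂ w = x ^ q ^ n := by
    intro q _ x
    obtain ⟨n, m, hm⟩ := IsPurelyInseparable.pow_mem M q (x : M₂)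
    have hmW : m ∈ W := hcomap m (hm ▸ by rw [← SubmonoidClass.coe_pow]; exact SetLike.coe_mem _)
    exact ⟨n, ⟨m, hmW⟩, Subtype.ext (by rw [hWW, SubmonoidClass.coe_pow]; exact hm)⟩
  obtain ⟨q, hq⟩ := ExpChar.exists M
  cases hq with
  | zero =>
    have hsurj : Function.Surjective (algebraMap (ResidueField W) (ResidueField W₂)) := fun x ↦ by
      obtain ⟨x, rfl⟩ := IsLocalRing.residue_surjective x
      obtain ⟨n, w, hw⟩ := key 1 x
      exact ⟨residue W w, by rw [ResidueField.algebraMap_residue, hw, one_pow, pow_one]⟩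
    exact (AlgEquiv.ofBijective (Algebra.ofId (ResidueField W) (ResidueField W₂))
      ⟨(algebraMap (ResidueField W) (ResidueField W₂)).injective, hsurj⟩).isPurelyInseparable
  | @prime q hq =>
    haveI : Fact q.Prime := ⟨hq⟩
    haveI : CharP (ResidueField W) q := by
      rw [CharP.charP_iff_prime_eq_zero hq, ← map_natCast (residue W),
        show ((q : ℕ) : W) = 0 from Subtype.ext (by
          change W.subtype (q : W) = W.subtype 0
          rw [map_natCast, map_zero, CharP.cast_eq_zero]), map_zero]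
    haveI : ExpChar (ResidueField W) q := ExpChar.prime hq
    rw [isPurelyInseparable_iff_pow_mem (ResidueField W) q]
    intro x
    obtain ⟨x, rfl⟩ := IsLocalRing.residue_surjective x
    obtain ⟨n, w, hw⟩ := key q x
    exact ⟨n, residue W w, by rw [ResidueField.algebraMap_residue, hw, map_pow]⟩

/-- valuation rings along a purely inseparable extension are finite, for Japanese base rings -/
theorem finite_purelyInseparable (B L : Type u) [CommRing B] [IsDomain B] [IsDiscreteValuationRing B] [Field L]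
    [Algebra B L] [IsFractionRing B L] (hN2 : CAlg.IsN2 B) [Algebra L M] [FiniteDimensional L M]
    [Algebra.IsSeparable L M] [FiniteDimensional M M₂] [IsPurelyInseparable M M₂]
    (W : ValuationSubring M) (hW : EtRam.Dominates B ((algebraMap L M).comp (algebraMap B L)) W)
    (W₂ : ValuationSubring M₂) [Algebra W W₂] (hWW : ∀ w : W, (algebraMap W W₂ w : M₂) = algebraMap M M₂ w)
    (hcomap : ∀ m : M, algebraMap M M₂ m ∈ W₂ → m ∈ W) :
    Module.Finite W W₂ := by
  classical
  letI : Algebra L M₂ := ((algebraMap M M₂).comp (algebraMap L M)).toAlgebra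
  haveI : IsScalarTower L M M₂ := IsScalarTower.of_algebraMap_eq fun _ ↦ rfl
  haveI : FiniteDimensional L M₂ := Module.Finite.trans M M₂
  letI : Algebra B M := ((algebraMap L M).comp (algebraMap B L)).toAlgebra
  haveI : IsScalarTower B L M := IsScalarTower.of_algebraMap_eq fun _ ↦ rfl
  letI : Algebra B M₂ := ((algebraMap M M₂).comp (algebraMap B M)).toAlgebra
  haveI : IsScalarTower B L M₂ := IsScalarTower.of_algebraMap_eq fun _ ↦ rfl
  haveI : IsScalarTower B M M₂ := IsScalarTower.of_algebraMap_eq fun _ ↦ rfl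
  haveI := Props.N2Local.finite_integralClosure hN2 L M₂
  let C := integralClosure B M₂
  obtain ⟨T, hT⟩ := (Module.Finite.fg_top : (⊤ : Submodule B C).FG)
  have hCW : ∀ c : C, (c : M₂) ∈ W₂ := fun c ↦ by
    refine ValTower.mem_of_isIntegral W₂ (fun b ↦ ?_) c.2
    have := (algebraMap W W₂ ⟨_, hW.1 b⟩).2
    rwa [hWW] at this
  let N : Submodule W W₂ := Submodule.span W ((fun c : C ↦ (⟨c, hCW c⟩ : W₂)) '' (T : Set C))
  have hCN : ∀ c : C, (⟨c, hCW c⟩ : W₂) ∈ N := by
    intro c
    have hc : c ∈ Submodule.span B (T : Set C) := hT ▸ Submodule.mem_top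
    induction hc using Submodule.span_induction with
    | mem y hy => exact Submodule.subset_span ⟨y, hy, rfl⟩
    | zero => exact zero_mem N
    | add y z _ _ hy hz => exact add_mem hy hz
    | smul b y _ hy =>
      have := N.smul_mem ⟨_, hW.1 b⟩ hy
      convert this using 1
      apply Subtype.ext
      rw [Algebra.smul_def (R := W), MulMemClass.coe_mul, hWW]
      change ((b • y : C) : M₂) = algebraMap M M₂ (algebraMap L M (algebraMap B L b)) * (y : M₂)
      rw [SetLike.val_smul, Algebra.smul_def]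
      rfl
  refine ⟨⟨T.image fun c : C ↦ (⟨c, hCW c⟩ : W₂), ?_⟩⟩
  rw [Finset.coe_image, eq_top_iff]
  intro x _
  change x ∈ N
  letI : Algebra (integralClosure B M) W := (((integralClosure B M).val).toRingHom.codRestrict W
    (fun c ↦ ValTower.mem_of_isIntegral W (fun b ↦ hW.1 b) c.2)).toAlgebra
  obtain ⟨-, hloc⟩ := ValTower.isLocalization_of_dominates B L M W hW
    (fun c ↦ ValTower.mem_of_isIntegral W (fun b ↦ hW.1 b) c.2)
  obtain ⟨q, hq⟩ := ExpChar.exists M
  obtain ⟨n, m, hm⟩ := IsPurelyInseparable.pow_mem M q (x : M₂)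
  have hmW : m ∈ W := hcomap m (hm ▸ by rw [← SubmonoidClass.coe_pow]; exact SetLike.coe_mem _)
  obtain ⟨⟨c, s⟩, hcs⟩ := IsLocalization.surj
    ((maximalIdeal W).comap (algebraMap (integralClosure B M) W)).primeCompl (⟨m, hmW⟩ : W)
  have hcs' : m * ((s : integralClosure B M) : M) = (c : M) := congrArg Subtype.val hcs
  obtain ⟨k, hk⟩ : ∃ k, q ^ n = k + 1 := ⟨q ^ n - 1, by have := Nat.one_le_pow n q (expChar_pos M q); omega⟩
  have hint : IsIntegral B ((x : M₂) * algebraMap M M₂ ((s : integralClosure B M) : M)) := by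
    refine IsIntegral.of_pow (Nat.succ_pos k) ?_
    rw [Nat.succ_eq_add_one, mul_pow, ← hk, ← hm, hk, pow_succ', ← map_pow, ← map_mul, ← map_mul, ← mul_assoc, hcs']
    exact (c.2.mul ((s : integralClosure B M).2.pow k)).map (IsScalarTower.toAlgHom B M M₂)
  obtain ⟨v, hv⟩ : IsUnit (algebraMap (integralClosure B M) W s) := not_not.1 fun h ↦ s.2 h
  have hx : x = (↑v⁻¹ : W) • (⟨_, hCW ⟨_, hint⟩⟩ : W₂) := by
    apply Subtype.ext
    rw [Algebra.smul_def (R := W), MulMemClass.coe_mul, hWW]
    change (x : M₂) = algebraMap M M₂ ((↑v⁻¹ : W) : M) * ((x : M₂) * algebraMap M M₂ ((s : integralClosure B M) : M))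
    rw [mul_left_comm, ← map_mul]
    have : ((↑v⁻¹ : W) : M) * ((s : integralClosure B M) : M) = 1 := by
      have h1 : (↑v⁻¹ : W) * algebraMap (integralClosure B M) W s = 1 := by rw [← hv, Units.inv_mul]
      exact congrArg Subtype.val h1
    rw [this, map_one, mul_one]
  rw [hx]
  exact N.smul_mem _ (hCN _)

/-- `e f = [M₂ : M]` -/
theorem e_mul_f (W : ValuationSubring M) (W₂ : ValuationSubring M₂) [IsDiscreteValuationRing W]
    [IsDiscreteValuationRing W₂] [Algebra W W₂] [IsLocalHom (algebraMap W W₂)] [Module.Finite W W₂]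
    (hWW : ∀ w : W, (algebraMap W W₂ w : M₂) = algebraMap M M₂ w) :
    Ideal.ramificationIdx' (maximalIdeal W) (maximalIdeal W₂) *
      Module.finrank (ResidueField W) (ResidueField W₂) = Module.finrank M M₂ := by
  letI : Algebra W M₂ := ((algebraMap M M₂).comp (algebraMap W M)).toAlgebra
  haveI : IsScalarTower W M M₂ := IsScalarTower.of_algebraMap_eq fun _ ↦ rfl
  haveI : IsScalarTower W W₂ M₂ := IsScalarTower.of_algebraMap_eq fun w ↦ (hWW w).symm
  have h := Ideal.ramificationIdx_mul_inertiaDeg_of_isLocalRing (R := W) W₂ M M₂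
    (IsDiscreteValuationRing.not_a_field W)
  rw [← h]
  congr 1
  haveI : (maximalIdeal W₂).LiesOver (maximalIdeal W) := ⟨by
    ext w
    exact ⟨fun hw hu ↦ hw (isUnit_of_map_unit (algebraMap W W₂) w hu), fun hw hu ↦ hw (hu.map (algebraMap W W₂))⟩⟩
  rw [Ideal.inertiaDeg'_algebraMap]
  rfl

end Groth.Agent.EtRamLib.SepDescentSolution
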