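import Groth.Agent.EtRamLib.Good
import Groth.Agent.EtRamLib.ValTower

/-!
# Extending a valuation ring of a finite extension along an extension of discrete valuation rings
-/

set_option autoImplicit false
universe u

open IsLocalRing TensorProduct

namespace Groth.Agent.EtRamLib.ExtendSquare

theorem exists_compositum (B B' L L' M : Type u) [CommRing B] [IsDomain B] [IsDiscreteValuationRing B]
    [CommRing B'] [IsDomain B'] [IsDiscreteValuationRing B'] [Algebra B B']
    (hBB' : Function.Injective (algebraMap B B')) [IsLocalHom (algebraMap B B')]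
    [Field L] [Algebra B L] [IsFractionRing B L] [Field L'] [Algebra B' L'] [IsFractionRing B' L']
    [Algebra L L'] [Algebra B L'] [IsScalarTower B L L'] [IsScalarTower B B' L']
    [Field M] [Algebra L M] [FiniteDimensional L M] (W : ValuationSubring M)
    (hW : EtRam.Dominates B ((algebraMap L M).comp (algebraMap B L)) W) :
    ∃ (M' : Type u) (_ : Field M') (_ : Algebra L' M') (_ : Algebra M M') (_ : Algebra L M')
      (_ : IsScalarTower L L' M') (_ : IsScalarTower L M M') (W' : ValuationSubring M'),
      Algebra.adjoin L' (Set.range (algebraMap M M')) = ⊤ ∧ FiniteDimensional L' M' ∧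
      W'.comap (algebraMap M M') = W ∧
      EtRam.Dominates B' ((algebraMap L' M').comp (algebraMap B' L')) W' := by
  classical
  letI : Algebra B W := (((algebraMap L M).comp (algebraMap B L)).codRestrict W hW.1).toAlgebra
  letI : Algebra B M := ((algebraMap L M).comp (algebraMap B L)).toAlgebra
  haveI : IsScalarTower B W M := IsScalarTower.of_algebraMap_eq fun _ => rfl
  haveI : IsScalarTower B L M := IsScalarTower.of_algebraMap_eq fun _ => rfl
  haveI : IsLocalHom (algebraMap B W) := ValTower.isLocalHom_of_dominates W hW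
  have hWinj : Function.Injective (algebraMap B W) := fun x y h =>
    IsFractionRing.injective B L ((algebraMap L M).injective (congrArg Subtype.val h))
  haveI : Module.IsTorsionFree B B' := Module.isTorsionFree_iff_algebraMap_injective.mpr hBB'
  haveI : Module.IsTorsionFree B W := Module.isTorsionFree_iff_algebraMap_injective.mpr hWinj
  -- a prime of `(↥W ⊗[B] B')` above both maximal ideals
  obtain ⟨m, hm⟩ := Ideal.exists_maximal (ResidueField W ⊗[ResidueField B] ResidueField B')
  let Ω := (ResidueField W ⊗[ResidueField B] ResidueField B') ⧸ m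
  let fW : (W : Type u) →ₐ[B] Ω :=
    { toRingHom := ((Ideal.Quotient.mk m).comp (Algebra.TensorProduct.includeLeftRingHom)).comp (residue W)
      commutes' := fun b => rfl }
  let fB : B' →ₐ[B] Ω :=
    { toRingHom := ((Ideal.Quotient.mk m).comp
        (Algebra.TensorProduct.includeRight (R := ResidueField B) (A := ResidueField W)
          (B := ResidueField B')).toRingHom).comp (residue B')
      commutes' := fun b => by
        change Ideal.Quotient.mk m ((1 : ResidueField W) ⊗ₜ residue B' (algebraMap B B' b)) = _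
        rw [← IsLocalRing.ResidueField.algebraMap_residue, Algebra.algebraMap_eq_smul_one (residue B b),
          ← TensorProduct.smul_tmul, ← Algebra.algebraMap_eq_smul_one,
          IsLocalRing.ResidueField.algebraMap_residue]
        rfl }
  let θ : (↥W ⊗[B] B') →ₐ[B] Ω := Algebra.TensorProduct.lift fW fB fun _ _ => .all _ _
  haveI : Nontrivial Ω := Ideal.Quotient.nontrivial_iff.mpr hm.ne_top
  haveI : IsDomain Ω := Ideal.Quotient.isDomain m
  haveI := RingHom.ker_isPrime θ.toRingHom
  obtain ⟨q, hqmin, hqle⟩ :=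
    Ideal.exists_minimalPrimes_le (I := (⊥ : Ideal (↥W ⊗[B] B'))) (J := RingHom.ker θ.toRingHom) bot_le
  haveI hqp : q.IsPrime := hqmin.1.1
  have hdisj := Ideal.disjoint_nonZeroDivisors_of_mem_minimalPrimes (R := (↥W ⊗[B] B')) hqmin
  have hnzW : ∀ w : W, w ≠ 0 → (w ⊗ₜ[B] (1 : B') : (↥W ⊗[B] B')) ∈ nonZeroDivisors (↥W ⊗[B] B') := by
    intro w hw
    have hinj : Function.Injective ((LinearMap.mulLeft B w).rTensor B') :=
      Module.Flat.rTensor_preserves_injective_linearMap _ (mul_right_injective₀ hw)
    refine mem_nonZeroDivisors_iff_right.mpr fun x hx => hinj ?_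
    rw [map_zero]
    have e : ∀ z : (↥W ⊗[B] B'), (LinearMap.mulLeft B w).rTensor B' z = z * (w ⊗ₜ[B] (1 : B')) := by
      intro z
      induction z with
      | zero => simp
      | tmul a b => simp [mul_comm]
      | add a b ha hb => simp [ha, hb, add_mul]
    rw [e, hx]
  have hnzB : ∀ b : B', b ≠ 0 → ((1 : W) ⊗ₜ[B] b : (↥W ⊗[B] B')) ∈ nonZeroDivisors (↥W ⊗[B] B') := by
    intro w hw
    have hinj : Function.Injective ((LinearMap.mulLeft B w).lTensor (W : Type u)) :=
      Module.Flat.lTensor_preserves_injective_linearMap _ (mul_right_injective₀ hw)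
    refine mem_nonZeroDivisors_iff_right.mpr fun x hx => hinj ?_
    rw [map_zero]
    have e : ∀ z : (↥W ⊗[B] B'), (LinearMap.mulLeft B w).lTensor (W : Type u) z = z * ((1 : W) ⊗ₜ[B] w) := by
      intro z
      induction z with
      | zero => simp
      | tmul a b => simp [mul_comm]
      | add a b ha hb => simp [ha, hb, add_mul]
    rw [e, hx]
  let M' := q.ResidueField
  let π : (↥W ⊗[B] B') →+* M' := algebraMap (↥W ⊗[B] B') q.ResidueField
  have hπ : ∀ r, π r = 0 ↔ r ∈ q := fun r => Ideal.algebraMap_residueField_eq_zero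
  let jW : (W : Type u) →+* M' := π.comp Algebra.TensorProduct.includeLeftRingHom
  let jB : B' →+* M' := π.comp (Algebra.TensorProduct.includeRight (R := B) (A := (W : Type u))).toRingHom
  have hjW : Function.Injective jW := (injective_iff_map_eq_zero jW).mpr fun w h => by
    by_contra hw
    exact Set.disjoint_left.mp hdisj ((hπ _).mp h) (hnzW w hw)
  have hjB : Function.Injective jB := (injective_iff_map_eq_zero jB).mpr fun w h => by
    by_contra hw
    exact Set.disjoint_left.mp hdisj ((hπ _).mp h) (hnzB w hw)
  let gM : M →+* M' := IsFractionRing.lift (K := M) hjW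
  let gL : L' →+* M' := IsFractionRing.lift (K := L') hjB
  letI : Algebra L' M' := gL.toAlgebra
  letI : Algebra M M' := gM.toAlgebra
  letI : Algebra L M' := (gM.comp (algebraMap L M)).toAlgebra
  haveI : IsScalarTower L M M' := IsScalarTower.of_algebraMap_eq fun _ => rfl
  have hgW : ∀ w : W, gM (w : M) = jW w := fun w => IsFractionRing.lift_algebraMap hjW w
  have hgB : ∀ b : B', gL (algebraMap B' L' b) = jB b := fun b => IsFractionRing.lift_algebraMap hjB b
  haveI : IsScalarTower L L' M' := IsScalarTower.of_algebraMap_eq' (IsLocalization.ringHom_ext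
    (nonZeroDivisors B) (RingHom.ext fun b => by
      change gM (algebraMap L M (algebraMap B L b)) = gL (algebraMap L L' (algebraMap B L b))
      rw [← IsScalarTower.algebraMap_apply B L L', IsScalarTower.algebraMap_apply B B' L', hgB]
      have e : algebraMap L M (algebraMap B L b) = ((algebraMap B W b : W) : M) := rfl
      rw [e, hgW]
      change π _ = π _
      refine congrArg π ?_
      change (algebraMap B W b) ⊗ₜ[B] (1 : B') = (1 : W) ⊗ₜ[B] algebraMap B B' b
      rw [Algebra.algebraMap_eq_smul_one, TensorProduct.smul_tmul, ← Algebra.algebraMap_eq_smul_one]))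
  let S := Algebra.adjoin L' (Set.range (algebraMap M M'))
  have halg : ∀ x ∈ Set.range (algebraMap M M'), IsAlgebraic L' x := by
    rintro _ ⟨x, rfl⟩
    exact ((IsIntegral.of_finite L x).map (IsScalarTower.toAlgHom L M M')).tower_top.isAlgebraic
  have hS : ∀ r : (↥W ⊗[B] B'), π r ∈ S := by
    intro r
    induction r with
    | zero => rw [map_zero]; exact zero_mem _
    | add a b ha hb => rw [map_add]; exact add_mem ha hb
    | tmul w b =>
      have e : π (w ⊗ₜ b) = jW w * jB b := by
        change _ = π _ * π _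
        rw [← map_mul]
        exact congrArg π (by simp)
      rw [e, ← hgW, ← hgB]
      exact mul_mem (Algebra.subset_adjoin ⟨_, rfl⟩) (Subalgebra.algebraMap_mem S _)
  have htop : S = ⊤ := by
    refine Algebra.eq_top_iff.mpr fun x => ?_
    obtain ⟨a, b, hb, rfl⟩ := IsFractionRing.div_surjective ((↥W ⊗[B] B') ⧸ q) x
    obtain ⟨a, rfl⟩ := Ideal.Quotient.mk_surjective a
    obtain ⟨b, rfl⟩ := Ideal.Quotient.mk_surjective b
    have : S = (IntermediateField.adjoin L' (Set.range (algebraMap M M'))).toSubalgebra :=
      (IntermediateField.adjoin_toSubalgebra_of_isAlgebraic halg).symm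
    have ha := hS a
    have hb := hS b
    rw [this] at ha hb ⊢
    exact (IntermediateField.adjoin L' (Set.range (algebraMap M M'))).div_mem ha hb
  haveI hfin : FiniteDimensional L' M' := by
    have : Module.Finite L' (L' ⊗[L] M) := inferInstance
    refine Module.Finite.of_surjective (Algebra.TensorProduct.lift (Algebra.ofId L' M')
      (IsScalarTower.toAlgHom L M M') fun _ _ => .all _ _ : L' ⊗[L] M →ₐ[L'] M').toLinearMap ?_
    exact Solution.surjective_lift L L' M M' htop
  -- the valuation ring
  obtain ⟨W', hle, hnu⟩ := Ideal.image_subset_nonunits_valuationSubring (A := π.range)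
    ((RingHom.ker θ.toRingHom).map π.rangeRestrict) (by
      intro htop
      have h1 : (RingHom.ker θ.toRingHom).map π.rangeRestrict ≠ ⊤ := by
        intro h0
        have h := congrArg (Ideal.comap π.rangeRestrict) h0
        rw [Ideal.comap_map_of_surjective' π.rangeRestrict π.rangeRestrict_surjective, Ideal.comap_top] at h
        have : RingHom.ker π.rangeRestrict ≤ RingHom.ker θ.toRingHom := fun r hr =>
          hqle ((hπ r).mp (congrArg Subtype.val hr))
        rw [sup_eq_left.mpr this] at h
        exact RingHom.ker_ne_top θ.toRingHom h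
      exact h1 htop)
  have h1 : ∀ r : (↥W ⊗[B] B'), π r ∈ W' := fun r => hle ⟨r, rfl⟩
  have h2 : ∀ r : (↥W ⊗[B] B'), θ r = 0 → W'.valuation (π r) < 1 := fun r hr =>
    (ValuationSubring.mem_nonunits_iff W').1 (hnu ⟨π.rangeRestrict r, Ideal.mem_map_of_mem _ hr, rfl⟩)
  refine ⟨M', inferInstance, inferInstance, inferInstance, inferInstance, inferInstance, inferInstance, W',
    htop, hfin, le_antisymm (fun x hx => ?_) (fun x hx => ?_), fun b => ?_, fun b hb => ?_⟩
  · by_contra hxW
    have hx0 : x ≠ 0 := fun h0 => hxW (h0 ▸ zero_mem _)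
    have hinv : x⁻¹ ∈ W := (W.mem_or_inv_mem x).resolve_left hxW
    have hnu' : (⟨x⁻¹, hinv⟩ : W) ∈ maximalIdeal W := fun hu => hxW (by
      obtain ⟨v, hv⟩ := hu
      have := congrArg Subtype.val v.mul_inv
      rw [MulMemClass.coe_mul, hv] at this
      have h3 := eq_inv_of_mul_eq_one_right (this : x⁻¹ * _ = 1)
      rw [inv_inv] at h3
      exact h3 ▸ (↑v⁻¹ : W).2)
    have hlt : W'.valuation (gM x⁻¹) < 1 := by
      have e : gM x⁻¹ = jW ⟨x⁻¹, hinv⟩ := hgW ⟨x⁻¹, hinv⟩
      rw [e]
      refine h2 _ ?_
      change θ ((⟨x⁻¹, hinv⟩ : W) ⊗ₜ 1) = 0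
      simp [θ, fW, (residue_eq_zero_iff _).mpr hnu']
    have hle1 : W'.valuation (gM x) ≤ 1 := (W'.valuation_le_one_iff _).2 hx
    have hmul : W'.valuation (gM x) * W'.valuation (gM x⁻¹) = 1 := by
      rw [← map_mul, ← map_mul, mul_inv_cancel₀ hx0, map_one, map_one]
    exact absurd hmul (ne_of_lt ((mul_le_of_le_one_left' hle1).trans_lt hlt))
  · change gM x ∈ W'
    rw [show gM x = jW ⟨x, hx⟩ from hgW ⟨x, hx⟩]
    exact h1 _
  · change gL (algebraMap B' L' b) ∈ W'
    rw [hgB]
    exact h1 _
  · change W'.valuation (gL (algebraMap B' L' b)) < 1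
    rw [hgB]
    refine h2 _ ?_
    change θ ((1 : W) ⊗ₜ b) = 0
    simp [θ, fB, (residue_eq_zero_iff _).mpr hb]

end Groth.Agent.EtRamLib.ExtendSquare
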