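import Mathlib

/-!
# Approximating invariant classes by invariant elements in a semi-local ring
-/

set_option autoImplicit false
universe u

open Function

namespace Groth.Agent.EtRamLib.GaloisApprox

variable {G A T : Type u} [Group G] [Finite G] [CommRing A] [IsLocalRing A] [IsNoetherianRing A] [CommRing T]
  [Algebra A T] [Module.Finite A T] (σ : G →* (T ≃ₐ[A] T)) (Q : Ideal T) [Q.IsMaximal]

variable {σ Q} in
theorem exists_le_pow (hPQ : ∀ M : Ideal T, M.IsMaximal → ∃ g, Q.comap (σ g) = M) :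
    Finite (MaximalSpectrum T) ∧ ∃ l : ℕ, 0 < l ∧ ∀ (N : ℕ) (y : T),
      (∀ g, σ g y ∈ Q ^ (l * N)) → y ∈ ((IsLocalRing.maximalIdeal A).map (algebraMap A T)) ^ N := by
  classical
  haveI hmax : ∀ g, (Q.comap (σ g)).IsMaximal := fun g ↦
    Ideal.comap_isMaximal_of_surjective _ (σ g).surjective
  haveI hfin : Finite (MaximalSpectrum T) :=
    Finite.of_surjective (fun g ↦ (⟨Q.comap (σ g), hmax g⟩ : MaximalSpectrum T)) fun M ↦ by
      obtain ⟨g, hg⟩ := hPQ M.asIdeal M.isMaximal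
      exact ⟨g, MaximalSpectrum.ext hg⟩
  haveI := Fintype.ofFinite (MaximalSpectrum T)
  refine ⟨hfin, ?_⟩
  set J : Ideal T := ∏ M : MaximalSpectrum T, M.asIdeal
  haveI : IsNoetherianRing T := IsNoetherianRing.of_finite A T
  haveI : Algebra.IsIntegral A T := Algebra.IsIntegral.of_finite A T
  have hJ : J ≤ ((IsLocalRing.maximalIdeal A).map (algebraMap A T)).radical := by
    rw [Ideal.radical_eq_sInf, le_sInf_iff]
    rintro p ⟨hle, hp⟩
    haveI := hp
    have hc : p.comap (algebraMap A T) = IsLocalRing.maximalIdeal A :=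
      ((IsLocalRing.maximalIdeal.isMaximal A).eq_of_le (Ideal.comap_ne_top _ hp.ne_top) (Ideal.map_le_iff_le_comap.1 hle)).symm
    have hpm : p.IsMaximal := Ideal.isMaximal_of_isIntegral_of_isMaximal_comap (R := A) p
      (hc ▸ IsLocalRing.maximalIdeal.isMaximal A)
    exact (Ideal.prod_le_inf.trans (Finset.inf_le (f := fun M : MaximalSpectrum T ↦ M.asIdeal)
      (Finset.mem_univ ⟨p, hpm⟩)))
  obtain ⟨l, hl⟩ := Ideal.exists_pow_le_of_le_radical_of_fg hJ (IsNoetherian.noetherian _)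
  refine ⟨l + 1, Nat.succ_pos _, fun N y hy ↦ ?_⟩
  refine Ideal.pow_right_mono ((Ideal.pow_le_pow_right l.le_succ).trans hl) N ?_
  rw [← pow_mul, ← Finset.prod_pow, Ideal.prod_eq_iInf_of_pairwise_isCoprime]
  · simp only [Finset.mem_univ, iInf_pos, Submodule.mem_iInf]
    intro M
    obtain ⟨g, hg⟩ := hPQ M.asIdeal M.isMaximal
    have hh : (Q ^ ((l + 1) * N)).comap (σ g) ≤ M.asIdeal ^ ((l + 1) * N) := by
      intro z hz
      have h1 : M.asIdeal = Q.map ((σ g).symm : T →+* T) := by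
        rw [← hg]; exact (Ideal.map_comap_of_equiv (σ g).symm.toRingEquiv).symm
      rw [h1, ← Ideal.map_pow]
      have h2 : (σ g).symm (σ g z) ∈ (Q ^ ((l + 1) * N)).map ((σ g).symm : T →+* T) :=
        Ideal.mem_map_of_mem ((σ g).symm : T →+* T) (Ideal.mem_comap.1 hz)
      rwa [AlgEquiv.symm_apply_apply] at h2
    exact hh (hy g)
  · intro M _ M' _ hne
    exact (Ideal.isCoprime_iff_sup_eq.2 (M.isMaximal.coprime_of_ne M'.isMaximal
      fun h ↦ hne (MaximalSpectrum.ext h))).pow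

omit [Finite G] in
theorem mem_pow_smul_pi {ι : Type u} [Finite ι] {I : Ideal A} {z : ι → T}
    (h : ∀ i, z i ∈ I.map (algebraMap A T)) : z ∈ I • (⊤ : Submodule A (ι → T)) := by
  classical
  haveI := Fintype.ofFinite ι
  rw [← Finset.univ_sum_single z]
  refine Submodule.sum_mem _ fun i _ ↦ ?_
  have h1 : z i ∈ I • (⊤ : Submodule A T) := by rw [Ideal.smul_top_eq_map]; exact h i
  have h2 := Submodule.mem_map_of_mem (f := LinearMap.single A (fun _ ↦ T) i) h1
  rw [Submodule.map_smul''] at h2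
  exact Submodule.smul_mono le_rfl le_top h2

variable {σ Q} in
/-- classes fixed by the decomposition group are approximated by invariant elements -/
theorem exists_approx (hPQ : ∀ M : Ideal T, M.IsMaximal → ∃ g, Q.comap (σ g) = M)
    (hinv : ∀ t : T, (∀ g, σ g t = t) → t ∈ Set.range (algebraMap A T))
    (hmQ : (IsLocalRing.maximalIdeal A).map (algebraMap A T) ≤ Q) (n : ℕ) :
    ∃ N : ℕ, ∀ t : T, (∀ g, Q.comap (σ g) = Q → σ g t - t ∈ Q ^ N) → ∃ a : A, t - algebraMap A T a ∈ Q ^ n := by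
  classical
  obtain ⟨hfin, l, hl0, hl⟩ := exists_le_pow hPQ
  haveI := hfin
  haveI : IsNoetherianRing T := IsNoetherianRing.of_finite A T
  let δ : T →ₗ[A] (G → T) := LinearMap.pi fun g ↦ (σ g).toLinearMap - LinearMap.id
  haveI : Module.Finite A (G → T) := Module.Finite.pi
  obtain ⟨k₀, hk₀⟩ := Ideal.exists_pow_inf_eq_pow_smul (IsLocalRing.maximalIdeal A) (M := G → T)
    (LinearMap.range δ)
  refine ⟨l * (n + k₀), fun t ht ↦ ?_⟩
  choose gM hgM using fun M : MaximalSpectrum T ↦ hPQ M.asIdeal M.isMaximal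
  obtain ⟨y, hy⟩ := Ideal.exists_forall_sub_mem_ideal (I := fun M : MaximalSpectrum T ↦ M.asIdeal ^ (l * (n + k₀)))
    (fun M M' hne ↦ (Ideal.isCoprime_iff_sup_eq.2 (M.isMaximal.coprime_of_ne M'.isMaximal
      fun h ↦ hne (MaximalSpectrum.ext h))).pow) (fun M ↦ σ (gM M)⁻¹ t)
  have key : ∀ g, σ g y - t ∈ Q ^ (l * (n + k₀)) := by
    intro g
    let M : MaximalSpectrum T := ⟨Q.comap (σ g), Ideal.comap_isMaximal_of_surjective _ (σ g).surjective⟩
    set h := gM M with hh
    have hd : Q.comap (σ (g * h⁻¹)) = Q := by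
      ext z
      rw [Ideal.mem_comap, map_mul, AlgEquiv.mul_apply]
      have h1 := SetLike.ext_iff.1 (hgM M) (σ h⁻¹ z)
      rw [Ideal.mem_comap, ← AlgEquiv.mul_apply, ← map_mul, mul_inv_cancel, map_one, AlgEquiv.one_apply] at h1
      exact h1.symm
    have h2 : σ g (y - σ h⁻¹ t) ∈ Q ^ (l * (n + k₀)) := by
      have h3 := Ideal.mem_map_of_mem (σ g : T →+* T) (hy M)
      rw [Ideal.map_pow] at h3
      refine Ideal.pow_right_mono ?_ _ h3
      exact Ideal.map_comap_le
    rw [map_sub, ← AlgEquiv.mul_apply, ← map_mul] at h2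
    have := add_mem h2 (ht (g * h⁻¹) hd)
    rwa [sub_add_sub_cancel] at this
  have hδ : δ y ∈ IsLocalRing.maximalIdeal A ^ (n + k₀) • ⊤ ⊓ LinearMap.range δ := by
    refine ⟨mem_pow_smul_pi fun h ↦ ?_, LinearMap.mem_range_self _ _⟩
    rw [Ideal.map_pow]
    refine hl _ _ fun g ↦ ?_
    change σ g (σ h y - y) ∈ _
    rw [map_sub, ← AlgEquiv.mul_apply, ← map_mul]
    have := sub_mem (key (g * h)) (key g)
    rwa [sub_sub_sub_cancel_right] at this
  rw [hk₀ _ (Nat.le_add_left _ _), Nat.add_sub_cancel] at hδ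
  obtain ⟨z, hz, hzy⟩ : δ y ∈ (IsLocalRing.maximalIdeal A ^ n • (⊤ : Submodule A T)).map δ := by
    rw [Submodule.map_smul'', Submodule.map_top]
    exact Submodule.smul_mono le_rfl inf_le_right hδ
  obtain ⟨a, ha⟩ := hinv (y - z) fun g ↦ by
    have := congrFun hzy g
    change σ g z - z = σ g y - y at this
    rw [map_sub]
    linear_combination -this
  refine ⟨a, ?_⟩
  rw [ha]
  have hzQ : z ∈ Q ^ n := by
    rw [Ideal.smul_top_eq_map, Ideal.map_pow] at hz
    exact Ideal.pow_right_mono hmQ n hz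
  have h1 := key 1
  rw [map_one, AlgEquiv.one_apply] at h1
  have hle : n ≤ l * (n + k₀) := (Nat.le_add_right n k₀).trans (Nat.le_mul_of_pos_left _ hl0)
  rw [show t - (y - z) = -(y - t) + z by ring]
  exact add_mem (neg_mem (Ideal.pow_le_pow_right hle h1)) hzQ

variable {σ Q} in
/-- invariant elements deep in `Q` are deep in the maximal ideal of the base -/
theorem descend (hPQ : ∀ M : Ideal T, M.IsMaximal → ∃ g, Q.comap (σ g) = M)
    (hinj : Function.Injective (algebraMap A T)) (n : ℕ) :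
    ∃ N : ℕ, ∀ a : A, algebraMap A T a ∈ Q ^ N → a ∈ IsLocalRing.maximalIdeal A ^ n := by
  obtain ⟨-, l, -, hl⟩ := exists_le_pow hPQ
  obtain ⟨k₀, hk₀⟩ := Ideal.exists_pow_inf_eq_pow_smul (IsLocalRing.maximalIdeal A) (M := T)
    (LinearMap.range (Algebra.linearMap A T))
  refine ⟨l * (n + k₀), fun a ha ↦ ?_⟩
  have h : Algebra.linearMap A T a ∈ IsLocalRing.maximalIdeal A ^ (n + k₀) • ⊤ ⊓ LinearMap.range (Algebra.linearMap A T) := by
    refine ⟨?_, LinearMap.mem_range_self _ _⟩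
    rw [Ideal.smul_top_eq_map, Ideal.map_pow]
    exact hl _ _ fun g ↦ by rw [Algebra.linearMap_apply, AlgEquiv.commutes]; exact ha
  rw [hk₀ _ (Nat.le_add_left _ _), Nat.add_sub_cancel] at h
  obtain ⟨b, hb, hba⟩ : Algebra.linearMap A T a ∈
      (IsLocalRing.maximalIdeal A ^ n • (⊤ : Submodule A A)).map (Algebra.linearMap A T) := by
    rw [Submodule.map_smul'', Submodule.map_top]
    exact Submodule.smul_mono le_rfl inf_le_right h
  rw [Algebra.linearMap_apply, Algebra.linearMap_apply] at hba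
  rw [← hinj hba]
  simpa using hb

end Groth.Agent.EtRamLib.GaloisApprox
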