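import Mathlib
import Groth.Agent.EtRamLib.GaloisApprox

/-!
# The Galois action on a semi-local ring above a prime
-/

set_option autoImplicit false
universe u

open scoped Pointwise

namespace Groth.Agent.EtRamLib.GaloisLoc

variable (R S G A T : Type u) [CommRing R] [CommRing S] [IsDomain R] [IsDomain S] [Algebra R S] [FaithfulSMul R S]
  [Group G] [MulSemiringAction G S] [SMulCommClass G R S] (P : Ideal R) [P.IsPrime]
  [CommRing A] [Algebra R A] [IsLocalization.AtPrime A P] [CommRing T] [Algebra S T] [Algebra R T]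
  [IsScalarTower R S T] [IsLocalization (Algebra.algebraMapSubmonoid S P.primeCompl) T] [Algebra A T]
  [IsScalarTower R A T]

include R P in
theorem exists_sigma :
    ∃ σ : G →* (T ≃ₐ[A] T), ∀ (g : G) (s : S), σ g (algebraMap S T s) = algebraMap S T (g • s) := by
  let M := Algebra.algebraMapSubmonoid S P.primeCompl
  have hM : ∀ g : G, M.map (MulSemiringAction.toRingEquiv G S g).toMonoidHom = M := by
    intro g
    apply le_antisymm
    · rintro _ ⟨_, ⟨r, hr, rfl⟩, rfl⟩
      exact ⟨r, hr, (smul_algebraMap g r).symm⟩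
    · rintro _ ⟨r, hr, rfl⟩
      exact ⟨algebraMap R S r, ⟨r, hr, rfl⟩, smul_algebraMap g r⟩
  let e : G → (T ≃+* T) := fun g ↦
    IsLocalization.ringEquivOfRingEquiv T T (MulSemiringAction.toRingEquiv G S g) (hM g)
  have he : ∀ g s, e g (algebraMap S T s) = algebraMap S T (g • s) := fun g s ↦
    IsLocalization.ringEquivOfRingEquiv_eq (hM g) s
  have hfix : ∀ g (a : A), e g (algebraMap A T a) = algebraMap A T a := by
    intro g a
    refine RingHom.congr_fun (IsLocalization.ringHom_ext P.primeCompl (RingHom.ext fun r ↦ ?_) :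
      (e g).toRingHom.comp (algebraMap A T) = algebraMap A T) a
    change e g (algebraMap A T (algebraMap R A r)) = algebraMap A T (algebraMap R A r)
    rw [← IsScalarTower.algebraMap_apply, IsScalarTower.algebraMap_apply R S T, he, smul_algebraMap]
  let E : G → (T ≃ₐ[A] T) := fun g ↦ AlgEquiv.ofRingEquiv (f := e g) (hfix g)
  have hext : ∀ f₁ f₂ : T ≃ₐ[A] T, (∀ s, f₁ (algebraMap S T s) = f₂ (algebraMap S T s)) → f₁ = f₂ := by
    intro f₁ f₂ h
    ext t
    exact RingHom.congr_fun (IsLocalization.ringHom_ext M (RingHom.ext h) :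
      f₁.toRingEquiv.toRingHom = f₂.toRingEquiv.toRingHom) t
  exact ⟨MonoidHom.mk' E fun g h ↦ hext _ _ fun s ↦ by
    change e (g * h) (algebraMap S T s) = e g (e h (algebraMap S T s))
    rw [he, he, he, mul_smul], he⟩

variable {R S G A T P}
variable [Finite G] [IsGaloisGroup G R S] (Q : Ideal S) [Q.IsPrime] [Q.LiesOver P]
  (σ : G →* (T ≃ₐ[A] T)) (hσ : ∀ (g : G) (s : S), σ g (algebraMap S T s) = algebraMap S T (g • s))

omit [IsDomain R] [FaithfulSMul R S] [Group G] [MulSemiringAction G S] [SMulCommClass G R S] [Finite G]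
  [Algebra R A] [IsLocalization.AtPrime A P] [Algebra A T] [IsScalarTower R A T] [IsGaloisGroup G R S] in
theorem disjoint_of_liesOver (M : Ideal S) [M.LiesOver P] :
    Disjoint (Algebra.algebraMapSubmonoid S P.primeCompl : Set S) M :=
  Set.disjoint_left.2 fun _ ⟨r, hr, he⟩ h ↦ hr (by
    rw [Ideal.LiesOver.over (p := P) (P := M), Ideal.under_def]
    change algebraMap R S r ∈ M
    rw [he]; exact h)

include R P hσ in
theorem invariant (t : T) (ht : ∀ g, σ g t = t) : t ∈ Set.range (algebraMap A T) := by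
  have hinj : Function.Injective (algebraMap S T) :=
    IsLocalization.injective T (algebraMapSubmonoid_le_nonZeroDivisors_of_faithfulSMul _ P.primeCompl_le_nonZeroDivisors)
  obtain ⟨s, ⟨_, r, hr, rfl⟩, rfl⟩ := IsLocalization.exists_mk'_eq (Algebra.algebraMapSubmonoid S P.primeCompl) t
  have hs : ∀ g : G, g • s = s := fun g ↦ hinj (by
    have h := IsLocalization.mk'_spec T s (⟨algebraMap R S r, r, hr, rfl⟩ : Algebra.algebraMapSubmonoid S P.primeCompl)
    have h2 := congrArg (σ g) h
    rw [map_mul, ht g, hσ, hσ, smul_algebraMap] at h2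
    exact h2.symm.trans h)
  obtain ⟨r', hr'⟩ := (Algebra.IsInvariant.isInvariant (A := R) (G := G) s hs)
  refine ⟨IsLocalization.mk' A r' (⟨r, hr⟩ : P.primeCompl), ?_⟩
  rw [IsLocalization.eq_mk'_iff_mul_eq]
  change algebraMap A T _ * algebraMap S T (algebraMap R S r) = _
  rw [← IsScalarTower.algebraMap_apply, IsScalarTower.algebraMap_apply R A T, ← map_mul, IsLocalization.mk'_spec_mk,
    ← IsScalarTower.algebraMap_apply, IsScalarTower.algebraMap_apply R S T, hr']

include R P hσ in
theorem comap_eq_of_smul (g : G) (M : Ideal S) [M.IsPrime] [M.LiesOver P] :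
    (M.map (algebraMap S T)).comap (σ g) = (g⁻¹ • M).map (algebraMap S T) := by
  have hd := disjoint_of_liesOver (P := P) M
  haveI hMp := IsLocalization.isPrime_of_isPrime_disjoint (Algebra.algebraMapSubmonoid S P.primeCompl) T M ‹_› hd
  have hM := IsLocalization.under_map_of_isPrime_disjoint (Algebra.algebraMapSubmonoid S P.primeCompl) T ‹M.IsPrime› hd
  rw [← IsLocalization.map_under (Algebra.algebraMapSubmonoid S P.primeCompl) T ((M.map (algebraMap S T)).comap (σ g))]
  congr 1
  ext s
  rw [Ideal.under_def, Ideal.mem_comap, Ideal.mem_comap, hσ, ← Ideal.mem_comap, ← Ideal.under_def, hM,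
    Ideal.mem_inv_pointwise_smul_iff]

include R P hσ in
theorem setup [IsLocalRing A] [Algebra.IsIntegral A T] :
    (Q.map (algebraMap S T)).IsMaximal ∧ (Q.map (algebraMap S T)).comap (algebraMap S T) = Q ∧
      (IsLocalRing.maximalIdeal A).map (algebraMap A T) ≤ Q.map (algebraMap S T) ∧
      (∀ M : Ideal T, M.IsMaximal → ∃ g, (Q.map (algebraMap S T)).comap (σ g) = M) ∧
      ∀ g : G, (Q.map (algebraMap S T)).comap (σ g) = Q.map (algebraMap S T) ↔ g ∈ MulAction.stabilizer G Q := by
  have hd := disjoint_of_liesOver (P := P) Q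
  haveI hQp := IsLocalization.isPrime_of_isPrime_disjoint (Algebra.algebraMapSubmonoid S P.primeCompl) T Q ‹_› hd
  have hQ : (Q.map (algebraMap S T)).comap (algebraMap S T) = Q :=
    IsLocalization.under_map_of_isPrime_disjoint (Algebra.algebraMapSubmonoid S P.primeCompl) T ‹Q.IsPrime› hd
  have hA : (Q.map (algebraMap S T)).comap (algebraMap A T) = IsLocalRing.maximalIdeal A := by
    rw [← IsLocalization.AtPrime.map_eq_maximalIdeal P A,
      ← IsLocalization.map_under P.primeCompl A ((Q.map (algebraMap S T)).comap (algebraMap A T)), Ideal.under_def,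
      Ideal.comap_comap, ← IsScalarTower.algebraMap_eq, IsScalarTower.algebraMap_eq R S T, ← Ideal.comap_comap, hQ,
      ← Ideal.under_def, ← Ideal.LiesOver.over (p := P) (P := Q)]
  refine ⟨Ideal.isMaximal_of_isIntegral_of_isMaximal_comap (R := A) _ (hA ▸ IsLocalRing.maximalIdeal.isMaximal A), hQ,
    Ideal.map_le_iff_le_comap.2 hA.ge, fun M hM ↦ ?_, fun g ↦ ?_⟩
  · haveI := hM
    set MS := M.comap (algebraMap S T) with hMS
    have hMR : MS.under R = Q.under R := by
      have h1 : M.comap (algebraMap A T) = IsLocalRing.maximalIdeal A :=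
        IsLocalRing.eq_maximalIdeal (Ideal.isMaximal_comap_of_isIntegral_of_isMaximal M)
      rw [Ideal.under_def, hMS, Ideal.comap_comap, ← IsScalarTower.algebraMap_eq,
        IsScalarTower.algebraMap_eq R A T, ← Ideal.comap_comap, h1, ← Ideal.LiesOver.over (p := P) (P := Q)]
      exact IsLocalization.AtPrime.comap_maximalIdeal A P
    obtain ⟨g, hg⟩ := Algebra.IsInvariant.exists_smul_of_under_eq R S G Q MS hMR.symm
    refine ⟨g⁻¹, ?_⟩
    rw [comap_eq_of_smul (P := P) σ hσ, inv_inv, ← hg]
    exact IsLocalization.map_under (Algebra.algebraMapSubmonoid S P.primeCompl) T M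
  · rw [comap_eq_of_smul (P := P) σ hσ, MulAction.mem_stabilizer_iff]
    constructor
    · intro h
      haveI : (g⁻¹ • Q).LiesOver P := inferInstance
      have h1 := congrArg (fun I : Ideal T ↦ I.comap (algebraMap S T)) h
      rw [hQ] at h1
      have h2 := IsLocalization.under_map_of_isPrime_disjoint (Algebra.algebraMapSubmonoid S P.primeCompl) T
        (Ideal.IsPrime.smul (H := ‹Q.IsPrime›) g⁻¹) (disjoint_of_liesOver (P := P) (g⁻¹ • Q))
      rw [Ideal.under_def] at h2
      rw [h2] at h1
      exact (inv_smul_eq_iff.1 h1).symm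
    · intro h
      rw [inv_smul_eq_iff.2 h.symm]

end Groth.Agent.EtRamLib.GaloisLoc
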