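import Mathlib
import Groth.Agent.CAlgA.VNR
import Groth.Agent.FBase.TensorAlgClosed

/-!
# Auxiliary lemmas for tame base change: Kummer algebras are reduced; geometric reducedness is transitive
-/

set_option autoImplicit false
universe u

open Polynomial TensorProduct

namespace Groth.Agent.EtRamLib.TameAux

/-- `Q[T]/(T ^ e - c)` is reduced when `Q` is, `e` and `c` being invertible -/
theorem isReduced_adjoinRoot {Q : Type u} [CommRing Q] [IsReduced Q] {e : ℕ} (he0 : 0 < e) (he : IsUnit (e : Q))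
    {c : Q} (hc : IsUnit c) : IsReduced (AdjoinRoot (X ^ e - C c)) := by
  rcases subsingleton_or_nontrivial Q with hQ | hQ
  · haveI : Subsingleton (AdjoinRoot (X ^ e - C c)) := AdjoinRoot.mk_surjective.subsingleton
    infer_instance
  have hm : (X ^ e - C c : Q[X]).Monic := monic_X_pow_sub_C c he0.ne'
  refine ⟨fun y ⟨n, hn⟩ ↦ ?_⟩
  set g := AdjoinRoot.modByMonicHom hm y with hg
  have hy : AdjoinRoot.mk (X ^ e - C c) g = y := AdjoinRoot.mk_leftInverse hm y
  have hgdeg : g.degree < (X ^ e - C c : Q[X]).degree := by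
    obtain ⟨q, rfl⟩ := AdjoinRoot.mk_surjective y
    rw [hg, AdjoinRoot.modByMonicHom_mk]
    exact degree_modByMonic_lt _ hm
  rw [← hy, ← map_pow, AdjoinRoot.mk_eq_zero] at hn
  suffices hg0 : g = 0 by rw [← hy, hg0, map_zero]
  ext i
  rw [coeff_zero]
  refine IsReduced.eq_zero _ (mem_nilradical.1 ?_)
  rw [nilradical_eq_sInf, Ideal.mem_sInf]
  intro P hP
  haveI : P.IsPrime := hP
  let φ : Q →+* FractionRing (Q ⧸ P) := (algebraMap (Q ⧸ P) _).comp (Ideal.Quotient.mk P)
  have hφe : (e : FractionRing (Q ⧸ P)) ≠ 0 := by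
    have := (he.map φ).ne_zero
    rwa [map_natCast] at this
  have hdiv := Polynomial.map_dvd φ hn
  rw [Polynomial.map_sub, Polynomial.map_pow, map_X, map_C, Polynomial.map_pow] at hdiv
  have hsq : Squarefree (X ^ e - C (φ c)) := (separable_X_pow_sub_C _ hφe (hc.map φ).ne_zero).squarefree
  have h1 : X ^ e - C (φ c) ∣ g.map φ := by
    rcases Nat.eq_zero_or_pos n with rfl | hn0
    · rw [pow_zero] at hdiv
      exact dvd_trans hdiv (one_dvd _)
    · exact (hsq.dvd_pow_iff_dvd hn0.ne').1 hdiv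
  have h2 : g.map φ = 0 := by
    refine eq_zero_of_dvd_of_degree_lt h1 ((degree_map_le).trans_lt (hgdeg.trans_le ?_))
    rw [degree_X_pow_sub_C he0, degree_X_pow_sub_C he0]
  have h3 := congrArg (fun q ↦ q.coeff i) h2
  rw [coeff_map, coeff_zero] at h3
  exact Ideal.Quotient.eq_zero_iff_mem.1 ((map_eq_zero_iff _ (IsFractionRing.injective (Q ⧸ P) _)).1 h3)

theorem geometricallyReduced_trans {k k' k'' : Type u} [Field k] [Field k'] [Field k''] [Algebra k k'] [Algebra k k'']
    [Algebra k' k''] [IsScalarTower k k' k''] [Algebra.IsGeometricallyReduced k k'] [Algebra.IsSeparable k' k''] :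
    Algebra.IsGeometricallyReduced k k'' := by
  haveI : Algebra.IsGeometricallyReduced k' k'' :=
    (Algebra.isGeometricallyReduced_field_iff k' k'').2 (CAlgA.VNR.isReduced_tensor_separable _ k'')
  rw [Algebra.isGeometricallyReduced_field_iff]
  let Ω := AlgebraicClosure k
  haveI : IsReduced (Ω ⊗[k] k') := (Algebra.isGeometricallyReduced_field_iff k k').1 inferInstance
  haveI : IsReduced (k' ⊗[k] Ω) :=
    isReduced_of_injective (Algebra.TensorProduct.comm k k' Ω) (AlgEquiv.injective _)
  haveI : IsReduced ((k' ⊗[k] Ω) ⊗[k'] k'') :=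
    FBase.TensorAlgClosed.isReduced_tensor_of_isReduced_of_isGeometricallyReduced
  haveI : IsReduced (k'' ⊗[k'] (k' ⊗[k] Ω)) :=
    isReduced_of_injective (Algebra.TensorProduct.comm k' k'' (k' ⊗[k] Ω)) (AlgEquiv.injective _)
  haveI : IsReduced (k'' ⊗[k] Ω) :=
    isReduced_of_injective (Algebra.TensorProduct.cancelBaseChange k k' k' k'' Ω).symm (AlgEquiv.injective _)
  exact isReduced_of_injective (Algebra.TensorProduct.comm k Ω k'') (AlgEquiv.injective _)

end Groth.Agent.EtRamLib.TameAux
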