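import Groth.Agent.EtRamLib.Solution
import Groth.Agent.EtRamLib.TameAux

/-!
# The predicate of a solution along towers of fields
-/

set_option autoImplicit false
universe u

open IsLocalRing TensorProduct

namespace Groth.Agent.EtRamLib.Good

/-- geometric reducedness is transitive -/
theorem geometricallyReduced_trans {k k' k'' : Type u} [Field k] [Field k'] [Field k''] [Algebra k k'] [Algebra k k'']
    [Algebra k' k''] [IsScalarTower k k' k''] [Algebra.IsGeometricallyReduced k k']
    [Algebra.IsGeometricallyReduced k' k''] :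
    Algebra.IsGeometricallyReduced k k'' := by
  rw [Algebra.isGeometricallyReduced_field_iff]
  let Ω := AlgebraicClosure k
  haveI : IsReduced (Ω ⊗[k] k') := (Algebra.isGeometricallyReduced_field_iff k k').1 inferInstance
  haveI : IsReduced (k' ⊗[k] Ω) :=
    isReduced_of_injective (Algebra.TensorProduct.comm k k' Ω) (AlgEquiv.injective _)
  haveI : IsReduced ((k' ⊗[k] Ω) ⊗[k'] k'') :=
    FBase.TensorAlgClosed.isReduced_tensor_of_isReduced_of_isGeometricallyReduced
  haveI : IsReduced (k'' ⊗[k'] (k' ⊗[k] Ω)) :=
    isReduced_of_injective (Algebra.TensorProduct.comm k' k'' (k' ⊗[k] Ω)) (AlgEquiv.injective _)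
  haveI : IsReduced (k'' ⊗[k] Ω) :=
    isReduced_of_injective (Algebra.TensorProduct.cancelBaseChange k k' k' k'' Ω).symm (AlgEquiv.injective _)
  exact isReduced_of_injective (Algebra.TensorProduct.comm k Ω k'') (AlgEquiv.injective _)

theorem geometricallyReduced_of_isSeparable (k k' : Type u) [Field k] [Field k'] [Algebra k k']
    [Algebra.IsSeparable k k'] : Algebra.IsGeometricallyReduced k k' :=
  (Algebra.isGeometricallyReduced_field_iff k k').2 (CAlgA.VNR.isReduced_tensor_separable _ k')

/-- `W ∩ K → W` is weakly unramified with geometrically reduced residue field extension. -/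
def Good {K M : Type u} [Field K] [Field M] (W : ValuationSubring M) (f : K →+* M) : Prop :=
  letI : Algebra (W.comap f) W := (EtRam.inclOfComap W f).toAlgebra
  EtRam.IsWeaklyUnramified (W.comap f) W ∧
    @Algebra.IsGeometricallyReduced (ResidueField (W.comap f)) (ResidueField W) _ _
      (IsLocalRing.ResidueField.map (EtRam.inclOfComap W f)).toAlgebra

theorem good_iff {K M : Type u} [Field K] [Field M] (W : ValuationSubring M) (f : K →+* M) :
    Good W f ↔ ((maximalIdeal (W.comap f)).map (EtRam.inclOfComap W f) = maximalIdeal W ∧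
      @Algebra.IsGeometricallyReduced (ResidueField (W.comap f)) (ResidueField W) _ _
      (IsLocalRing.ResidueField.map (EtRam.inclOfComap W f)).toAlgebra) := Iff.rfl

variable {K M M' : Type u} [Field K] [Field M] [Field M']

/-- The inclusion of a double comap. -/
theorem inclOfComap_comp (W' : ValuationSubring M') (f : K →+* M) (g : M →+* M') :
    EtRam.inclOfComap W' (g.comp f) =
      (EtRam.inclOfComap W' g).comp (EtRam.inclOfComap (W'.comap g) f) := RingHom.ext fun _ => rfl

theorem good_trans {W' : ValuationSubring M'} {f : K →+* M} {g : M →+* M'}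
    (h1 : Good (W'.comap g) f) (h2 : Good W' g) : Good W' (g.comp f) := by
  rw [good_iff] at h1 h2 ⊢
  refine ⟨?_, ?_⟩
  · rw [inclOfComap_comp, ← h2.1, ← h1.1, Ideal.map_map]
    rfl
  · letI a1 : Algebra (ResidueField ((W'.comap g).comap f)) (ResidueField (W'.comap g)) :=
      (IsLocalRing.ResidueField.map (EtRam.inclOfComap (W'.comap g) f)).toAlgebra
    letI a2 : Algebra (ResidueField (W'.comap g)) (ResidueField W') :=
      (IsLocalRing.ResidueField.map (EtRam.inclOfComap W' g)).toAlgebra
    letI a3 : Algebra (ResidueField ((W'.comap g).comap f)) (ResidueField W') :=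
      (IsLocalRing.ResidueField.map (EtRam.inclOfComap W' (g.comp f))).toAlgebra
    haveI : IsScalarTower (ResidueField ((W'.comap g).comap f)) (ResidueField (W'.comap g)) (ResidueField W') :=
      IsScalarTower.of_algebraMap_eq fun x => by
        obtain ⟨x, rfl⟩ := residue_surjective x
        rfl
    haveI : @Algebra.IsGeometricallyReduced (ResidueField ((W'.comap g).comap f)) (ResidueField (W'.comap g)) _ _ a1 := h1.2
    haveI : @Algebra.IsGeometricallyReduced (ResidueField (W'.comap g)) (ResidueField W') _ _ a2 := h2.2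
    exact (geometricallyReduced_trans (k := ResidueField ((W'.comap g).comap f)) (k' := ResidueField (W'.comap g))
      (k'' := ResidueField W') : @Algebra.IsGeometricallyReduced (ResidueField ((W'.comap g).comap f)) (ResidueField W') _ _ a3)

theorem good_cancel {W' : ValuationSubring M'} [IsDiscreteValuationRing W'] {f : K →+* M} {g : M →+* M'}
    [IsDiscreteValuationRing (W'.comap g)] (h : Good W' (g.comp f)) : Good (W'.comap g) f := by
  rw [good_iff] at h ⊢
  refine ⟨?_, ?_⟩
  · obtain ⟨π, hπ⟩ := IsDiscreteValuationRing.exists_irreducible (W'.comap g)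
    have hle : (maximalIdeal ((W'.comap g).comap f)).map (EtRam.inclOfComap (W'.comap g) f) ≤
        maximalIdeal (W'.comap g) := by
      rw [Ideal.map_le_iff_le_comap]
      exact fun x hx hu => hx (isUnit_of_map_unit (EtRam.inclOfComap (W'.comap g) f) x hu)
    by_contra hne
    have hlt := lt_of_le_of_ne hle hne
    have hle2 : (maximalIdeal ((W'.comap g).comap f)).map (EtRam.inclOfComap (W'.comap g) f) ≤
        maximalIdeal (W'.comap g) ^ 2 := by
      intro x hx
      by_contra hx2
      rw [hπ.maximalIdeal_eq, Ideal.span_singleton_pow, Ideal.mem_span_singleton] at hx2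
      obtain ⟨c, rfl⟩ := Ideal.mem_span_singleton.mp (hπ.maximalIdeal_eq ▸ hle hx : x ∈ Ideal.span {π})
      have hc : IsUnit c := by
        by_contra hc
        have : c ∈ maximalIdeal (W'.comap g) := hc
        rw [hπ.maximalIdeal_eq, Ideal.mem_span_singleton] at this
        exact hx2 (by rw [pow_two]; exact mul_dvd_mul_left π this)
      refine hlt.not_ge ?_
      rw [hπ.maximalIdeal_eq, Ideal.span_singleton_le_iff_mem]
      exact (Ideal.mul_unit_mem_iff_mem _ hc).mp hx
    have h1 := Ideal.map_mono (f := EtRam.inclOfComap W' g) hle2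
    rw [Ideal.map_map, ← inclOfComap_comp, Ideal.map_pow] at h1
    have h2 : (maximalIdeal (W'.comap g)).map (EtRam.inclOfComap W' g) ≤ maximalIdeal W' := by
      rw [Ideal.map_le_iff_le_comap]
      exact fun x hx hu => hx (isUnit_of_map_unit (EtRam.inclOfComap W' g) x hu)
    have h3 : maximalIdeal W' ≤ maximalIdeal W' ^ 2 :=
      h.1.ge.trans (h1.trans (Ideal.pow_right_mono h2 2))
    obtain ⟨ϖ, hϖ⟩ := IsDiscreteValuationRing.exists_irreducible W'
    rw [hϖ.maximalIdeal_eq, Ideal.span_singleton_pow, Ideal.span_singleton_le_iff_mem,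
      Ideal.mem_span_singleton] at h3
    exact hϖ.not_isUnit (isUnit_of_dvd_one ((mul_dvd_mul_iff_left hϖ.ne_zero).mp (by rwa [mul_one, ← pow_two])))
  · letI a1 : Algebra (ResidueField ((W'.comap g).comap f)) (ResidueField (W'.comap g)) :=
      (IsLocalRing.ResidueField.map (EtRam.inclOfComap (W'.comap g) f)).toAlgebra
    letI a3 : Algebra (ResidueField ((W'.comap g).comap f)) (ResidueField W') :=
      (IsLocalRing.ResidueField.map (EtRam.inclOfComap W' (g.comp f))).toAlgebra
    haveI : @Algebra.IsGeometricallyReduced (ResidueField ((W'.comap g).comap f)) (ResidueField W') _ _ a3 := h.2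
    let e : ResidueField (W'.comap g) →ₐ[ResidueField ((W'.comap g).comap f)] ResidueField W' :=
      { IsLocalRing.ResidueField.map (EtRam.inclOfComap W' g) with
        commutes' := fun x => by
          obtain ⟨x, rfl⟩ := residue_surjective x
          rfl }
    exact Algebra.IsGeometricallyReduced.of_injective e e.toRingHom.injective

/-- `Solution.main` in terms of `Good`. -/
theorem step (A B K L K₁ M : Type u) [CommRing A] [IsDomain A] [IsDiscreteValuationRing A]
    [CommRing B] [IsDomain B] [IsDiscreteValuationRing B] [Algebra A B] [IsLocalHom (algebraMap A B)]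
    [Field K] [Field L] [Field K₁] [Field M] [Algebra A K] [IsFractionRing A K] [Algebra B L] [IsFractionRing B L]
    [Algebra K L] [Algebra A L] [IsScalarTower A K L] [IsScalarTower A B L]
    (hw : EtRam.IsWeaklyUnramified A B) (hres : Algebra.IsGeometricallyReduced (ResidueField A) (ResidueField B))
    [Algebra K K₁] [FiniteDimensional K K₁]
    [Algebra K M] [Algebra L M] [Algebra K₁ M] [IsScalarTower K L M] [IsScalarTower K K₁ M]
    (hgen : Algebra.adjoin L (Set.range (algebraMap K₁ M)) = ⊤) (W : ValuationSubring M)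
    (hW : EtRam.Dominates B ((algebraMap L M).comp (algebraMap B L)) W) :
    Good W (algebraMap K₁ M) :=
  ⟨(Solution.main A B K L K₁ M hw hgen W hW (Or.inl hres)).1,
    (Solution.main A B K L K₁ M hw hgen W hW (Or.inl hres)).2 hres⟩

/-- Good extensions are preserved by finite base change. -/
theorem good_baseChange {K₁ M₁ F M' : Type u} [Field K₁] [Field M₁] [Field F] [Field M']
    [Algebra K₁ M₁] [Algebra K₁ F] [FiniteDimensional K₁ F] [Algebra K₁ M'] [Algebra M₁ M'] [Algebra F M']
    [IsScalarTower K₁ M₁ M'] [IsScalarTower K₁ F M']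
    (hgen : Algebra.adjoin M₁ (Set.range (algebraMap F M')) = ⊤) (W' : ValuationSubring M')
    [IsDiscreteValuationRing (W'.comap (algebraMap M₁ M'))]
    [IsDiscreteValuationRing ((W'.comap (algebraMap M₁ M')).comap (algebraMap K₁ M₁))]
    (h : Good (W'.comap (algebraMap M₁ M')) (algebraMap K₁ M₁)) : Good W' (algebraMap F M') := by
  letI : Algebra ((W'.comap (algebraMap M₁ M')).comap (algebraMap K₁ M₁)) (W'.comap (algebraMap M₁ M')) :=
    (EtRam.inclOfComap (W'.comap (algebraMap M₁ M')) (algebraMap K₁ M₁)).toAlgebra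
  haveI : IsLocalHom (algebraMap ((W'.comap (algebraMap M₁ M')).comap (algebraMap K₁ M₁))
      (W'.comap (algebraMap M₁ M'))) :=
    EtRam.isLocalHom_inclOfComap _ _
  letI : Algebra ((W'.comap (algebraMap M₁ M')).comap (algebraMap K₁ M₁)) M₁ :=
    ((algebraMap K₁ M₁).comp ((W'.comap (algebraMap M₁ M')).comap (algebraMap K₁ M₁)).subtype).toAlgebra
  haveI : IsScalarTower ((W'.comap (algebraMap M₁ M')).comap (algebraMap K₁ M₁)) K₁ M₁ :=
    IsScalarTower.of_algebraMap_eq fun _ => rfl
  haveI : IsScalarTower ((W'.comap (algebraMap M₁ M')).comap (algebraMap K₁ M₁))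
      (W'.comap (algebraMap M₁ M')) M₁ := IsScalarTower.of_algebraMap_eq fun _ => rfl
  refine step ((W'.comap (algebraMap M₁ M')).comap (algebraMap K₁ M₁)) (W'.comap (algebraMap M₁ M'))
    K₁ M₁ F M' h.1 (by
      convert h.2 using 1
      exact Algebra.algebra_ext _ _ fun x => by
        obtain ⟨x, rfl⟩ := residue_surjective x
        rfl) hgen W' ⟨fun a => a.2, fun a ha => ?_⟩
  refine (W'.valuation_lt_one_iff ⟨_, a.2⟩).1 fun hu => ha ?_
  exact isUnit_of_map_unit (EtRam.inclOfComap W' (algebraMap M₁ M')) a hu

end Groth.Agent.EtRamLib.Good
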