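import Mathlib

/-!
# Inertia and wild inertia of a maximal ideal under a group action

Elementary facts about a group `G` acting on a ring `B`, a maximal ideal `m` and the inertia
subgroups of the powers of `m`.
-/

set_option autoImplicit false

open scoped Pointwise
open Polynomial

namespace Groth.Agent.EtRamLib.Inertia

variable {B G : Type*} [CommRing B] [Group G] [MulSemiringAction G B] {m : Ideal B}

lemma inertia_mono {I J : Ideal B} (h : I ≤ J) : I.inertia G ≤ J.inertia G :=
  fun _ hσ x => h (hσ x)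

lemma smul_mem_of_inertia {σ : G} (hσ : σ ∈ m.inertia G) {y : B} (hy : y ∈ m) : σ • y ∈ m := by
  rw [← sub_add_cancel (σ • y) y]
  exact m.add_mem (hσ y) hy

lemma smul_sub_mem_pow_succ {σ : G} (hσ : σ ∈ (m ^ 2).inertia G) :
    ∀ (n : ℕ) {y : B}, y ∈ m ^ n → σ • y - y ∈ m ^ (n + 1)
  | 0, y, _ => Ideal.pow_le_pow_right (by omega) (hσ y)
  | n + 1, y, hy => by
    rw [pow_succ] at hy
    refine Submodule.mul_induction_on hy (fun a ha b hb => ?_) (fun a b ha hb => ?_)
    · have hσm : σ ∈ m.inertia G := inertia_mono (Ideal.pow_le_self two_ne_zero) hσ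
      have e : σ • (a * b) - a * b = (σ • a - a) * (σ • b) + a * (σ • b - b) := by
        rw [smul_mul']; ring
      rw [e]
      refine Ideal.add_mem _ ?_ ?_
      · rw [pow_succ (n := n + 1)]
        exact Ideal.mul_mem_mul (smul_sub_mem_pow_succ hσ n ha) (smul_mem_of_inertia hσm hb)
      · have h2 : a * (σ • b - b) ∈ m ^ n * m ^ 2 := Ideal.mul_mem_mul ha (hσ b)
        rwa [← pow_add] at h2
    · rw [smul_add, add_sub_add_comm]
      exact Ideal.add_mem _ ha hb

lemma smul_mem_pow {σ : G} (hσ : σ ∈ (m ^ 2).inertia G) {n : ℕ} {y : B} (hy : y ∈ m ^ n) :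
    σ • y ∈ m ^ n := by
  rw [← sub_add_cancel (σ • y) y]
  exact Ideal.add_mem _ (Ideal.pow_le_pow_right (Nat.le_succ n) (smul_sub_mem_pow_succ hσ n hy)) hy

lemma pow_smul_sub_mem {σ : G} (hσ : σ ∈ (m ^ 2).inertia G) {n : ℕ} (hσn : σ ∈ (m ^ n).inertia G)
    (j : ℕ) (x : B) : σ ^ j • x - x - (j : B) * (σ • x - x) ∈ m ^ (n + 1) := by
  induction j with
  | zero => simp
  | succ j ih =>
    have h1 : σ • (σ ^ j • x - x - (j : B) * (σ • x - x)) ∈ m ^ (n + 1) := smul_mem_pow hσ ih
    have h2 : σ • ((j : B) * (σ • x - x)) - (j : B) * (σ • x - x) ∈ m ^ (n + 1) :=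
      smul_sub_mem_pow_succ hσ n (Ideal.mul_mem_left _ _ (hσn x))
    have e : σ ^ (j + 1) • x - x - ((j + 1 : ℕ) : B) * (σ • x - x) =
        σ • (σ ^ j • x - x - (j : B) * (σ • x - x)) +
          (σ • ((j : B) * (σ • x - x)) - (j : B) * (σ • x - x)) := by
      rw [pow_succ', mul_smul]
      simp only [smul_sub, Nat.cast_add, Nat.cast_one]
      ring
    rw [e]
    exact Ideal.add_mem _ h1 h2

lemma pow_mem_inertia_succ {σ : G} (hσ : σ ∈ (m ^ 2).inertia G) {n : ℕ} (hσn : σ ∈ (m ^ n).inertia G)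
    {p : ℕ} (hp : (p : B) ∈ m) : σ ^ p ∈ (m ^ (n + 1)).inertia G := by
  intro x
  have h1 := pow_smul_sub_mem hσ hσn p x
  have h2 : (p : B) * (σ • x - x) ∈ m ^ (n + 1) := by
    rw [pow_succ']
    exact Ideal.mul_mem_mul hp (hσn x)
  show σ ^ p • x - x ∈ m ^ (n + 1)
  have h3 := Ideal.add_mem _ h1 h2
  rwa [sub_add_cancel] at h3

lemma iterate_pow_mem_inertia {σ : G} (hσ : σ ∈ (m ^ 2).inertia G) {p : ℕ} (hp : (p : B) ∈ m) (k : ℕ) :
    σ ^ p ^ k ∈ (m ^ (k + 2)).inertia G := by
  induction k with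
  | zero => simpa using hσ
  | succ k ih =>
    rw [pow_succ p k, pow_mul]
    exact pow_mem_inertia_succ (inertia_mono (Ideal.pow_le_pow_right (by omega)) ih) ih hp

lemma mem_inertia_pow_of_pow_eq_one [m.IsMaximal] {σ : G} (hσ : σ ∈ (m ^ 2).inertia G) {r : ℕ}
    (hr : (r : B) ∉ m) (hσr : σ ^ r = 1) (n : ℕ) : σ ∈ (m ^ (n + 2)).inertia G := by
  induction n with
  | zero => exact hσ
  | succ n ih =>
    intro x
    have h1 := pow_smul_sub_mem hσ ih r x
    rw [hσr, one_smul, sub_self, zero_sub, neg_mem_iff] at h1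
    obtain ⟨a, b, hb, hab⟩ := Ideal.IsMaximal.exists_inv ‹m.IsMaximal› hr
    have e : σ • x - x = a * ((r : B) * (σ • x - x)) + b * (σ • x - x) := by
      rw [← mul_assoc, ← add_mul, hab, one_mul]
    show σ • x - x ∈ m ^ (n + 1 + 2)
    rw [e]
    refine Ideal.add_mem _ (Ideal.mul_mem_left _ a h1) ?_
    rw [show n + 1 + 2 = (n + 2) + 1 from by omega, pow_succ']
    exact Ideal.mul_mem_mul hb (ih x)

lemma mem_inertia_sq_of_separable {A : Type*} [CommRing A] [Algebra A B] [SMulCommClass G A B]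
    [m.IsMaximal] {σ : G} (hσ : σ ∈ m.inertia G) {π : B} (hπ : π ∈ m)
    (hm : m ≤ Ideal.span {π} ⊔ m ^ 2) (hσπ : σ • π - π ∈ m ^ 2)
    (hsep : ∀ x : B, ∃ F : A[X], aeval x F ∈ m ∧ aeval x (derivative F) ∉ m) :
    σ ∈ (m ^ 2).inertia G := by
  have hδm : ∀ y ∈ m, σ • y - y ∈ m ^ 2 := by
    intro y hy
    obtain ⟨z, hz, c, hc, rfl⟩ := Submodule.mem_sup.mp (hm hy)
    obtain ⟨b, rfl⟩ := Ideal.mem_span_singleton'.mp hz
    have e1 : σ • (b * π) - b * π = (σ • b - b) * (σ • π) + b * (σ • π - π) := by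
      rw [smul_mul']; ring
    have h1 : σ • (b * π) - b * π ∈ m ^ 2 := by
      rw [e1]
      refine Ideal.add_mem _ ?_ (Ideal.mul_mem_left _ b hσπ)
      rw [pow_two]
      exact Ideal.mul_mem_mul (hσ b) (smul_mem_of_inertia hσ hπ)
    have h2 : σ • c - c ∈ m ^ 2 := by
      rw [pow_two] at hc ⊢
      refine Submodule.mul_induction_on hc (fun a ha b hb => ?_) (fun a b ha hb => ?_)
      · have e : σ • (a * b) - a * b = (σ • a - a) * (σ • b) + a * (σ • b - b) := by
          rw [smul_mul']; ring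
        rw [e]
        exact Ideal.add_mem _ (Ideal.mul_mem_mul (hσ a) (smul_mem_of_inertia hσ hb))
          (Ideal.mul_mem_mul ha (hσ b))
      · rw [smul_add, add_sub_add_comm]
        exact Ideal.add_mem _ ha hb
    rw [smul_add, add_sub_add_comm]
    exact Ideal.add_mem _ h1 h2
  intro x
  obtain ⟨F, hF, hF'⟩ := hsep x
  set δ := σ • x - x with hδ
  have hδ1 : δ ∈ m := hσ x
  obtain ⟨k, hk⟩ := binomExpansion (F.map (algebraMap A B)) x δ
  have hx : x + δ = σ • x := by rw [hδ]; ring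
  simp only [hx, eval_map_algebraMap, derivative_map] at hk
  have h3 : σ • (aeval x F) = aeval (σ • x) F :=
    (aeval_algHom_apply (MulSemiringAction.toAlgHom A B σ) x F).symm
  have h1 : aeval x (derivative F) * δ ∈ m ^ 2 := by
    have h4 := hδm _ hF
    rw [h3, hk] at h4
    have h5 : k * δ ^ 2 ∈ m ^ 2 := Ideal.mul_mem_left _ k (Ideal.pow_mem_pow hδ1 2)
    have h6 := Ideal.sub_mem _ h4 h5
    convert h6 using 1
    ring
  obtain ⟨a, b, hb, hab⟩ := Ideal.IsMaximal.exists_inv ‹m.IsMaximal› hF'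
  have e : δ = a * (aeval x (derivative F) * δ) + b * δ := by
    rw [← mul_assoc, ← add_mul, hab, one_mul]
  show δ ∈ m ^ 2
  rw [e]
  refine Ideal.add_mem _ (Ideal.mul_mem_left _ a h1) ?_
  rw [pow_two]
  exact Ideal.mul_mem_mul hb hδ1

/-- The wild inertia group is normal in the decomposition group. -/
lemma normal_subgroupOf (n : ℕ) :
    ((MulAction.stabilizer G m ⊓ (m ^ n).inertia G).subgroupOf (MulAction.stabilizer G m)).Normal := by
  refine (Subgroup.normal_subgroupOf_iff inf_le_left).mpr fun g s hg hs => ⟨?_, fun x => ?_⟩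
  · exact Subgroup.mul_mem _ (Subgroup.mul_mem _ hs hg.1) (Subgroup.inv_mem _ hs)
  · have h := Ideal.smul_mem_pointwise_smul s _ (m ^ n) (hg.2 (s⁻¹ • x))
    have hsm : s • (m ^ n) = m ^ n := by
      rw [Ideal.pointwise_smul_def, Ideal.map_pow, ← Ideal.pointwise_smul_def,
        MulAction.mem_stabilizer_iff.mp hs]
    rw [hsm, smul_sub, smul_inv_smul, smul_smul, smul_smul] at h
    exact h

/-- The tame character on the inertia group. -/
lemma exists_tameHom [m.IsMaximal] {π : B} (hπ : π ∈ m) (hπ2 : π ∉ m ^ 2)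
    (hm : m ≤ Ideal.span {π} ⊔ m ^ 2) :
    ∃ θ : (m.inertia G : Subgroup G) →* (B ⧸ m)ˣ,
      ∀ σ : (m.inertia G : Subgroup G), θ σ = 1 ↔ (σ : G) • π - π ∈ m ^ 2 := by
  classical
  have huniq : ∀ {b b' : B}, b * π - b' * π ∈ m ^ 2 → Ideal.Quotient.mk m b = Ideal.Quotient.mk m b' := by
    intro b b' h
    rw [Ideal.Quotient.eq]
    by_contra hne
    obtain ⟨a, c, hc, hac⟩ := Ideal.IsMaximal.exists_inv ‹m.IsMaximal› hne
    apply hπ2
    have e : π = a * (b * π - b' * π) + c * π := by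
      rw [← sub_mul, ← mul_assoc, ← add_mul, hac, one_mul]
    rw [e]
    refine Ideal.add_mem _ (Ideal.mul_mem_left _ a h) ?_
    rw [pow_two]
    exact Ideal.mul_mem_mul hc hπ
  have hex : ∀ σ : (m.inertia G : Subgroup G), ∃ b : B, (σ : G) • π - b * π ∈ m ^ 2 := by
    intro σ
    obtain ⟨z, hz, c, hc, hzc⟩ := Submodule.mem_sup.mp (hm (smul_mem_of_inertia σ.2 hπ))
    obtain ⟨b, rfl⟩ := Ideal.mem_span_singleton'.mp hz
    exact ⟨b, by rw [← hzc, add_sub_cancel_left]; exact hc⟩
  choose b hb using hex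
  have hsq : ∀ (σ : (m.inertia G : Subgroup G)) {c : B}, c ∈ m ^ 2 → (σ : G) • c ∈ m ^ 2 := by
    intro σ c hc
    rw [pow_two] at hc ⊢
    refine Submodule.mul_induction_on hc (fun x hx y hy => ?_) (fun x y hx hy => ?_)
    · rw [smul_mul']
      exact Ideal.mul_mem_mul (smul_mem_of_inertia σ.2 hx) (smul_mem_of_inertia σ.2 hy)
    · rw [smul_add]; exact Ideal.add_mem _ hx hy
  let f : (m.inertia G : Subgroup G) →* B ⧸ m :=
    { toFun := fun σ => Ideal.Quotient.mk m (b σ)
      map_one' := by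
        rw [← map_one (Ideal.Quotient.mk m)]
        refine huniq ?_
        have h := hb 1
        rw [Subgroup.coe_one, one_smul] at h
        rw [one_mul]
        exact Ideal.neg_mem_iff _ |>.mp (by rw [neg_sub]; exact h)
      map_mul' := fun σ τ => by
        rw [← map_mul]
        refine huniq ?_
        have h1 : (((σ * τ : (m.inertia G : Subgroup G))) : G) • π - b (σ * τ) * π ∈ m ^ 2 := hb _
        have h2 : (σ : G) • ((τ : G) • π - b τ * π) ∈ m ^ 2 := hsq σ (hb τ)
        have h3 : ((σ : G) • b τ - b τ) * ((σ : G) • π) ∈ m ^ 2 := by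
          rw [pow_two]
          exact Ideal.mul_mem_mul (σ.2 _) (smul_mem_of_inertia σ.2 hπ)
        have h4 : b τ * ((σ : G) • π - b σ * π) ∈ m ^ 2 := Ideal.mul_mem_left _ _ (hb σ)
        have h5 := Ideal.sub_mem _ (Ideal.add_mem _ (Ideal.add_mem _ h2 h3) h4) h1
        rw [Subgroup.coe_mul, mul_smul] at h5
        simp only [smul_sub, smul_mul'] at h5
        convert h5 using 1
        ring }
  refine ⟨f.toHomUnits, fun σ => ?_⟩
  rw [Units.ext_iff, MonoidHom.coe_toHomUnits, Units.val_one]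
  show Ideal.Quotient.mk m (b σ) = 1 ↔ _
  constructor
  · intro h
    have h1 : b σ - 1 ∈ m := by
      rw [← Ideal.Quotient.eq_zero_iff_mem, map_sub, h, map_one, sub_self]
    have h2 : (b σ - 1) * π ∈ m ^ 2 := by rw [pow_two]; exact Ideal.mul_mem_mul h1 hπ
    have h3 := Ideal.add_mem _ (hb σ) h2
    convert h3 using 1
    ring
  · intro h
    rw [← map_one (Ideal.Quotient.mk m)]
    refine huniq ?_
    have h3 := Ideal.sub_mem _ h (hb σ)
    convert h3 using 1
    ring

/-- A finite subgroup of the units of a field, of order `n`, is the group of `(n * c)`-th roots of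
unity as soon as `c`-th roots of unity are trivial. -/
lemma eq_rootsOfUnity {F : Type*} [Field F] (H : Subgroup Fˣ) [Finite H] {e c : ℕ}
    (he : Nat.card H * c = e) (hc : ∀ z : F, z ^ c = 1 → z = 1) : H = rootsOfUnity e F := by
  have h1 : rootsOfUnity e F = rootsOfUnity (Nat.card H) F := by
    ext z
    simp only [mem_rootsOfUnity, ← he, pow_mul]
    refine ⟨fun h => ?_, fun h => by rw [h, one_pow]⟩
    have h' := congrArg Units.val h
    rw [Units.val_pow_eq_pow_val, Units.val_one] at h'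
    exact Units.ext (by rw [Units.val_one]; exact hc _ h')
  have hle : H ≤ rootsOfUnity (Nat.card H) F := by
    intro z hz
    rw [mem_rootsOfUnity]
    have h := congrArg ((↑) : H → Fˣ) (pow_card_eq_one' (G := H) (x := ⟨z, hz⟩))
    rw [SubgroupClass.coe_pow, Subgroup.coe_one] at h
    exact h
  rw [h1]
  haveI : NeZero (Nat.card H) := ⟨Nat.card_pos.ne'⟩
  refine SetLike.coe_injective (Set.eq_of_subset_of_ncard_le hle ?_
    (Set.finite_coe_iff.mp (inferInstance : Finite (rootsOfUnity (Nat.card H) F))))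
  exact (card_rootsOfUnity F (Nat.card H))

/-- The inertia group of a maximal ideal has order the ramification index, when the residue field
extension is separable. -/
lemma card_inertia_eq_ramificationIdxIn {R S H : Type*} [CommRing R] [CommRing S] [Algebra R S]
    [Group H] [MulSemiringAction H S] [IsGaloisGroup H R S] [Finite H] [IsDomain R] [IsDomain S]
    [Module.Finite R S] [Module.Flat R S] (p : Ideal R) (P : Ideal S) [P.LiesOver p] [p.IsMaximal]
    [P.IsMaximal] [Algebra.IsSeparable (R ⧸ p) (S ⧸ P)] :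
    Nat.card (P.inertia H) = Ideal.ramificationIdxIn p S := by
  letI : Field (R ⧸ p) := Ideal.Quotient.field p
  letI : Field (S ⧸ P) := Ideal.Quotient.field P
  haveI : Normal (R ⧸ p) (S ⧸ P) := Ideal.Quotient.normal H p P
  haveI : IsGalois (R ⧸ p) (S ⧸ P) := { }
  haveI : Module.Finite (R ⧸ p) (S ⧸ P) := Module.Finite.of_restrictScalars_finite R _ _
  have hidx : ((Ideal.inertia H P).subgroupOf (MulAction.stabilizer H P)).index = P.inertiaDeg R := by
    rw [Ideal.inertiaDeg_eq_of_isFractionRing p P (R ⧸ p) (S ⧸ P),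
      ← IsGalois.card_aut_eq_finrank (R ⧸ p) (S ⧸ P), AddSubgroup.subgroupOf_inertia]
    exact Nat.card_congr (Ideal.Quotient.stabilizerQuotientInertiaEquiv H p P).toEquiv
  have hcard : Nat.card (MulAction.stabilizer H P) = Nat.card (P.inertia H) * P.inertiaDeg R := by
    rw [← hidx, ← ((Ideal.inertia H P).subgroupOf (MulAction.stabilizer H P)).card_mul_index,
      Nat.card_congr (Subgroup.subgroupOfEquivOfLe (Ideal.inertia_le_stabilizer (M := H) P)).toEquiv]
  have hH : (p.primesOver S).ncard * (Nat.card (P.inertia H) * P.inertiaDeg R) = Nat.card H := by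
    rw [← hcard, ← Algebra.IsInvariant.orbit_eq_primesOver R S H p P]
    simpa using Nat.card_congr (MulAction.orbitProdStabilizerEquivGroup H P)
  rw [← Ideal.inertiaDegIn_eq_inertiaDeg p P H] at hH
  have h1 : (p.primesOver S).ncard ≠ 0 := by
    intro h0; rw [h0, zero_mul] at hH; exact Nat.card_pos.ne hH
  have h2 : p.inertiaDegIn S ≠ 0 := by
    intro h0; rw [h0, mul_zero, mul_zero] at hH; exact Nat.card_pos.ne hH
  rw [← Ideal.ncard_primesOver_mul_ramificationIdxIn_mul_inertiaDegIn p S H,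
    mul_right_inj' h1, mul_left_inj' h2] at hH
  exact hH

end Groth.Agent.EtRamLib.Inertia
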