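import Mathlib
import Groth.Prelude.Def_EtRam
import Groth.Agent.EtRamLib.ValTower

/-!
# Valuation rings in possibly inseparable finite extensions with finite integral closure
-/

set_option autoImplicit false
universe u

open IsLocalRing

namespace Groth.Agent.EtRamLib.InsepLoc

theorem isNoetherianRing_of_finite' (A B : Type u) [CommRing A] [IsNoetherianRing A] [CommRing B] [Algebra A B]
    (h : Module.Finite A B) : IsNoetherianRing B := IsNoetherianRing.of_finite A B

/-- A valuation ring of a finite extension with finite integral closure dominating a discrete valuation ring is the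
localization of the integral closure at its centre. -/
theorem isLocalization_of_dominates (A K : Type u) [CommRing A] [IsDomain A]
    [IsDiscreteValuationRing A] [Field K] [Algebra A K] [IsFractionRing A K] (L : Type u) [Field L]
    [Algebra K L] [FiniteDimensional K L] (hfin : letI : Algebra A L := ((algebraMap K L).comp (algebraMap A K)).toAlgebra
      Module.Finite A (integralClosure A L))
    (V : ValuationSubring L)
    (hV : EtRam.Dominates A ((algebraMap K L).comp (algebraMap A K)) V) :
    letI : Algebra A L := ((algebraMap K L).comp (algebraMap A K)).toAlgebra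
    ∀ hBV : ∀ b : integralClosure A L, (b : L) ∈ V,
    letI : Algebra (integralClosure A L) V := (((integralClosure A L).val).toRingHom.codRestrict V hBV).toAlgebra
    (maximalIdeal V).comap (algebraMap (integralClosure A L) V) ≠ ⊥ ∧
      IsLocalization.AtPrime V ((maximalIdeal V).comap (algebraMap (integralClosure A L) V)) := by
  letI : Algebra A L := ((algebraMap K L).comp (algebraMap A K)).toAlgebra
  haveI : IsScalarTower A K L := IsScalarTower.of_algebraMap_eq fun _ ↦ rfl
  intro hBV
  set B := integralClosure A L
  letI : Algebra B V := ((B.val).toRingHom.codRestrict V hBV).toAlgebra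
  have hval : ∀ b : B, ((algebraMap B V b : V) : L) = b := fun b ↦ rfl
  haveI : IsFractionRing B L := integralClosure.isFractionRing_of_finite_extension K L
  haveI : IsNoetherianRing B := isNoetherianRing_of_finite' A B hfin
  haveI : Ring.DimensionLEOne B := Ring.DimensionLEOne.integralClosure A L
  haveI : IsIntegrallyClosed B := integralClosure.isIntegrallyClosedOfFiniteExtension K
  haveI : IsDedekindDomain B := { }
  set P := (maximalIdeal V).comap (algebraMap B V) with hP
  have hP0 : P ≠ ⊥ := by
    obtain ⟨π, hπ⟩ := IsDiscreteValuationRing.exists_irreducible A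
    refine fun h ↦ (map_ne_zero_iff _ (IsFractionRing.injective A K)).2 hπ.ne_zero ?_
    have : algebraMap A B π ∈ P := by
      rw [hP, Ideal.mem_comap]
      exact (ValuationSubring.valuation_lt_one_iff V _).2
        (hV.2 π (hπ.maximalIdeal_eq ▸ Ideal.mem_span_singleton_self π))
    rw [h, Ideal.mem_bot] at this
    apply (algebraMap K L).injective
    rw [map_zero]
    exact congrArg Subtype.val this
  haveI hloc : IsLocalization.AtPrime V P := by
    refine (isLocalization_iff _ _).2 ⟨?_, fun z ↦ ?_, fun {x y} h ↦ ⟨1, ?_⟩⟩
    · rintro ⟨b, hb⟩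
      exact not_not.1 fun hu ↦ hb hu
    · haveI : IsDiscreteValuationRing (Localization.AtPrime P) :=
        IsLocalization.AtPrime.isDiscreteValuationRing_of_dedekind_domain B hP0 _
      obtain ⟨b₁, b₂, hb₂, hz⟩ := IsFractionRing.div_surjective B (z : L)
      have hb₂0 : (b₂ : L) ≠ 0 := fun h ↦ nonZeroDivisors.ne_zero hb₂ (Subtype.ext h)
      have hzb : (z : L) * b₂ = b₁ := by rw [← hz]; exact div_mul_cancel₀ _ hb₂0
      rcases ValuationRing.dvd_total (algebraMap B (Localization.AtPrime P) b₂)
        (algebraMap B (Localization.AtPrime P) b₁) with ⟨c, hc⟩ | ⟨c, hc⟩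
      · obtain ⟨x, s, rfl⟩ := IsLocalization.exists_mk'_eq P.primeCompl c
        rw [IsLocalization.mul_mk'_eq_mk'_of_mul, IsLocalization.eq_mk'_iff_mul_eq,
          ← map_mul] at hc
        have hc' := congrArg Subtype.val (IsLocalization.injective (Localization.AtPrime P)
          P.primeCompl_le_nonZeroDivisors hc)
        simp only [MulMemClass.coe_mul] at hc'
        refine ⟨(x, s), Subtype.ext (mul_left_cancel₀ hb₂0 ?_)⟩
        rw [MulMemClass.coe_mul, hval, hval]
        linear_combination ((s : B) : L) * hzb + hc'
      · obtain ⟨x, s, rfl⟩ := IsLocalization.exists_mk'_eq P.primeCompl c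
        rw [IsLocalization.mul_mk'_eq_mk'_of_mul, IsLocalization.eq_mk'_iff_mul_eq,
          ← map_mul] at hc
        have hc' := congrArg Subtype.val (IsLocalization.injective (Localization.AtPrime P)
          P.primeCompl_le_nonZeroDivisors hc)
        simp only [MulMemClass.coe_mul] at hc'
        have hsx : ((s : B) : L) = (z : L) * (x : L) :=
          mul_left_cancel₀ hb₂0 (by linear_combination hc' - (x : L) * hzb)
        have hx : x ∈ P.primeCompl := fun hx ↦ s.2 (by
          have : algebraMap B V (s : B) = z * algebraMap B V x := Subtype.ext hsx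
          change algebraMap B V (s : B) ∈ maximalIdeal V
          rw [this]
          exact Ideal.mul_mem_left _ _ hx)
        exact ⟨(s, ⟨x, hx⟩), Subtype.ext hsx.symm⟩
    · exact congrArg (((1 : P.primeCompl) : B) * ·) (Subtype.ext (congrArg (fun v : V ↦ (v : L)) h))
  exact ⟨hP0, hloc⟩

/-- every element of the valuation ring is a quotient of integral elements with unit denominator -/
theorem exists_integral_mul (A K : Type u) [CommRing A] [IsDomain A] [IsDiscreteValuationRing A] [Field K]
    [Algebra A K] [IsFractionRing A K] (L : Type u) [Field L] [Algebra K L] [FiniteDimensional K L]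
    [Algebra A L] [IsScalarTower A K L] (hfin : Module.Finite A (integralClosure A L)) (V : ValuationSubring L)
    (hV : EtRam.Dominates A ((algebraMap K L).comp (algebraMap A K)) V) (v : V) :
    ∃ s : V, IsUnit s ∧ IsIntegral A (s : L) ∧ IsIntegral A ((s : L) * v) := by
  obtain rfl : ‹Algebra A L› = ((algebraMap K L).comp (algebraMap A K)).toAlgebra :=
    Algebra.algebra_ext _ _ fun a ↦ IsScalarTower.algebraMap_apply A K L a
  letI : Algebra A L := ((algebraMap K L).comp (algebraMap A K)).toAlgebra
  haveI : IsScalarTower A K L := IsScalarTower.of_algebraMap_eq fun _ ↦ rfl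
  letI : Algebra (integralClosure A L) V := (((integralClosure A L).val).toRingHom.codRestrict V
    (ValTower.exists_algebra_integralClosure A K L V hV)).toAlgebra
  obtain ⟨-, hloc⟩ := isLocalization_of_dominates A K L hfin V hV (ValTower.exists_algebra_integralClosure A K L V hV)
  obtain ⟨⟨c, s⟩, hcs⟩ := IsLocalization.surj
    ((maximalIdeal V).comap (algebraMap (integralClosure A L) V)).primeCompl v
  refine ⟨algebraMap (integralClosure A L) V s, not_not.1 fun h ↦ s.2 h, (s : integralClosure A L).2, ?_⟩
  have h' : (v : L) * ((s : integralClosure A L) : L) = (c : L) := congrArg Subtype.val hcs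
  change IsIntegral A (((s : integralClosure A L) : L) * v)
  rw [mul_comm, h']
  exact c.2

end Groth.Agent.EtRamLib.InsepLoc
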