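import Mathlib
import Groth.Prelude.Def_EtRam
import Groth.Prelude.Def_Found
import Groth.Agent.EtRamLib.Solution
import Groth.Agent.EtRamLib.InsepLoc
import Groth.Agent.CAlgA.VNR
import Groth.Agent.FBase.TensorAlgClosed
import Groth.Agent.Props.N2Local

/-!
# Uniform denominators and fields attached to a purely inseparable base change
-/

set_option autoImplicit false
universe u

open IsLocalRing TensorProduct

namespace Groth.Agent.EtRamLib.InsepPerturb

/-- a quotient of a von Neumann regular ring is reduced -/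
theorem isReduced_of_surjective {R S : Type u} [CommRing R] [CommRing S] (hR : ∀ a : R, ∃ b, a = a * a * b)
    (f : R →+* S) (hf : Function.Surjective f) : IsReduced S := by
  refine (isReduced_iff_pow_one_lt 2 one_lt_two).2 fun c hc ↦ ?_
  obtain ⟨a, rfl⟩ := hf c
  obtain ⟨b, hb⟩ := hR a
  rw [hb, map_mul, map_mul, ← pow_two, hc, zero_mul]

/-- a reduced base change along a purely inseparable extension is a field -/
theorem isField_tensor {k E F : Type u} [Field k] [Field E] [Field F] [Algebra k E] [Algebra k F]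
    [IsPurelyInseparable k F] [IsReduced (E ⊗[k] F)] : IsField (E ⊗[k] F) := by
  obtain ⟨p, hp⟩ := ExpChar.exists k
  haveI : Nontrivial (E ⊗[k] F) :=
    (Algebra.TensorProduct.includeLeft_injective (S := k) (A := E) (algebraMap k F).injective).nontrivial
  haveI : ExpChar E p := expChar_of_injective_ringHom (algebraMap k E).injective p
  haveI : ExpChar (E ⊗[k] F) p := expChar_of_injective_algebraMap (algebraMap E (E ⊗[k] F)).injective p
  have hpw : ∀ w : E ⊗[k] F, ∃ (n : ℕ) (m : E), algebraMap E _ m = w ^ p ^ n := by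
    intro w
    induction w using TensorProduct.induction_on with
    | zero => exact ⟨0, 0, by simp⟩
    | tmul m x =>
      obtain ⟨n, c, hc⟩ := IsPurelyInseparable.pow_mem k p x
      refine ⟨n, m ^ p ^ n * algebraMap k E c, ?_⟩
      rw [Algebra.TensorProduct.tmul_pow, ← hc, Algebra.TensorProduct.algebraMap_apply,
        Algebra.algebraMap_eq_smul_one c (A := F), TensorProduct.tmul_smul, TensorProduct.smul_tmul',
        Algebra.smul_def c, mul_comm]
      rfl
    | add a b ha hb =>
      obtain ⟨i, x, hx⟩ := ha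
      obtain ⟨j, y, hy⟩ := hb
      refine ⟨i + j, x ^ p ^ j + y ^ p ^ i, ?_⟩
      rw [add_pow_expChar_pow, map_add, map_pow, map_pow, hx, hy, ← pow_mul, ← pow_mul, ← pow_add, ← pow_add, add_comm j i]
  refine ⟨exists_pair_ne _, mul_comm, fun {w} hw => ?_⟩
  obtain ⟨n, m, hm⟩ := hpw w
  have hm0 : m ≠ 0 := fun h0 => hw (IsReduced.eq_zero w ⟨p ^ n, by rw [← hm, h0, map_zero]⟩)
  have hu : IsUnit (w ^ p ^ n) := hm ▸ (IsUnit.mk0 m hm0).map (algebraMap E _)
  exact ((isUnit_pow_iff (pow_ne_zero _ (expChar_pos k p).ne')).mp hu).exists_right_inv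

/-- integral elements of a quotient of a von Neumann regular algebra lift to integral elements -/
theorem exists_integral_lift {B R S : Type u} [CommRing B] [CommRing R] [IsNoetherianRing R] [CommRing S]
    [Algebra B R] [Algebra B S] (hR : ∀ a : R, ∃ b, a = a * a * b) (f : R →ₐ[B] S) (hf : Function.Surjective f)
    {u : S} (hu : IsIntegral B u) : ∃ v : R, IsIntegral B v ∧ f v = u := by
  obtain ⟨v, rfl⟩ := hf u
  have hidem : IsIdempotentElem (RingHom.ker f) := by
    refine le_antisymm Ideal.mul_le_left fun a ha ↦ ?_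
    obtain ⟨b, hb⟩ := hR a
    rw [hb]
    exact Ideal.mul_mem_right _ _ (Ideal.mul_mem_mul ha ha)
  obtain ⟨ε, hε, hker⟩ := (Ideal.isIdempotentElem_iff_of_fg _ (IsNoetherian.noetherian _)).1 hidem
  have hεk : f ε = 0 := by
    rw [← RingHom.mem_ker, hker]; exact Submodule.mem_span_singleton_self ε
  refine ⟨v * (1 - ε), ?_, by rw [map_mul, map_sub, map_one, hεk, sub_zero, mul_one]⟩
  obtain ⟨P, hPm, hP⟩ := hu
  have hP' : Polynomial.aeval v P ∈ RingHom.ker f := by
    rw [RingHom.mem_ker, ← Polynomial.aeval_algHom_apply, Polynomial.aeval_def]; exact hP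
  rw [hker, Submodule.mem_span_singleton] at hP'
  obtain ⟨r, hr⟩ := hP'
  refine ⟨Polynomial.X * P, Polynomial.monic_X.mul hPm, ?_⟩
  rw [← Polynomial.aeval_def, map_mul, Polynomial.aeval_X]
  have key : (1 - ε) * Polynomial.aeval (v * (1 - ε)) P = (1 - ε) * Polynomial.aeval v P := by
    simp only [Polynomial.aeval_eq_sum_range, Finset.mul_sum]
    refine Finset.sum_congr rfl fun k _ ↦ ?_
    rw [mul_smul_comm, mul_smul_comm]
    congr 1
    rw [mul_pow, mul_left_comm, ← pow_succ', hε.one_sub.pow_succ_eq, mul_comm]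
  rw [mul_assoc, key, ← hr, smul_eq_mul]
  have := hε.eq
  linear_combination -(v * r) * this

/-- common denominators propagate to spans -/
lemma exists_coord_of_mem_span {B L C : Type u} [CommRing B] [CommRing L] [Algebra B L] [AddCommGroup C] [Module B C]
    (h : C →ₗ[B] L) (T : Set C) (s : B) (hT : ∀ x ∈ T, ∃ r, algebraMap B L r = algebraMap B L s * h x)
    {x : C} (hx : x ∈ Submodule.span B T) : ∃ r, algebraMap B L r = algebraMap B L s * h x := by
  induction hx using Submodule.span_induction with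
  | mem y hy => exact hT y hy
  | zero => exact ⟨0, by simp⟩
  | add y z _ _ hy hz =>
    obtain ⟨r, hr⟩ := hy
    obtain ⟨r', hr'⟩ := hz
    exact ⟨r + r', by rw [map_add, hr, hr', map_add, mul_add]⟩
  | smul a y _ hy =>
    obtain ⟨r, hr⟩ := hy
    exact ⟨a * r, by rw [map_mul, hr, map_smul, Algebra.smul_def]; ring⟩

/-- uniform denominators for the integral closure in `L ⊗ K₂` -/
theorem exists_bound (A B K L K₂ : Type u) [CommRing A] [IsDomain A] [IsDiscreteValuationRing A]
    [CommRing B] [IsDomain B] [IsDiscreteValuationRing B] [Algebra A B] [IsLocalHom (algebraMap A B)]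
    (hinj : Function.Injective (algebraMap A B))
    [Field K] [Field L] [Algebra A K] [IsFractionRing A K] [Algebra B L] [IsFractionRing B L]
    [Algebra K L] [Field K₂] [Algebra K K₂] [FiniteDimensional K K₂] [IsReduced (L ⊗[K] K₂)]
    (hN2 : CAlg.IsN2 B) {π : A} (hπ : Irreducible π) {ι : Type u} [Fintype ι] (b : Module.Basis ι K K₂) :
    ∃ c : ℕ, ∀ v : L ⊗[K] K₂, IsIntegral B v →
      ∃ d : ι → B, algebraMap B (L ⊗[K] K₂) (algebraMap A B π) ^ c * v =
        ∑ j, algebraMap B (L ⊗[K] K₂) (d j) * ((1 : L) ⊗ₜ[K] b j) := by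
  classical
  haveI : IsNoetherianRing (L ⊗[K] K₂) := IsNoetherianRing.of_finite L (L ⊗[K] K₂)
  haveI : IsArtinianRing (L ⊗[K] K₂) := IsArtinianRing.of_finite L (L ⊗[K] K₂)
  -- the integral closure is finite
  haveI : Module.Finite B (integralClosure B (L ⊗[K] K₂)) := by
    haveI : ∀ I : MaximalSpectrum (L ⊗[K] K₂),
        Module.Finite B (integralClosure B ((L ⊗[K] K₂) ⧸ I.asIdeal)) := fun I ↦ by
      haveI := I.isMaximal
      letI : Field ((L ⊗[K] K₂) ⧸ I.asIdeal) := Ideal.Quotient.field I.asIdeal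
      haveI : FiniteDimensional L ((L ⊗[K] K₂) ⧸ I.asIdeal) :=
        Module.Finite.of_surjective (Ideal.Quotient.mkₐ L I.asIdeal).toLinearMap Ideal.Quotient.mk_surjective
      exact Props.N2Local.finite_integralClosure hN2 L _
    let F : integralClosure B (L ⊗[K] K₂) →ₗ[B]
        (∀ I : MaximalSpectrum (L ⊗[K] K₂), integralClosure B ((L ⊗[K] K₂) ⧸ I.asIdeal)) :=
      LinearMap.pi fun I ↦
        { toFun := fun v ↦ ⟨Ideal.Quotient.mkₐ B I.asIdeal v, (v.2 : IsIntegral B (v : L ⊗[K] K₂)).map _⟩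
          map_add' := fun v w ↦ Subtype.ext (map_add (Ideal.Quotient.mkₐ B I.asIdeal) _ _)
          map_smul' := fun r v ↦ Subtype.ext (map_smul (Ideal.Quotient.mkₐ B I.asIdeal) r (v : L ⊗[K] K₂)) }
    haveI : Fintype (MaximalSpectrum (L ⊗[K] K₂)) := Fintype.ofFinite _
    refine Module.Finite.of_injective F fun v w h ↦ Subtype.ext (sub_eq_zero.1 ?_)
    have hj : ((v : L ⊗[K] K₂) - w) ∈ (⊥ : Ideal (L ⊗[K] K₂)).jacobson := by
      rw [Ideal.jacobson, Ideal.mem_sInf]
      rintro I ⟨-, hI⟩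
      rw [← Ideal.Quotient.eq]
      exact congrArg Subtype.val (congrFun h ⟨I, hI⟩)
    have hnil : (⊥ : Ideal (L ⊗[K] K₂)).radical = ⊥ := nilradical_eq_zero _
    rw [IsArtinianRing.jacobson_eq_radical, hnil] at hj
    exact hj
  obtain ⟨T, hT⟩ := (Module.Finite.fg_top : (⊤ : Submodule B (integralClosure B (L ⊗[K] K₂))).FG)
  let bR := Algebra.TensorProduct.basis L b
  let co : T × ι → L := fun q ↦ bR.repr (q.1.1 : L ⊗[K] K₂) q.2
  obtain ⟨d, hd⟩ := IsLocalization.exist_integer_multiples_of_finite (nonZeroDivisors B) co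
  obtain ⟨ϖ, hϖ⟩ := IsDiscreteValuationRing.exists_irreducible B
  obtain ⟨k, w, hw⟩ := IsDiscreteValuationRing.eq_unit_mul_pow_irreducible (nonZeroDivisors.coe_ne_zero d) hϖ
  obtain ⟨q₀, hq₀⟩ : ϖ ∣ algebraMap A B π := by
    rw [← Ideal.mem_span_singleton, ← hϖ.maximalIdeal_eq]
    exact map_nonunit (algebraMap A B) π hπ.not_isUnit
  obtain ⟨t, ht⟩ : (d : B) ∣ algebraMap A B π ^ k := by
    rw [hw, hq₀, mul_pow]
    exact Units.mul_left_dvd.2 (dvd_mul_right _ _)
  refine ⟨k, fun v hv ↦ ?_⟩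
  have hvP : ∀ j, ∃ r : B, algebraMap B L r = algebraMap B L (algebraMap A B π ^ k) * bR.repr v j := by
    intro j
    let h : integralClosure B (L ⊗[K] K₂) →ₗ[B] L :=
      ((bR.coord j).restrictScalars B).comp (integralClosure B (L ⊗[K] K₂)).val.toLinearMap
    have hmem : (⟨v, hv⟩ : integralClosure B (L ⊗[K] K₂)) ∈ Submodule.span B (T : Set (integralClosure B (L ⊗[K] K₂))) :=
      hT ▸ Submodule.mem_top
    refine exists_coord_of_mem_span h _ _ (fun x hx ↦ ?_) hmem
    obtain ⟨r, hr⟩ := hd (⟨x, hx⟩, j)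
    refine ⟨t * r, ?_⟩
    have hr' : algebraMap B L r = algebraMap B L (d : B) * h x := hr.trans (Algebra.smul_def _ _)
    rw [map_mul, hr', ht, map_mul, mul_assoc, mul_left_comm]
  choose r hr using hvP
  refine ⟨r, ?_⟩
  conv_lhs => rw [← bR.sum_repr v]
  rw [Finset.mul_sum]
  refine Finset.sum_congr rfl fun j _ ↦ ?_
  rw [Algebra.TensorProduct.basis_apply, IsScalarTower.algebraMap_apply B L (L ⊗[K] K₂),
    IsScalarTower.algebraMap_apply B L (L ⊗[K] K₂), hr j, map_mul, map_pow, map_pow, Algebra.smul_def]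
  ring

end Groth.Agent.EtRamLib.InsepPerturb
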