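import Mathlib
import Groth.Prelude.Def_EtRam
import Groth.Agent.EtRamLib.ValTower

/-!
# Perturbing `x ^ p = a` to `y ^ p = a + π ^ N y` does not change the valuation ring modulo `π`
-/

set_option autoImplicit false
universe u

open IsLocalRing TensorProduct

namespace Groth.Agent.EtRamLib.Perturb

theorem geometricallyReduced_transport {k K k' K' : Type u} [Field k] [Field K] [Field k'] [Field K'] [Algebra k K]
    [Algebra k' K'] (ek : k →+* k') (hek : Function.Surjective ek) (eK : K ≃+* K')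
    (h : ∀ c, eK (algebraMap k K c) = algebraMap k' K' (ek c)) [Algebra.IsGeometricallyReduced k K] :
    Algebra.IsGeometricallyReduced k' K' := by
  letI : Algebra k k' := ek.toAlgebra
  letI : Algebra k K' := ((algebraMap k' K').comp ek).toAlgebra
  haveI : IsScalarTower k k' K' := IsScalarTower.of_algebraMap_eq fun _ ↦ rfl
  let e : K ≃ₐ[k] K' := { eK with commutes' := h }
  haveI : Algebra.IsGeometricallyReduced k K' :=
    Algebra.IsGeometricallyReduced.of_injective e.symm.toAlgHom e.symm.injective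
  rw [Algebra.isGeometricallyReduced_field_iff]
  let Ω := AlgebraicClosure k'
  haveI : Algebra.IsAlgebraic k k' := ⟨fun x ↦ by
    obtain ⟨c, rfl⟩ := hek x
    exact isAlgebraic_algebraMap (R := k) (A := k') c⟩
  haveI : Algebra.IsAlgebraic k Ω := Algebra.IsAlgebraic.trans k k' Ω
  haveI : IsReduced (Ω ⊗[k] K') := inferInstance
  haveI : TensorProduct.CompatibleSMul k k' Ω K' := .of_algebraMap_surjective _ _ hek
  exact isReduced_of_injective (Algebra.TensorProduct.equivOfCompatibleSMul k k' k Ω K') (AlgEquiv.injective _)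

/-- The perturbation statement. -/
theorem perturb {M M₂ M₃ : Type u} [Field M] [Field M₂] [Field M₃] [Algebra M M₂] [Algebra M M₃]
    (W : ValuationSubring M) [IsNoetherianRing W] (W₂ : ValuationSubring M₂) [IsDiscreteValuationRing W₂]
    (hW₂ : W₂.comap (algebraMap M M₂) = W)
    (p : ℕ) (x : M₂) (y : M₃) (a π : W) (hπ0 : π ≠ 0) (hπ : ¬ IsUnit π) (c N : ℕ) (hN : 2 * c + 2 ≤ N)
    (hx : x ^ p = algebraMap M M₂ (a : M))
    (hy : y ^ p = algebraMap M M₃ (a : M) + algebraMap M M₃ (π : M) ^ N * y)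
    (hxW : x ∈ W₂)
    (φ : M₂ →ₗ[M] M₃) (hφ : ∀ i : ℕ, i < p → φ (x ^ i) = y ^ i) (hsurj : Function.Surjective φ) (hp : 1 < p)
    (hbd : ∀ u ∈ W₂, ∃ d : Fin p → M, (∀ i, d i ∈ W) ∧
      algebraMap M M₂ (π : M) ^ c * u = ∑ i : Fin p, algebraMap M M₂ (d i) * x ^ (i : ℕ)) :
    Function.Injective φ ∧ ∃ W₃ : ValuationSubring M₃, (∀ m, m ∈ W₃ ↔ ∃ u ∈ W₂, φ u = m) ∧
      (∀ V : ValuationSubring M₃, (∀ m ∈ W, algebraMap M M₃ m ∈ V) →
        V.valuation (algebraMap M M₃ (π : M)) < 1 → V = W₃) ∧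
      (∀ π₂ : W₂, Irreducible π₂ → ∃ h : φ π₂ ∈ W₃, maximalIdeal W₃ = Ideal.span {⟨φ π₂, h⟩}) ∧
      ∃ e : ResidueField W₂ ≃+* ResidueField W₃,
        ∀ (u : W₂) (h : φ u ∈ W₃), e (residue W₂ u) = residue W₃ ⟨φ u, h⟩ := by
  classical
  set q : M := (π : M) with hq
  have hq0 : q ≠ 0 := fun h ↦ hπ0 (Subtype.ext h)
  have hmem₂ : ∀ m ∈ W, algebraMap M M₂ m ∈ W₂ := fun m hm ↦ by
    rw [← ValuationSubring.mem_comap, hW₂]; exact hm
  letI : Algebra W M₂ := ((algebraMap M M₂).comp W.subtype).toAlgebra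
  letI : Algebra W M₃ := ((algebraMap M M₃).comp W.subtype).toAlgebra
  have hsm₂ : ∀ (w : W) (u : M₂), w • u = algebraMap M M₂ (w : M) * u := fun w u ↦ Algebra.smul_def _ _
  have hsm₃ : ∀ (w : W) (u : M₃), w • u = algebraMap M M₃ (w : M) * u := fun w u ↦ Algebra.smul_def _ _
  let φW : M₂ →ₗ[W] M₃ :=
    { toFun := φ
      map_add' := map_add φ
      map_smul' := fun w u ↦ by
        change φ (w • u) = w • φ u
        rw [hsm₂, hsm₃, ← Algebra.smul_def, map_smul, Algebra.smul_def] }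
  let Λ₂ : Submodule W M₂ := Submodule.span W (Set.range fun i : Fin p ↦ x ^ (i : ℕ))
  let Λ₃ : Submodule W M₃ := Submodule.span W (Set.range fun i : Fin p ↦ y ^ (i : ℕ))
  have hφΛ : ∀ l ∈ Λ₃, ∃ u ∈ Λ₂, φ u = l := by
    intro l hl
    have : Λ₃ = Λ₂.map φW := by
      rw [Submodule.map_span, ← Set.range_comp]
      change Submodule.span W _ = _
      congr 2
      funext i
      exact (hφ i i.2).symm
    rw [this] at hl
    obtain ⟨u, hu, rfl⟩ := hl
    exact ⟨u, hu, rfl⟩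
  have hΛW : ∀ u ∈ Λ₂, u ∈ W₂ := by
    intro u hu
    induction hu using Submodule.span_induction with
    | mem v hv => obtain ⟨i, rfl⟩ := hv; exact pow_mem hxW _
    | zero => exact zero_mem _
    | add v v' _ _ hv hv' => exact add_mem hv hv'
    | smul w v _ hv => rw [hsm₂]; exact mul_mem (hmem₂ _ w.2) hv
  have hbd' : ∀ u ∈ W₂, (π ^ c : W) • u ∈ Λ₂ := by
    intro u hu
    obtain ⟨d, hd, hdu⟩ := hbd u hu
    rw [hsm₂, SubmonoidClass.coe_pow, map_pow, hdu]
    refine sum_mem fun i _ ↦ ?_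
    have h1 : algebraMap M M₂ (d i) * x ^ (i : ℕ) = (⟨d i, hd i⟩ : W) • x ^ (i : ℕ) := (hsm₂ ⟨d i, hd i⟩ (x ^ (i : ℕ))).symm
    rw [h1]
    exact Submodule.smul_mem _ _ (Submodule.subset_span ⟨i, rfl⟩)
  -- multiplicativity up to `π ^ N`
  have hmulΛ : ∀ u ∈ Λ₂, ∀ v ∈ Λ₂, ∃ l ∈ Λ₃, φ u * φ v - φ (u * v) = (π ^ N : W) • l := by
    intro u hu v hv
    induction hu, hv using Submodule.span_induction₂ with
    | mem_mem u v hu hv =>
      obtain ⟨i, rfl⟩ := hu
      obtain ⟨j, rfl⟩ := hv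
      simp only [← pow_add]
      rw [hφ i i.2, hφ j j.2, ← pow_add]
      by_cases hij : (i : ℕ) + j < p
      · exact ⟨0, zero_mem _, by rw [hφ _ hij, sub_self, smul_zero]⟩
      · obtain ⟨k, hk⟩ : ∃ k, (i : ℕ) + j = p + k := ⟨(i : ℕ) + j - p, by omega⟩
        have hk1 : k + 1 < p := by have := i.2; have := j.2; omega
        refine ⟨y ^ (k + 1), Submodule.subset_span ⟨⟨k + 1, hk1⟩, rfl⟩, ?_⟩
        rw [hk, pow_add x, hx, ← Algebra.smul_def, map_smul, hφ k (by omega), Algebra.smul_def, pow_add, hy, hsm₃,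
          SubmonoidClass.coe_pow, map_pow]
        ring
    | zero_left v hv => exact ⟨0, zero_mem _, by simp⟩
    | zero_right u hu => exact ⟨0, zero_mem _, by simp⟩
    | add_left u u' v _ _ _ h h' =>
      obtain ⟨l, hl, e⟩ := h
      obtain ⟨l', hl', e'⟩ := h'
      exact ⟨l + l', add_mem hl hl', by rw [smul_add, ← e, ← e', add_mul, map_add φ, map_add φ]; ring⟩
    | add_right u v v' _ _ _ h h' =>
      obtain ⟨l, hl, e⟩ := h
      obtain ⟨l', hl', e'⟩ := h'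
      exact ⟨l + l', add_mem hl hl', by rw [smul_add, ← e, ← e', mul_add, map_add φ, map_add φ]; ring⟩
    | smul_left r u v _ _ h =>
      obtain ⟨l, hl, e⟩ := h
      refine ⟨r • l, Submodule.smul_mem _ _ hl, ?_⟩
      change φW (r • u) * φ v - φW (r • u * v) = _
      rw [smul_mul_assoc, map_smul, map_smul, smul_mul_assoc, ← smul_sub, smul_comm]
      exact congrArg (r • ·) e
    | smul_right r u v _ _ h =>
      obtain ⟨l, hl, e⟩ := h
      refine ⟨r • l, Submodule.smul_mem _ _ hl, ?_⟩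
      change φ u * φW (r • v) - φW (u * r • v) = _
      rw [mul_smul_comm, map_smul, map_smul, mul_smul_comm, ← smul_sub, smul_comm]
      exact congrArg (r • ·) e
  have hqinj : ∀ (n : ℕ) (u v : M₃), (π ^ n : W) • u = (π ^ n : W) • v → u = v := by
    intro n u v h
    rw [hsm₃, hsm₃] at h
    refine mul_left_cancel₀ ((_root_.map_ne_zero _).2 ?_) h
    rw [SubmonoidClass.coe_pow]
    exact pow_ne_zero _ hq0
  have hmul : ∀ u ∈ W₂, ∀ v ∈ W₂, ∃ r ∈ W₂, φ u * φ v - φ (u * v) = (π * π : W) • φ r := by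
    intro u hu v hv
    obtain ⟨l, hl, e⟩ := hmulΛ _ (hbd' u hu) _ (hbd' v hv)
    obtain ⟨r, hr, rfl⟩ := hφΛ l hl
    refine ⟨(π ^ (N - (2 * c + 2)) : W) • r, hΛW _ (Submodule.smul_mem _ _ hr), hqinj (2 * c) _ _ ?_⟩
    change φW ((π ^ c : W) • u) * φW ((π ^ c : W) • v) - φW ((π ^ c : W) • u * (π ^ c : W) • v) = _ at e
    rw [smul_mul_smul_comm, map_smul, map_smul, map_smul, smul_mul_smul_comm, ← smul_sub, ← pow_add, ← two_mul] at e
    change (π ^ (2 * c) : W) • (φW u * φW v - φW (u * v)) =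
      (π ^ (2 * c) : W) • (π * π : W) • φW ((π ^ (N - (2 * c + 2)) : W) • r)
    rw [e, map_smul, smul_smul, smul_smul, ← pow_two, ← pow_add, ← pow_add,
      show 2 * c + 2 + (N - (2 * c + 2)) = N by omega]
    rfl
  -- the ring `φ W₂`
  have hone : φ 1 = 1 := by simpa using hφ 0 (by omega)
  have hπW₂ : ∀ u ∈ W₂, π • u ∈ W₂ := fun u hu ↦ by rw [hsm₂]; exact mul_mem (hmem₂ _ π.2) hu
  have hsmφ : ∀ (w : W) (u : M₂), w • φ u = φ (w • u) := fun w u ↦ (φW.map_smul w u).symm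
  have hmulC : ∀ u ∈ W₂, ∀ v ∈ W₂, ∃ z ∈ W₂, φ u * φ v = φ z := by
    intro u hu v hv
    obtain ⟨r, hr, e⟩ := hmul u hu v hv
    exact ⟨u * v + (π * π : W) • r, add_mem (mul_mem hu hv) (by rw [mul_smul]; exact hπW₂ _ (hπW₂ r hr)),
      by rw [map_add, ← hsmφ, ← e]; ring⟩
  have halg : ∀ w : W, φ (algebraMap M M₂ (w : M)) = algebraMap M M₃ (w : M) := fun w ↦ by
    rw [← mul_one (algebraMap M M₂ (w : M)), ← Algebra.smul_def, map_smul, hone, Algebra.smul_def, mul_one]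
  let C : Subalgebra W M₃ :=
    { carrier := φ '' W₂
      mul_mem' := by
        rintro _ _ ⟨u, hu, rfl⟩ ⟨v, hv, rfl⟩
        obtain ⟨z, hz, e⟩ := hmulC u hu v hv
        exact ⟨z, hz, e.symm⟩
      one_mem' := ⟨1, one_mem _, hone⟩
      add_mem' := by
        rintro _ _ ⟨u, hu, rfl⟩ ⟨v, hv, rfl⟩
        exact ⟨u + v, add_mem hu hv, map_add φ u v⟩
      zero_mem' := ⟨0, zero_mem _, map_zero φ⟩
      algebraMap_mem' := fun w ↦ ⟨_, hmem₂ _ w.2, halg w⟩ }
  haveI : Module.Finite W C := by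
    let N' : Submodule W M₃ := Λ₃
    haveI : Module.Finite W Λ₃ := Module.Finite.span_of_finite W (Set.finite_range _)
    haveI : IsNoetherian W Λ₃ := isNoetherian_of_isNoetherianRing_of_finite W Λ₃
    have hmem : ∀ z : C, (π ^ c : W) • (z : M₃) ∈ Λ₃ := by
      rintro ⟨_, u, hu, rfl⟩
      rw [hsmφ]
      have : Λ₂.map φW ≤ Λ₃ := by
        rw [Submodule.map_span, Submodule.span_le]
        rintro _ ⟨_, ⟨i, rfl⟩, rfl⟩
        exact Submodule.subset_span ⟨i, (hφ i i.2).symm⟩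
      exact this ⟨_, hbd' u hu, rfl⟩
    let g : C →ₗ[W] Λ₃ :=
      { toFun := fun z ↦ ⟨(π ^ c : W) • (z : M₃), hmem z⟩
        map_add' := fun z z' ↦ Subtype.ext (smul_add _ _ _)
        map_smul' := fun r z ↦ Subtype.ext (smul_comm (π ^ c) r (z : M₃)) }
    exact Module.Finite.of_injective g fun z z' h ↦ Subtype.ext (hqinj c _ _ (congrArg Subtype.val h))
  haveI : Algebra.IsIntegral W C := Algebra.IsIntegral.of_finite W C
  let mk : W₂ → C := fun u ↦ ⟨φ u, u.1, u.2, rfl⟩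
  have hmk : ∀ z : C, ∃ u : W₂, mk u = z := by
    rintro ⟨_, u, hu, rfl⟩
    exact ⟨⟨u, hu⟩, rfl⟩
  set P : C := algebraMap W C π with hP
  have hinjW : Function.Injective (algebraMap W C) := fun w w' h ↦
    Subtype.ext ((algebraMap M M₃).injective (congrArg Subtype.val h))
  have hker : RingHom.ker (algebraMap W C) ≤ (⊥ : Ideal W) := fun w hw ↦
    Ideal.mem_bot.2 (hinjW (hw.trans (map_zero _).symm))
  haveI : IsDomain C := inferInstance
  have hPnu : ¬ IsUnit P := by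
    intro hu
    obtain ⟨Q, -, hQp, hQ⟩ := Ideal.exists_ideal_over_prime_of_isIntegral_of_isPrime (S := C)
      (maximalIdeal W) (⊥ : Ideal C) (by
        intro w hw
        rw [Ideal.mem_comap, Ideal.mem_bot] at hw
        rw [hinjW (hw.trans (map_zero _).symm)]
        exact zero_mem _)
    refine hQp.ne_top (Ideal.eq_top_of_isUnit_mem _ ?_ hu)
    rw [hP, ← Ideal.mem_comap, hQ]
    exact hπ
  have hjac : P ∈ Ideal.jacobson (⊥ : Ideal C) := by
    rw [Ideal.jacobson, Ideal.mem_sInf]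
    rintro J ⟨-, hJ⟩
    haveI := hJ
    have : (J.under W).IsMaximal := Ideal.IsMaximal.under W J
    rw [IsLocalRing.eq_maximalIdeal this] at *
    have h1 : π ∈ J.under W := by rw [IsLocalRing.eq_maximalIdeal (Ideal.IsMaximal.under W J)]; exact hπ
    exact h1
  have hunit1 : ∀ z : C, IsUnit (1 + P * z) := fun z ↦ by
    rw [add_comm]
    exact Ideal.mem_jacobson_bot.1 hjac z
  have hπC : ∀ r : W₂, π • (mk r : M₃) = ((P * mk r : C) : M₃) := fun r ↦ by
    rw [MulMemClass.coe_mul, hsm₃]; rfl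
  have hcong : ∀ u v : W₂, ∃ z : C, mk u * mk v = mk (u * v) + P * (P * z) := by
    intro u v
    obtain ⟨r, hr, e⟩ := hmul u u.2 v v.2
    refine ⟨mk ⟨r, hr⟩, Subtype.ext ?_⟩
    change φ u * φ v = φ ((u : M₂) * v) + algebraMap M M₃ (π : M) * (algebraMap M M₃ (π : M) * φ r)
    rw [← hsm₃, ← hsm₃, ← mul_smul, ← e]; ring
  have hmk1 : mk 1 = 1 := Subtype.ext hone
  have hmk0 : mk 0 = 0 := Subtype.ext (map_zero φ)
  have hmkadd : ∀ u v : W₂, mk (u + v) = mk u + mk v := fun u v ↦ Subtype.ext (map_add φ _ _)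
  have hunit : ∀ w : W₂, IsUnit w → IsUnit (mk w) := by
    rintro _ ⟨w, rfl⟩
    obtain ⟨z, hz⟩ := hcong w (↑w⁻¹ : W₂)
    rw [Units.mul_inv, hmk1] at hz
    exact isUnit_of_mul_isUnit_left (hz ▸ hunit1 (P * z))
  have hP0 : P ≠ 0 := fun h ↦ hπ0 (hinjW (h.trans (map_zero _).symm))
  set p₂ : W₂ := ⟨_, hmem₂ _ π.2⟩ with hp₂
  have hπ₂0 : p₂ ≠ 0 := fun h ↦ hq0 ((algebraMap M M₂).injective
    ((congrArg Subtype.val h).trans (map_zero _).symm))
  have hπ₂u : ¬ IsUnit p₂ := by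
    intro h
    obtain ⟨v, hv⟩ := h.exists_right_inv
    have hv' : algebraMap M M₂ q * (v : M₂) = 1 := congrArg Subtype.val hv
    have hinv : q⁻¹ ∈ W := by
      rw [← hW₂, ValuationSubring.mem_comap, map_inv₀, ← eq_inv_of_mul_eq_one_right hv']
      exact v.2
    exact hπ (IsUnit.of_mul_eq_one ⟨_, hinv⟩ (Subtype.ext (mul_inv_cancel₀ hq0)))
  have hPmk : ∀ u : W₂, mk (p₂ * u) = P * mk u := fun u ↦ Subtype.ext (by
    change φ (algebraMap M M₂ q * (u : M₂)) = algebraMap M M₃ q * φ u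
    rw [← Algebra.smul_def, map_smul, Algebra.smul_def])
  -- the structure of `φ W₂` in terms of a uniformizer
  have hstruct : ∀ π₂ : W₂, Irreducible π₂ → ∃ (e : ℕ) (v₀ : C), 0 < e ∧ IsUnit v₀ ∧ P = v₀ * mk π₂ ^ e ∧
      ∀ (n : ℕ) (w : W₂), IsUnit w → ∃ v : C, IsUnit v ∧ mk (w * π₂ ^ n) = v * mk π₂ ^ n := by
    intro π₂ hπ₂
    obtain ⟨e, u₀, he⟩ := IsDiscreteValuationRing.eq_unit_mul_pow_irreducible hπ₂0 hπ₂
    have he0 : 0 < e := Nat.pos_of_ne_zero fun h ↦ hπ₂u (by rw [he, h, pow_zero, mul_one]; exact u₀.isUnit)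
    have hpow : ∀ k : ℕ, ∃ z : C, mk π₂ ^ k = mk (π₂ ^ k) + P * (P * z) := by
      intro k
      induction k with
      | zero => exact ⟨0, by rw [pow_zero, pow_zero, hmk1, mul_zero, mul_zero, add_zero]⟩
      | succ k ih =>
        obtain ⟨z, hz⟩ := ih
        obtain ⟨z', hz'⟩ := hcong (π₂ ^ k) π₂
        refine ⟨z' + z * mk π₂, ?_⟩
        rw [pow_succ, hz, add_mul, hz', pow_succ]
        ring
    obtain ⟨v₀, hv₀, hPe⟩ : ∃ v₀ : C, IsUnit v₀ ∧ P = v₀ * mk π₂ ^ e := by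
      obtain ⟨z, hz⟩ := hpow e
      obtain ⟨z', hz'⟩ := hcong (u₀ : W₂) (π₂ ^ e)
      rw [← he, show mk p₂ = P from Subtype.ext (halg π)] at hz'
      obtain ⟨t, ht⟩ := hunit1 (z' + mk (u₀ : W₂) * z)
      refine ⟨↑t⁻¹ * mk (u₀ : W₂), t⁻¹.isUnit.mul (hunit _ u₀.isUnit), ?_⟩
      have h1 : mk (u₀ : W₂) * mk π₂ ^ e = ↑t * P := by rw [hz, ht]; linear_combination hz'
      rw [mul_assoc, h1, ← mul_assoc, Units.inv_mul, one_mul]
    refine ⟨e, v₀, he0, hv₀, hPe, fun n ↦ ?_⟩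
    induction n using Nat.strong_induction_on with
    | _ n ih =>
      intro w hw
      rcases Nat.lt_or_ge n e with hn | hn
      · obtain ⟨z, hz⟩ := hpow n
        obtain ⟨z', hz'⟩ := hcong w (π₂ ^ n)
        obtain ⟨k, rfl⟩ : ∃ k, e = n + k := ⟨e - n, by omega⟩
        obtain ⟨t, ht⟩ := hunit w hw
        refine ⟨↑t * (1 + P * (-(↑t⁻¹ * (v₀ * mk π₂ ^ k) * (z' + mk w * z)))), t.isUnit.mul (hunit1 _), ?_⟩
        have hti : (↑t : C) * ↑t⁻¹ = 1 := Units.mul_inv t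
        have hPe' : P = v₀ * (mk π₂ ^ n * mk π₂ ^ k) := by rw [hPe, pow_add]
        linear_combination -hz' + (mk w) * (-hz) - (mk π₂ ^ n) * ht + (P * mk π₂ ^ n * (v₀ * mk π₂ ^ k) * (z' + mk w * z)) * hti - (P * (z' + mk w * z)) * hPe'
      · obtain ⟨k, rfl⟩ : ∃ k, n = e + k := ⟨n - e, by omega⟩
        obtain ⟨v, hv, hvk⟩ := ih k (by omega) (w * ↑u₀⁻¹) (hw.mul u₀⁻¹.isUnit)
        refine ⟨v₀ * v, hv₀.mul hv, ?_⟩
        have hu₀ : (u₀ : W₂) * ↑u₀⁻¹ = 1 := Units.mul_inv u₀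
        rw [show w * π₂ ^ (e + k) = p₂ * (w * ↑u₀⁻¹ * π₂ ^ k) by
          rw [he, pow_add]; linear_combination -(w * π₂ ^ e * π₂ ^ k) * hu₀, hPmk, hvk, hPe, pow_add]
        ring
  obtain ⟨ϖ, hϖ⟩ := IsDiscreteValuationRing.exists_irreducible W₂
  obtain ⟨e, v₀, he0, hv₀, hPe, hform⟩ := hstruct ϖ hϖ
  set Q : C := mk ϖ with hQ
  have hQ0 : Q ≠ 0 := fun h ↦ hP0 (by rw [hPe, h, zero_pow he0.ne', mul_zero])
  have hQnu : ¬ IsUnit Q := fun h ↦ hPnu (hPe ▸ hv₀.mul (h.pow e))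
  have hdec : ∀ u : W₂, u ≠ 0 → ∃ (n : ℕ) (v : C), IsUnit v ∧ mk u = v * Q ^ n := by
    intro u hu
    obtain ⟨n, w, rfl⟩ := IsDiscreteValuationRing.eq_unit_mul_pow_irreducible hu hϖ
    obtain ⟨v, hv, h⟩ := hform n w w.isUnit
    exact ⟨n, v, hv, h⟩
  have hfrac : ∀ u : M₂, ∃ k : ℕ, algebraMap M M₂ q ^ k * u ∈ W₂ := by
    intro u
    obtain ⟨b, d, hd, rfl⟩ := IsFractionRing.div_surjective W₂ u
    obtain ⟨k, w, hw⟩ := IsDiscreteValuationRing.eq_unit_mul_pow_irreducible (nonZeroDivisors.ne_zero hd) hϖ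
    obtain ⟨e', w', hw'⟩ := IsDiscreteValuationRing.eq_unit_mul_pow_irreducible hπ₂0 hϖ
    have he' : 0 < e' := Nat.pos_of_ne_zero fun h ↦ hπ₂u (by rw [hw', h, pow_zero, mul_one]; exact w'.isUnit)
    obtain ⟨t, ht⟩ : d ∣ p₂ ^ k := by
      rw [hw', hw, mul_pow, ← pow_mul]
      refine (Units.mul_left_dvd).2 (dvd_mul_of_dvd_right (pow_dvd_pow ϖ ?_) _)
      exact Nat.le_mul_of_pos_left k he'
    refine ⟨k, ?_⟩
    have : algebraMap M M₂ q ^ k * (algebraMap W₂ M₂ b / algebraMap W₂ M₂ d) = ((t * b : W₂) : M₂) := by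
      have ht' : algebraMap M M₂ q ^ k = (d : M₂) * t := congrArg Subtype.val ht
      have hd0 : (d : M₂) ≠ 0 := fun h ↦ nonZeroDivisors.ne_zero hd (Subtype.ext h)
      rw [ht', MulMemClass.coe_mul]
      change (d : M₂) * t * ((b : M₂) / (d : M₂)) = t * b
      field_simp
    rw [this]
    exact SetLike.coe_mem _
  have hφeq : ∀ (k : ℕ) (u : M₂), φ (algebraMap M M₂ q ^ k * u) = algebraMap M M₃ q ^ k * φ u := fun k u ↦ by
    rw [← map_pow, ← Algebra.smul_def, map_smul, Algebra.smul_def, map_pow]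
  have hq3 : algebraMap M M₃ q ≠ 0 := (_root_.map_ne_zero _).2 hq0
  have hinj : Function.Injective φ := by
    rw [injective_iff_map_eq_zero]
    intro u hu
    obtain ⟨k, hk⟩ := hfrac u
    by_contra h0
    obtain ⟨n, v, hv, h⟩ := hdec ⟨_, hk⟩ (fun h ↦ h0 ((mul_eq_zero.1 (congrArg Subtype.val h)).resolve_left
      (pow_ne_zero _ ((_root_.map_ne_zero _).2 hq0))))
    have : mk ⟨_, hk⟩ = 0 := Subtype.ext (by
      change φ (algebraMap M M₂ q ^ k * u) = 0
      rw [hφeq, hu, mul_zero])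
    rw [this] at h
    exact mul_ne_zero hv.ne_zero (pow_ne_zero _ hQ0) h.symm
  let W₃ : ValuationSubring M₃ :=
    { C.toSubring with
      mem_or_inv_mem' := fun m ↦ by
        obtain ⟨u, rfl⟩ := hsurj m
        rcases eq_or_ne u 0 with rfl | hu
        · exact Or.inl ⟨0, zero_mem _, rfl⟩
        obtain ⟨k, hk⟩ := hfrac u
        obtain ⟨n, v, hv, h⟩ := hdec ⟨_, hk⟩ (fun h ↦ hu ((mul_eq_zero.1 (congrArg Subtype.val h)).resolve_left
          (pow_ne_zero _ ((_root_.map_ne_zero _).2 hq0))))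
        have h' : algebraMap M M₃ q ^ k * φ u = (v : M₃) * (Q : M₃) ^ n := by
          rw [← hφeq]; exact congrArg Subtype.val h
        have hPe' : algebraMap M M₃ q = (v₀ : M₃) * (Q : M₃) ^ e := congrArg Subtype.val hPe
        obtain ⟨v', hv'⟩ := hv
        obtain ⟨v₀', hv₀'⟩ := hv₀
        subst hv' hv₀'
        rcases Nat.le_total (e * k) n with hle | hle
        · left
          obtain ⟨j, rfl⟩ : ∃ j, n = e * k + j := ⟨n - e * k, by omega⟩
          have : φ u = ((↑v' * ↑(v₀'⁻¹ ^ k) * Q ^ j : C) : M₃) := by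
            refine mul_left_cancel₀ (pow_ne_zero k hq3) ?_
            rw [h', hPe', pow_add, pow_mul, mul_pow, MulMemClass.coe_mul, MulMemClass.coe_mul, SubmonoidClass.coe_pow]
            have h1 : ((v₀' : C) : M₃) ^ k * ((↑(v₀'⁻¹ ^ k) : C) : M₃) = 1 := by
              rw [← SubmonoidClass.coe_pow, ← MulMemClass.coe_mul, ← Units.val_pow_eq_pow_val, ← Units.val_mul,
                inv_pow, mul_inv_cancel, Units.val_one, OneMemClass.coe_one]
            linear_combination -(((v' : C) : M₃) * ((Q : M₃) ^ e) ^ k * (Q : M₃) ^ j) * h1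
          rw [this]
          exact SetLike.coe_mem (_ : C)
        · right
          obtain ⟨j, hj⟩ : ∃ j, e * k = n + j := ⟨e * k - n, by omega⟩
          have : φ u * ((↑v'⁻¹ * ↑(v₀' ^ k) * Q ^ j : C) : M₃) = 1 := by
            refine mul_left_cancel₀ (pow_ne_zero k hq3) ?_
            rw [mul_one, ← mul_assoc, h', hPe', mul_pow, ← pow_mul, hj, pow_add, MulMemClass.coe_mul, MulMemClass.coe_mul,
              SubmonoidClass.coe_pow, Units.val_pow_eq_pow_val, SubmonoidClass.coe_pow]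
            have h1 : ((v' : C) : M₃) * ((↑v'⁻¹ : C) : M₃) = 1 := by
              rw [← MulMemClass.coe_mul, Units.mul_inv, OneMemClass.coe_one]
            linear_combination (((v₀' : C) : M₃) ^ k * (Q : M₃) ^ n * (Q : M₃) ^ j) * h1
          rw [← eq_inv_of_mul_eq_one_right this]
          exact SetLike.coe_mem (_ : C) }
  have hW₃ : ∀ m, m ∈ W₃ ↔ ∃ u ∈ W₂, φ u = m := fun m ↦ Iff.rfl
  have hnu : ∀ (u : W₂), ¬ IsUnit u → ¬ IsUnit (mk u) := by
    intro u hu
    rcases eq_or_ne u 0 with rfl | hu0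
    · rw [hmk0]; exact not_isUnit_zero
    obtain ⟨n, w, rfl⟩ := IsDiscreteValuationRing.eq_unit_mul_pow_irreducible hu0 hϖ
    obtain ⟨v, hv, h⟩ := hform n w w.isUnit
    have hn : n ≠ 0 := fun h0 ↦ hu (by rw [h0, pow_zero, mul_one]; exact w.isUnit)
    rw [h]
    exact fun hh ↦ hQnu ((isUnit_pow_iff hn).1 (isUnit_of_mul_isUnit_right hh))
  refine ⟨hinj, W₃, hW₃, fun V hV hVπ ↦ ?_, fun π₂ hπ₂ ↦ ?_, ?_⟩
  · have hCV : ∀ z : C, (z : M₃) ∈ V := fun z ↦ by
      refine EtRamLib.ValTower.mem_of_isIntegral V (A := W) (fun w ↦ hV _ w.2) ?_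
      exact (Algebra.IsIntegral.isIntegral z).map C.val
    ext m
    refine ⟨fun hm ↦ ?_, fun hm ↦ hCV ⟨m, hm⟩⟩
    by_contra hn
    have hinv : m⁻¹ ∈ W₃ := (W₃.mem_or_inv_mem m).resolve_left hn
    obtain ⟨u, hu, hum⟩ := (hW₃ _).1 hinv
    have hu0 : (⟨u, hu⟩ : W₂) ≠ 0 := fun h ↦ hn (by
      have h' : u = 0 := congrArg Subtype.val h
      rw [h', map_zero, eq_comm, inv_eq_zero] at hum
      rw [hum]; exact zero_mem W₃)
    have hnu' : ¬ IsUnit (mk ⟨u, hu⟩) := fun h ↦ hn (by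
      obtain ⟨t, ht⟩ := h.exists_right_inv
      have ht' : φ u * (t : M₃) = 1 := congrArg Subtype.val ht
      rw [← inv_inv m, ← hum, ← eq_inv_of_mul_eq_one_right ht']
      exact t.2)
    obtain ⟨n, v, hv, h⟩ := hdec _ hu0
    have hn0 : n ≠ 0 := fun h0 ↦ hnu' (by rw [h, h0, pow_zero, mul_one]; exact hv)
    have hval : V.valuation (m⁻¹) < 1 := by
      rw [← hum, show φ u = (v : M₃) * (Q : M₃) ^ n from congrArg Subtype.val h, map_mul, map_pow]
      refine (mul_le_of_le_one_left' ((V.valuation_le_one_iff _).2 (hCV v))).trans_lt (pow_lt_one₀ zero_le ?_ hn0)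
      by_contra hQV
      push Not at hQV
      have hPe' : algebraMap M M₃ q = (v₀ : M₃) * (Q : M₃) ^ e := congrArg Subtype.val hPe
      obtain ⟨t, ht⟩ := hv₀.exists_right_inv
      have ht' : (v₀ : M₃) * (t : M₃) = 1 := congrArg Subtype.val ht
      have h2 : 1 ≤ V.valuation (v₀ : M₃) := by
        have h3 : V.valuation (v₀ : M₃) * V.valuation (t : M₃) = 1 := by rw [← map_mul, ht', map_one]
        exact h3 ▸ mul_le_of_le_one_right' ((V.valuation_le_one_iff _).2 (hCV t))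
      rw [hPe', map_mul, map_pow] at hVπ
      exact not_lt.2 (one_le_mul h2 (one_le_pow₀ hQV)) hVπ
    rw [map_inv₀] at hval
    rcases eq_or_ne m 0 with rfl | hm0
    · exact hn (zero_mem W₃)
    · exact absurd ((inv_lt_one₀ (zero_lt_iff.2 ((Valuation.ne_zero_iff _).2 hm0))).1 hval)
        (not_lt.2 ((V.valuation_le_one_iff _).2 hm))
  · obtain ⟨e', v₀', -, -, -, hform'⟩ := hstruct π₂ hπ₂
    refine ⟨(mk π₂).2, le_antisymm (fun z hz ↦ ?_) ((Ideal.span_singleton_le_iff_mem _).2 ?_)⟩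
    · obtain ⟨u, hu⟩ := hmk ⟨z.1, z.2⟩
      rcases eq_or_ne u 0 with rfl | hu0
      · have : z = 0 := Subtype.ext ((congrArg Subtype.val hu).symm.trans (map_zero φ))
        rw [this]; exact zero_mem _
      obtain ⟨n, w, rfl⟩ := IsDiscreteValuationRing.eq_unit_mul_pow_irreducible hu0 hπ₂
      obtain ⟨v, hv, h⟩ := hform' n w w.isUnit
      rw [h] at hu
      obtain ⟨t, ht⟩ := hv.exists_right_inv
      have hn : n ≠ 0 := fun h0 ↦ hz (by
        rw [h0, pow_zero, mul_one] at hu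
        exact IsUnit.of_mul_eq_one ⟨(t : M₃), t.2⟩ (Subtype.ext (by
          change (z : M₃) * (t : M₃) = 1
          rw [← show (v : M₃) = (z : M₃) from congrArg Subtype.val hu]
          exact congrArg Subtype.val ht)))
      refine Ideal.mem_span_singleton.2 ?_
      obtain ⟨k, rfl⟩ : ∃ k, n = k + 1 := ⟨n - 1, by omega⟩
      refine ⟨⟨((v * mk π₂ ^ k : C) : M₃), SetLike.coe_mem _⟩, Subtype.ext ?_⟩
      change (z : M₃) = (mk π₂ : M₃) * ((v * mk π₂ ^ k : C) : M₃)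
      rw [← MulMemClass.coe_mul, mul_left_comm, ← pow_succ', hu]
    · intro hh
      obtain ⟨t, ht⟩ := hh.exists_right_inv
      exact hnu π₂ hπ₂.not_isUnit (IsUnit.of_mul_eq_one ⟨t.1, t.2⟩ (Subtype.ext (congrArg Subtype.val ht :)))
  · let em : C →+* W₃ := { toFun := fun z ↦ ⟨z.1, z.2⟩, map_one' := rfl, map_mul' := fun _ _ ↦ rfl, map_zero' := rfl, map_add' := fun _ _ ↦ rfl }
    have hemnu : ∀ z : C, ¬ IsUnit z → residue W₃ (em z) = 0 := fun z hz ↦ (residue_eq_zero_iff _).2 fun h ↦ hz (by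
      obtain ⟨t, ht⟩ := h.exists_right_inv
      exact IsUnit.of_mul_eq_one ⟨t.1, t.2⟩ (Subtype.ext (congrArg Subtype.val ht :)))
    let f : W₂ →+* ResidueField W₃ :=
      { toFun := fun u ↦ residue W₃ (em (mk u))
        map_one' := by rw [hmk1, map_one, map_one]
        map_mul' := fun u v ↦ by
          obtain ⟨z, hz⟩ := hcong u v
          rw [← map_mul, ← map_mul, hz, map_add, map_add, hemnu (P * (P * z)) (fun h ↦ hPnu (isUnit_of_mul_isUnit_left h)), add_zero]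
        map_zero' := by rw [hmk0, map_zero, map_zero]
        map_add' := fun u v ↦ by rw [hmkadd, map_add, map_add] }
    have hf : ∀ u ∈ maximalIdeal W₂, f u = 0 := fun u hu ↦ hemnu _ (hnu u hu)
    let f' : ResidueField W₂ →+* ResidueField W₃ := Ideal.Quotient.lift _ f hf
    refine ⟨RingEquiv.ofBijective f' ⟨f'.injective, fun r ↦ ?_⟩, fun u h ↦ rfl⟩
    obtain ⟨z, rfl⟩ := IsLocalRing.residue_surjective r
    obtain ⟨u, hu⟩ := hmk ⟨z.1, z.2⟩
    exact ⟨residue W₂ u, congrArg (fun t : C ↦ residue W₃ (em t)) hu⟩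

end Groth.Agent.EtRamLib.Perturb
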