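import Groth.Agent.EtRamLib.ExtendSquare

/-!
# Descent of solutions along a square of unramified extensions of discrete valuation rings
-/

set_option autoImplicit false
universe u

open IsLocalRing TensorProduct Polynomial

namespace Groth.Agent.EtRamLib.SolutionDescent

theorem isSolution_descent (A B A' B' K L K' L' : Type u) [CommRing A] [IsDomain A] [IsDiscreteValuationRing A]
    [CommRing B] [IsDomain B] [IsDiscreteValuationRing B]
    [CommRing A'] [IsDomain A'] [IsDiscreteValuationRing A']
    [CommRing B'] [IsDomain B'] [IsDiscreteValuationRing B']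
    [Field K] [Field L] [Field K'] [Field L']
    [Algebra A K] [IsFractionRing A K] [Algebra B L] [IsFractionRing B L]
    [Algebra A' K'] [IsFractionRing A' K'] [Algebra B' L'] [IsFractionRing B' L']
    [Algebra K L] [Algebra A A'] [IsLocalHom (algebraMap A A')] [Algebra B B'] [IsLocalHom (algebraMap B B')]
    (hBB' : Function.Injective (algebraMap B B'))
    [Algebra A' B'] [IsLocalHom (algebraMap A' B')]
    [Algebra K K'] [Algebra A K'] [IsScalarTower A K K'] [IsScalarTower A A' K'] [Algebra.IsAlgebraic K K']
    [Algebra L L'] [Algebra B L'] [IsScalarTower B L L'] [IsScalarTower B B' L']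
    [Algebra K' L'] [Algebra A' L'] [IsScalarTower A' K' L'] [IsScalarTower A' B' L']
    [Algebra K L'] [IsScalarTower K L L'] [IsScalarTower K K' L']
    (hw : EtRam.IsWeaklyUnramified A A') (hres : Algebra.IsSeparable (ResidueField A) (ResidueField A'))
    (K₁' : Type u) [Field K₁'] [Algebra K' K₁'] [FiniteDimensional K' K₁'] [Algebra K K₁'] [IsScalarTower K K' K₁']
    (h : EtRam.IsSolution B' K' L' K₁') (K₁ : Type u) [Field K₁] [Algebra K K₁] [FiniteDimensional K K₁]
    (s : Set K₁') (hs : IntermediateField.adjoin K' s = ⊤)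
    (hsplit : ∀ x ∈ s, ((minpoly K x).map (algebraMap K K₁)).Splits) :
    EtRam.IsSolution B K L K₁ := by
  classical
  intro M _ _ _ _ _ _ hgen W hW
  haveI : FiniteDimensional L M := Module.Finite.of_surjective
    (Algebra.TensorProduct.lift (Algebra.ofId L M) (IsScalarTower.toAlgHom K K₁ M)
      fun _ _ ↦ Commute.all _ _ : L ⊗[K] K₁ →ₐ[L] M).toLinearMap (Solution.surjective_lift K L K₁ M hgen)
  obtain ⟨M', _, _, _, _, _, _, W', hgen', hfin', hWM, hW'⟩ :=
    ExtendSquare.exists_compositum B B' L L' M hBB' W hW
  letI : Algebra K M' := ((algebraMap L M').comp (algebraMap K L)).toAlgebra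
  haveI : IsScalarTower K L M' := IsScalarTower.of_algebraMap_eq fun _ => rfl
  letI : Algebra K' M' := ((algebraMap L' M').comp (algebraMap K' L')).toAlgebra
  haveI : IsScalarTower K' L' M' := IsScalarTower.of_algebraMap_eq fun _ => rfl
  haveI : IsScalarTower K K' M' := IsScalarTower.of_algebraMap_eq fun x => by
    rw [IsScalarTower.algebraMap_apply K L M', IsScalarTower.algebraMap_apply L L' M',
      IsScalarTower.algebraMap_apply K' L' M', ← IsScalarTower.algebraMap_apply K L L',
      ← IsScalarTower.algebraMap_apply K K' L']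
  letI : Algebra K₁ M' := ((algebraMap M M').comp (algebraMap K₁ M)).toAlgebra
  haveI : IsScalarTower K₁ M M' := IsScalarTower.of_algebraMap_eq fun _ => rfl
  haveI : IsScalarTower K K₁ M' := IsScalarTower.of_algebraMap_eq fun x => by
    rw [IsScalarTower.algebraMap_apply K₁ M M', ← IsScalarTower.algebraMap_apply K K₁ M,
      IsScalarTower.algebraMap_apply K L M, ← IsScalarTower.algebraMap_apply L M M',
      ← IsScalarTower.algebraMap_apply K L M']
  let F : IntermediateField K' M' := IntermediateField.adjoin K' (Set.range (algebraMap K₁ M'))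
  have hFalg : F.toSubalgebra = Algebra.adjoin K' (Set.range (algebraMap K₁ M')) :=
    IntermediateField.adjoin_toSubalgebra_of_isAlgebraic (by
      rintro _ ⟨x, rfl⟩
      exact ((IsIntegral.of_finite K x).map (IsScalarTower.toAlgHom K K₁ M')).tower_top.isAlgebraic)
  haveI : FiniteDimensional K' F := by
    let φ : K' ⊗[K] K₁ →ₐ[K'] M' :=
      Algebra.TensorProduct.lift (Algebra.ofId K' M') (IsScalarTower.toAlgHom K K₁ M') fun _ _ => .all _ _
    haveI : Module.Finite K' φ.range :=
      Module.Finite.of_surjective φ.rangeRestrict.toLinearMap φ.rangeRestrict_surjective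
    have hle : Subalgebra.toSubmodule F.toSubalgebra ≤ Subalgebra.toSubmodule φ.range := by
      rw [OrderEmbedding.le_iff_le, hFalg, Algebra.adjoin_le_iff]
      rintro _ ⟨x, rfl⟩
      exact ⟨1 ⊗ₜ x, by simp [φ]⟩
    haveI : IsNoetherian K' (Subalgebra.toSubmodule φ.range) :=
      isNoetherian_of_isNoetherianRing_of_finite K' φ.range
    exact Module.Finite.of_injective (Submodule.inclusion hle) (Submodule.inclusion_injective hle)
  let ι₁ : K₁ →+* F := (algebraMap K₁ M').codRestrict F fun x => IntermediateField.subset_adjoin _ _ ⟨x, rfl⟩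
  letI : Algebra K₁ F := ι₁.toAlgebra
  haveI : IsScalarTower K₁ F M' := IsScalarTower.of_algebraMap_eq fun _ => rfl
  haveI : IsScalarTower K K₁ F := IsScalarTower.of_algebraMap_eq fun x => Subtype.ext <| by
    change algebraMap K M' x = algebraMap K₁ M' (algebraMap K K₁ x)
    exact IsScalarTower.algebraMap_apply K K₁ M' x
  -- the copy of `K₁'` inside `F`
  obtain ⟨j⟩ : Nonempty (K₁' →ₐ[K'] F) := IntermediateField.nonempty_algHom_of_adjoin_splits (S := s) (fun x hx => by
    have hxK : IsIntegral K x :=
      haveI : Algebra.IsAlgebraic K K₁' := Algebra.IsAlgebraic.trans K K' K₁'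
      (Algebra.IsAlgebraic.isAlgebraic x).isIntegral
    refine ⟨IsIntegral.of_finite K' x, ?_⟩
    refine Splits.of_dvd (g := (minpoly K x).map (algebraMap K F)) ?_
      (Polynomial.map_ne_zero (minpoly.ne_zero hxK)) ?_
    · rw [IsScalarTower.algebraMap_eq K K₁ F, ← Polynomial.map_map]
      exact (hsplit x hx).map _
    · rw [IsScalarTower.algebraMap_eq K K' F, ← Polynomial.map_map]
      exact Polynomial.map_dvd _ (minpoly.dvd_map_of_isScalarTower K K' x)) hs
  letI : Algebra K₁' F := j.toRingHom.toAlgebra
  haveI : IsScalarTower K' K₁' F := IsScalarTower.of_algebraMap_eq fun x => (j.commutes x).symm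
  haveI : FiniteDimensional K₁' F := FiniteDimensional.right K' K₁' F
  letI : Algebra K₁' M' := ((algebraMap F M').comp j.toRingHom).toAlgebra
  haveI : IsScalarTower K₁' F M' := IsScalarTower.of_algebraMap_eq fun _ => rfl
  haveI : IsScalarTower K' K₁' M' := IsScalarTower.of_algebraMap_eq fun x => by
    rw [IsScalarTower.algebraMap_apply K₁' F M', ← IsScalarTower.algebraMap_apply K' K₁' F,
      ← IsScalarTower.algebraMap_apply K' F M']
  -- the local extension attached to `K₁'`
  let M₁ : IntermediateField L' M' := IntermediateField.adjoin L' (Set.range (algebraMap K₁' M'))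
  haveI : FiniteDimensional L' M₁ := inferInstance
  let ι₁' : K₁' →+* M₁ := (algebraMap K₁' M').codRestrict M₁ fun x => IntermediateField.subset_adjoin _ _ ⟨x, rfl⟩
  letI : Algebra K₁' M₁ := ι₁'.toAlgebra
  haveI : IsScalarTower K₁' M₁ M' := IsScalarTower.of_algebraMap_eq fun _ => rfl
  haveI : IsScalarTower K' K₁' M₁ := IsScalarTower.of_algebraMap_eq fun x => Subtype.ext <| by
    change algebraMap K' M' x = algebraMap K₁' M' (algebraMap K' K₁' x)
    exact IsScalarTower.algebraMap_apply K' K₁' M' x
  have hgen₁ : Algebra.adjoin L' (Set.range (algebraMap K₁' M₁)) = ⊤ := by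
    refine Algebra.eq_top_iff.mpr fun z => ?_
    have hz : (z : M') ∈ Algebra.adjoin L' (Set.range (algebraMap K₁' M')) := by
      rw [← IntermediateField.adjoin_toSubalgebra_of_isAlgebraic fun x _ =>
        (IsIntegral.of_finite L' x).isAlgebraic]
      exact z.2
    have e : Set.range (algebraMap K₁' M') = M₁.val '' Set.range (algebraMap K₁' M₁) := by
      rw [← Set.range_comp]; rfl
    rw [e, Algebra.adjoin_image] at hz
    obtain ⟨y, hy, hyz⟩ := hz
    exact (Subtype.ext hyz : y = z) ▸ hy
  have hWs : ∀ x : M₁, x ∈ W'.comap (algebraMap M₁ M') ↔ (x : M') ∈ W' := fun _ => Iff.rfl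
  have hdomB' : EtRam.Dominates B' ((algebraMap L' M₁).comp (algebraMap B' L')) (W'.comap (algebraMap M₁ M')) :=
    (ValTower.dominates_tower B' L' M₁ M' W' hW').1
  have h1 : Good.Good (W'.comap (algebraMap M₁ M')) (algebraMap K₁' M₁) := h M₁ hgen₁ _ hdomB'
  haveI : IsDiscreteValuationRing W' := Solution.isDVR B' L' M' W' hW'
  haveI : IsDiscreteValuationRing (W'.comap (algebraMap M₁ M')) := Solution.isDVR B' L' M₁ _ hdomB'
  have hdomA' : ∀ (E : Type u) [Field E] [Algebra E M'] [Algebra K' E] [IsScalarTower K' E M'],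
      EtRam.Dominates A' ((algebraMap K' E).comp (algebraMap A' K')) (W'.comap (algebraMap E M')) := by
    intro E _ _ _ _
    refine (ValTower.dominates_tower A' K' E M' W' ?_).1
    have e : (algebraMap K' M').comp (algebraMap A' K') =
        ((algebraMap L' M').comp (algebraMap B' L')).comp (algebraMap A' B') := RingHom.ext fun a => by
      simp only [RingHom.comp_apply]
      rw [IsScalarTower.algebraMap_apply K' L' M', ← IsScalarTower.algebraMap_apply A' K' L',
        ← IsScalarTower.algebraMap_apply A' B' L']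
    rw [e]
    exact ⟨fun a => hW'.1 _, fun a ha => hW'.2 _ (map_nonunit (algebraMap A' B') a ha)⟩
  haveI : IsDiscreteValuationRing ((W'.comap (algebraMap M₁ M')).comap (algebraMap K₁' M₁)) :=
    Solution.isDVR A' K' K₁' _ (hdomA' K₁')
  have hgenF : Algebra.adjoin M₁ (Set.range (algebraMap F M')) = ⊤ := by
    refine Algebra.eq_top_iff.mpr fun x => ?_
    have hx : x ∈ Algebra.adjoin L' (Set.range (algebraMap M M')) := hgen' ▸ Algebra.mem_top
    refine (Algebra.adjoin_le (S := (Algebra.adjoin M₁ (Set.range (algebraMap F M'))).restrictScalars L') ?_) hx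
    rintro _ ⟨m, rfl⟩
    have hm : m ∈ Algebra.adjoin L (Set.range (algebraMap K₁ M)) := hgen ▸ Algebra.mem_top
    induction hm using Algebra.adjoin_induction with
    | mem y hy =>
      obtain ⟨k, rfl⟩ := hy
      rw [← IsScalarTower.algebraMap_apply K₁ M M', IsScalarTower.algebraMap_apply K₁ F M']
      exact Algebra.subset_adjoin ⟨_, rfl⟩
    | algebraMap r =>
      rw [← IsScalarTower.algebraMap_apply L M M', IsScalarTower.algebraMap_apply L L' M']
      exact Subalgebra.algebraMap_mem _ _
    | add a b _ _ ha hb => rw [map_add]; exact add_mem ha hb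
    | mul a b _ _ ha hb => rw [map_mul]; exact mul_mem ha hb
  have h2 : Good.Good W' (algebraMap F M') := Good.good_baseChange hgenF W' h1
  have h3 : Good.Good (W'.comap (algebraMap F M')) (algebraMap K₁ F) := by
    refine Good.step A A' K K' K₁ F hw (Good.geometricallyReduced_of_isSeparable _ _) ?_ _ (hdomA' F)
    refine Algebra.eq_top_iff.mpr fun z => ?_
    have hz : (z : M') ∈ Algebra.adjoin K' (Set.range (algebraMap K₁ M')) := hFalg ▸ z.2
    have e : Set.range (algebraMap K₁ M') = F.val '' Set.range (algebraMap K₁ F) := by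
      rw [← Set.range_comp]; rfl
    rw [e, Algebra.adjoin_image] at hz
    obtain ⟨y, hy, hyz⟩ := hz
    exact (Subtype.ext hyz : y = z) ▸ hy
  have e4 : (algebraMap F M').comp (algebraMap K₁ F) = (algebraMap M M').comp (algebraMap K₁ M) :=
    RingHom.ext fun _ => rfl
  have h4 : Good.Good W' ((algebraMap M M').comp (algebraMap K₁ M)) := e4 ▸ Good.good_trans h3 h2
  haveI : IsDiscreteValuationRing (W'.comap (algebraMap M M')) := by
    rw [hWM]; exact Solution.isDVR B L M W hW
  have h5 := Good.good_cancel h4
  rw [hWM] at h5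
  exact h5

end Groth.Agent.EtRamLib.SolutionDescent
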