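import Mathlib
import Groth.Prelude.Def_EtRam
import Groth.Agent.EtRamLib.Solution
import Groth.Agent.EtRamLib.Basic
import Groth.Agent.EtRamLib.TameAux

/-!
# Base change of a tame extension by an extension whose ramification index is divisible enough
-/

set_option autoImplicit false
universe u

open IsLocalRing TensorProduct
open scoped Polynomial

namespace Groth.Agent.EtRamLib.Tame

open Solution

/-- elements of a compositum are quotients of elements of any subring containing `B` and `W ∩ K₁` -/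
theorem exists_quot {B L K₁ M R : Type u} [CommRing B] [Field L] [Algebra B L] [IsFractionRing B L] [IsDomain B]
    [Field K₁] [Field M] [Algebra L M] [Algebra K₁ M] [CommRing R]
    (hgen : Algebra.adjoin L (Set.range (algebraMap K₁ M)) = ⊤) (W : ValuationSubring M) [Algebra R W]
    (S : Subalgebra R W) (hA : ∀ x ∈ W.comap (algebraMap K₁ M), ∃ s ∈ S, (s : M) = algebraMap K₁ M x)
    (hB : ∀ b : B, ∃ s ∈ S, (s : M) = algebraMap L M (algebraMap B L b)) :
    ∀ w : M, ∃ x ∈ S, ∃ y ∈ S, y ≠ 0 ∧ w * (y : M) = (x : M) := by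
  let F : Subfield M :=
    { carrier := {w | ∃ x ∈ S, ∃ y ∈ S, y ≠ 0 ∧ w * (y : M) = (x : M)}
      mul_mem' := by
        rintro a b ⟨x, hx, y, hy, hy0, h⟩ ⟨x', hx', y', hy', hy0', h'⟩
        refine ⟨x * x', mul_mem hx hx', y * y', mul_mem hy hy', mul_ne_zero hy0 hy0', ?_⟩
        rw [MulMemClass.coe_mul, MulMemClass.coe_mul, ← h, ← h']; ring
      one_mem' := ⟨1, one_mem _, 1, one_mem _, one_ne_zero, by simp⟩
      add_mem' := by
        rintro a b ⟨x, hx, y, hy, hy0, h⟩ ⟨x', hx', y', hy', hy0', h'⟩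
        refine ⟨x * y' + x' * y, add_mem (mul_mem hx hy') (mul_mem hx' hy), y * y', mul_mem hy hy',
          mul_ne_zero hy0 hy0', ?_⟩
        rw [AddMemClass.coe_add, MulMemClass.coe_mul, MulMemClass.coe_mul, MulMemClass.coe_mul, ← h, ← h']; ring
      zero_mem' := ⟨0, zero_mem _, 1, one_mem _, one_ne_zero, by simp⟩
      neg_mem' := by
        rintro a ⟨x, hx, y, hy, hy0, h⟩
        refine ⟨0 - x, sub_mem (zero_mem _) hx, y, hy, hy0, ?_⟩
        rw [AddSubgroupClass.coe_sub, ZeroMemClass.coe_zero, ← h]; ring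
      inv_mem' := by
        rintro a ⟨x, hx, y, hy, hy0, h⟩
        rcases eq_or_ne a 0 with rfl | ha
        · exact ⟨0, zero_mem _, 1, one_mem _, one_ne_zero, by simp⟩
        refine ⟨y, hy, x, hx, fun h0 ↦ ?_, ?_⟩
        · rw [h0, ZeroMemClass.coe_zero, mul_eq_zero] at h
          exact h.elim ha (fun h1 ↦ hy0 (Subtype.ext h1))
        · rw [← h, inv_mul_cancel_left₀ ha] }
  suffices h : F = ⊤ from fun w ↦ (h ▸ Subfield.mem_top w : w ∈ F)
  have hmem : ∀ s ∈ S, (s : M) ∈ F := fun s hs ↦ ⟨s, hs, 1, one_mem _, one_ne_zero, by simp⟩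
  have hK₁ : ∀ x : K₁, algebraMap K₁ M x ∈ F := by
    intro x
    rcases (W.comap (algebraMap K₁ M)).mem_or_inv_mem x with h | h
    · obtain ⟨s, hs, hsx⟩ := hA x h
      exact hsx ▸ hmem s hs
    · obtain ⟨s, hs, hsx⟩ := hA _ h
      have := inv_mem (hmem s hs)
      rwa [hsx, map_inv₀, inv_inv] at this
  have hL : ∀ x : L, algebraMap L M x ∈ F := by
    intro x
    obtain ⟨a, b, -, rfl⟩ := IsFractionRing.div_surjective B x
    obtain ⟨s, hs, hsa⟩ := hB a
    obtain ⟨t, ht, htb⟩ := hB b
    rw [map_div₀, ← hsa, ← htb]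
    exact div_mem (hmem s hs) (hmem t ht)
  rw [eq_top_iff]
  intro w hw0
  clear hw0
  have hw' : w ∈ Algebra.adjoin L (Set.range (algebraMap K₁ M)) := hgen ▸ Algebra.mem_top
  induction hw' using Algebra.adjoin_induction with
  | mem x hx => obtain ⟨x, rfl⟩ := hx; exact hK₁ x
  | algebraMap r => exact hL r
  | add x y _ _ hx hy => exact add_mem hx hy
  | mul x y _ _ hx hy => exact mul_mem hx hy

theorem main (A B K L K₁ M : Type u) [CommRing A] [IsDomain A] [IsDiscreteValuationRing A]
    [CommRing B] [IsDomain B] [IsDiscreteValuationRing B] [Algebra A B] [IsLocalHom (algebraMap A B)]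
    (hinj : Function.Injective (algebraMap A B))
    [Field K] [Field L] [Field K₁] [Field M] [Algebra A K] [IsFractionRing A K] [Algebra B L] [IsFractionRing B L]
    [Algebra K L] [Algebra A L] [IsScalarTower A K L] [IsScalarTower A B L]
    [Algebra.IsGeometricallyReduced (ResidueField A) (ResidueField B)]
    (htame : (Ideal.ramificationIdx' (maximalIdeal A) (maximalIdeal B) : ResidueField A) ≠ 0)
    [Algebra K K₁] [FiniteDimensional K K₁]
    [Algebra K M] [Algebra L M] [Algebra K₁ M] [IsScalarTower K L M] [IsScalarTower K K₁ M]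
    (hgen : Algebra.adjoin L (Set.range (algebraMap K₁ M)) = ⊤) (W : ValuationSubring M)
    (hW : EtRam.Dominates B ((algebraMap L M).comp (algebraMap B L)) W)
    (hA : ∀ a : A, (algebraMap K K₁) (algebraMap A K a) ∈ W.comap (algebraMap K₁ M))
    (hdvd : letI : Algebra A (W.comap (algebraMap K₁ M)) := (RingHom.codRestrict ((algebraMap K K₁).comp (algebraMap A K)) (W.comap (algebraMap K₁ M)) hA).toAlgebra
      Ideal.ramificationIdx' (maximalIdeal A) (maximalIdeal B) ∣
        Ideal.ramificationIdx' (maximalIdeal A) (maximalIdeal (W.comap (algebraMap K₁ M)))) :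
    letI : Algebra (W.comap (algebraMap K₁ M)) W := (EtRam.inclOfComap W (algebraMap K₁ M)).toAlgebra
    EtRam.IsWeaklyUnramified (W.comap (algebraMap K₁ M)) W ∧
      @Algebra.IsGeometricallyReduced (ResidueField (W.comap (algebraMap K₁ M))) (ResidueField W) _ _
        (IsLocalRing.ResidueField.map (EtRam.inclOfComap W (algebraMap K₁ M))).toAlgebra := by
  classical
  have hAM : (algebraMap L M).comp ((algebraMap B L).comp (algebraMap A B)) =
      (algebraMap K M).comp (algebraMap A K) := by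
    rw [← IsScalarTower.algebraMap_eq A B L, IsScalarTower.algebraMap_eq A K L, ← RingHom.comp_assoc,
      ← IsScalarTower.algebraMap_eq K L M]
  have hWA : EtRam.Dominates A ((algebraMap K M).comp (algebraMap A K)) W := by
    rw [← hAM]
    exact ⟨fun a ↦ hW.1 _, fun a ha ↦ hW.2 _ ((map_nonunit (algebraMap A B) a) ha)⟩
  obtain ⟨hV, -⟩ := ValTower.dominates_tower A K K₁ M W hWA
  let A₁ := W.comap (algebraMap K₁ M)
  haveI : FiniteDimensional L M := Module.Finite.of_surjective
    (Algebra.TensorProduct.lift (Algebra.ofId L M) (IsScalarTower.toAlgHom K K₁ M)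
      fun _ _ ↦ Commute.all _ _ : L ⊗[K] K₁ →ₐ[L] M).toLinearMap (surjective_lift K L K₁ M hgen)
  haveI : IsDiscreteValuationRing A₁ := isDVR A K K₁ A₁ hV
  haveI : IsDiscreteValuationRing W := isDVR B L M W hW
  letI : Algebra A₁ W := (EtRam.inclOfComap W (algebraMap K₁ M)).toAlgebra
  letI : Algebra B W := (((algebraMap L M).comp (algebraMap B L)).codRestrict W hW.1).toAlgebra
  letI : Algebra A A₁ := (((algebraMap K K₁).comp (algebraMap A K)).codRestrict A₁ hV.1).toAlgebra
  letI : Algebra A W := ((algebraMap B W).comp (algebraMap A B)).toAlgebra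
  letI : Algebra A K₁ := ((algebraMap K K₁).comp (algebraMap A K)).toAlgebra
  haveI : IsScalarTower A K K₁ := IsScalarTower.of_algebraMap_eq fun _ ↦ rfl
  haveI : IsScalarTower A A₁ K₁ := IsScalarTower.of_algebraMap_eq fun _ ↦ rfl
  haveI : IsScalarTower A B W := IsScalarTower.of_algebraMap_eq fun _ ↦ rfl
  haveI : IsScalarTower A A₁ W := IsScalarTower.of_algebraMap_eq fun a ↦ Subtype.ext <| by
    change algebraMap L M (algebraMap B L (algebraMap A B a)) = algebraMap K₁ M (algebraMap K K₁ (algebraMap A K a))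
    rw [← IsScalarTower.algebraMap_apply K K₁ M]
    exact RingHom.congr_fun hAM a
  haveI : IsLocalHom (algebraMap A A₁) := ValTower.isLocalHom_of_dominates A₁ hV
  haveI : IsLocalHom (algebraMap B W) := ValTower.isLocalHom_of_dominates W hW
  haveI : IsLocalHom (algebraMap A₁ W) := inferInstanceAs (IsLocalHom (EtRam.inclOfComap W (algebraMap K₁ M)))
  haveI : IsLocalHom (algebraMap A W) := RingHom.isLocalHom_comp (algebraMap B W) (algebraMap A B)
  haveI := ValTower.residue_tower A B W
  haveI := ValTower.residue_tower A A₁ W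
  haveI := residue_isAlgebraic A K K₁ A₁
  obtain ⟨π, hπ⟩ := IsDiscreteValuationRing.exists_irreducible A
  obtain ⟨π₁, hπ₁⟩ := IsDiscreteValuationRing.exists_irreducible A₁
  have hinj₁ : Function.Injective (algebraMap A₁ W) := fun a b h ↦
    Subtype.ext ((algebraMap K₁ M).injective (congrArg Subtype.val h))
  have hinjA : Function.Injective (algebraMap A A₁) := ValTower.algebraMap_injective_of_dominates A₁ hV
  obtain ⟨ϖ, hϖ⟩ := IsDiscreteValuationRing.exists_irreducible B
  obtain ⟨e, u, he, hu, hidx⟩ := exists_ramificationIdx hinj hπ hϖ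
  obtain ⟨e₁, u₁, he₁, hu₁, hidx₁⟩ := exists_ramificationIdx hinjA hπ hπ₁
  obtain ⟨d, rfl⟩ : e ∣ e₁ := by rw [← hidx, ← hidx₁]; exact hdvd
  rw [hidx] at htame
  have hd : 0 < d := Nat.pos_of_ne_zero (by rintro rfl; simp at he₁)
  set q : W := algebraMap A₁ W π₁ with hq
  have hq0 : q ≠ 0 := (map_ne_zero_iff _ hinj₁).2 hπ₁.ne_zero
  have hqM : (q : M) ≠ 0 := fun h ↦ hq0 (Subtype.ext h)
  set p : W := algebraMap B W ϖ with hp
  have heq : algebraMap B W (u : B) * p ^ e = algebraMap A₁ W (u₁ : A₁) * (q ^ d) ^ e := by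
    rw [← pow_mul, mul_comm d e, hp, hq, ← map_pow, ← map_mul, ← hu, ← map_pow, ← map_mul, ← hu₁,
      ← IsScalarTower.algebraMap_apply, ← IsScalarTower.algebraMap_apply]
  -- `z = ϖ / π₁ ^ d`, a root of a Kummer equation
  set zM : M := (p : M) / (q : M) ^ d with hzM
  have hzMe : zM ^ e = ((algebraMap B W (↑u⁻¹ : B) * algebraMap A₁ W (u₁ : A₁) : W) : M) := by
    rw [hzM, div_pow, div_eq_iff (pow_ne_zero _ (pow_ne_zero _ hqM)), ← SubmonoidClass.coe_pow,
      ← SubmonoidClass.coe_pow, ← SubmonoidClass.coe_pow, ← MulMemClass.coe_mul, mul_assoc, ← heq, ← mul_assoc,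
      ← map_mul, Units.inv_mul, map_one, one_mul]
  have hzW : zM ∈ W := by
    rw [← W.valuation_le_one_iff, ← pow_le_one_iff he.ne', ← map_pow, hzMe, W.valuation_le_one_iff]
    exact SetLike.coe_mem _
  set z : W := ⟨zM, hzW⟩ with hz
  have hze : z ^ e = algebraMap A₁ W (u₁ : A₁) * algebraMap B W (↑u⁻¹ : B) := by
    apply Subtype.ext
    rw [SubmonoidClass.coe_pow, mul_comm]
    exact hzMe
  have hpz : p = z * q ^ d := by
    apply Subtype.ext
    rw [MulMemClass.coe_mul, SubmonoidClass.coe_pow]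
    exact (div_mul_cancel₀ _ (pow_ne_zero _ hqM)).symm
  -- the two tensor products
  let Φ : A₁ ⊗[A] B →ₐ[A₁] W :=
    Algebra.TensorProduct.lift (Algebra.ofId A₁ W) (IsScalarTower.toAlgHom A B W) fun _ _ ↦ Commute.all _ _
  let θ : ResidueField A₁ ⊗[ResidueField A] ResidueField B →ₐ[ResidueField A₁] ResidueField W :=
    Algebra.TensorProduct.lift (Algebra.ofId _ _) (IsScalarTower.toAlgHom (ResidueField A) (ResidueField B) _)
      fun _ _ ↦ Commute.all _ _
  let P : A₁ ⊗[A] B →ₐ[A] ResidueField A₁ ⊗[A] ResidueField B :=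
    Algebra.TensorProduct.map (IsScalarTower.toAlgHom A A₁ (ResidueField A₁))
      (IsScalarTower.toAlgHom A B (ResidueField B))
  haveI : TensorProduct.CompatibleSMul A (ResidueField A) (ResidueField A₁) (ResidueField B) :=
    .of_algebraMap_surjective _ _ IsLocalRing.residue_surjective
  let e' := Algebra.TensorProduct.equivOfCompatibleSMul A (ResidueField A) A (ResidueField A₁) (ResidueField B)
  let ψ : A₁ ⊗[A] B →+* ResidueField A₁ ⊗[ResidueField A] ResidueField B := e'.symm.toRingHom.comp P.toRingHom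
  have hψs : Function.Surjective ψ := e'.symm.surjective.comp
    (Algebra.TensorProduct.map_surjective _ _ IsLocalRing.residue_surjective IsLocalRing.residue_surjective)
  have hψθ : ∀ x, θ (ψ x) = residue W (Φ x) := by
    intro x
    induction x using TensorProduct.induction_on with
    | zero => simp
    | add a b ha hb => simp only [map_add, ha, hb]
    | tmul a b =>
      change θ (residue A₁ a ⊗ₜ residue B b) = residue W (algebraMap A₁ W a * algebraMap B W b)
      rw [Algebra.TensorProduct.lift_tmul, map_mul]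
      rfl
  letI : Algebra (ResidueField B) (ResidueField A₁ ⊗[ResidueField A] ResidueField B) :=
    Algebra.TensorProduct.rightAlgebra
  haveI : IsScalarTower (ResidueField A) (ResidueField B) (ResidueField A₁ ⊗[ResidueField A] ResidueField B) :=
    Algebra.TensorProduct.right_isScalarTower
  haveI : Algebra.IsIntegral (ResidueField B) (ResidueField A₁ ⊗[ResidueField A] ResidueField B) := by
    refine ⟨fun z ↦ ?_⟩
    induction z using TensorProduct.induction_on with
    | zero => exact isIntegral_zero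
    | add a b ha hb => exact ha.add hb
    | tmul a b =>
      have ha : IsIntegral (ResidueField B) (a ⊗ₜ[ResidueField A] (1 : ResidueField B)) :=
        ((Algebra.IsAlgebraic.isAlgebraic (R := ResidueField A) a).isIntegral.map
          (Algebra.TensorProduct.includeLeft :
            ResidueField A₁ →ₐ[ResidueField A] ResidueField A₁ ⊗[ResidueField A] ResidueField B)).tower_top
      have hb : IsIntegral (ResidueField B) ((1 : ResidueField A₁) ⊗ₜ[ResidueField A] b) :=
        isIntegral_algebraMap (x := b)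
      simpa using ha.mul hb
  -- adjoining `z`
  let R := A₁ ⊗[A] B
  let cR : R := (u₁ : A₁) ⊗ₜ[A] (↑u⁻¹ : B)
  let Λ : R[X] →+* W := Polynomial.eval₂RingHom Φ.toRingHom z
  have hΦc : Φ cR = z ^ e := by rw [hze, Algebra.TensorProduct.lift_tmul]; rfl
  let S : Subalgebra A₁ W :=
    { Λ.range.toSubsemiring with
      algebraMap_mem' := fun a ↦ ⟨Polynomial.C (a ⊗ₜ[A] (1 : B)), by
        change Polynomial.eval₂ Φ.toRingHom z (Polynomial.C (a ⊗ₜ[A] (1 : B))) = algebraMap A₁ W a
        rw [Polynomial.eval₂_C]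
        change Φ (a ⊗ₜ[A] (1 : B)) = _
        simp [Φ]⟩ }
  have hΛS : ∀ g, Λ g ∈ S := fun g ↦ ⟨g, rfl⟩
  have hΦS : ∀ r, Φ r ∈ S := fun r ↦ ⟨Polynomial.C r, Polynomial.eval₂_C _ _⟩
  have hzS : z ∈ S := ⟨Polynomial.X, Polynomial.eval₂_X _ _⟩
  have hqS : q ∈ S := S.algebraMap_mem π₁
  -- the kernel maps into multiples of `π₁`
  let J : Ideal R := Ideal.span {π₁ ⊗ₜ[A] (1 : B), (1 : A₁) ⊗ₜ[A] ϖ}
  have hker : RingHom.ker ψ ≤ J := by
    intro x hx
    have hx' : x ∈ RingHom.ker P := by
      rw [RingHom.mem_ker] at hx ⊢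
      exact (map_eq_zero_iff e'.symm e'.symm.injective).1 hx
    rw [Algebra.TensorProduct.map_ker _ _ IsLocalRing.residue_surjective IsLocalRing.residue_surjective] at hx'
    refine SetLike.le_def.1 (sup_le ?_ ?_) hx'
    · rw [Ideal.map_le_iff_le_comap]
      intro a ha
      obtain ⟨c, rfl⟩ : π₁ ∣ a := by
        rw [← Ideal.mem_span_singleton, ← hπ₁.maximalIdeal_eq, ← residue_eq_zero_iff]; exact ha
      change (π₁ * c) ⊗ₜ[A] (1 : B) ∈ J
      rw [← mul_one (1 : B), ← Algebra.TensorProduct.tmul_mul_tmul]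
      exact Ideal.mul_mem_right _ _ (Ideal.subset_span (Set.mem_insert _ _))
    · rw [Ideal.map_le_iff_le_comap]
      intro b hb
      obtain ⟨c, rfl⟩ : ϖ ∣ b := by
        rw [← Ideal.mem_span_singleton, ← hϖ.maximalIdeal_eq, ← residue_eq_zero_iff]; exact hb
      change (1 : A₁) ⊗ₜ[A] (ϖ * c) ∈ J
      rw [← mul_one (1 : A₁), ← Algebra.TensorProduct.tmul_mul_tmul]
      exact Ideal.mul_mem_right _ _ (Ideal.subset_span (Set.mem_insert_of_mem _ rfl))
  have hkerS : ∀ r ∈ RingHom.ker ψ, ∃ s ∈ S, Φ r = s * q := by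
    intro r hr
    obtain ⟨a, b, rfl⟩ := Ideal.mem_span_pair.1 (hker hr)
    refine ⟨Φ a + Φ b * (z * q ^ (d - 1)),
      add_mem (hΦS a) (mul_mem (hΦS b) (mul_mem hzS (pow_mem hqS _))), ?_⟩
    have h1 : Φ (π₁ ⊗ₜ[A] (1 : B)) = q := by simp [Φ, hq]
    have h2 : Φ ((1 : A₁) ⊗ₜ[A] ϖ) = z * q ^ d := by
      rw [← hpz, Algebra.TensorProduct.lift_tmul, map_one, one_mul]; rfl
    obtain ⟨d, rfl⟩ : ∃ k, d = k + 1 := ⟨d - 1, by omega⟩
    rw [map_add, map_mul, map_mul, h1, h2, Nat.add_sub_cancel, pow_succ]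
    ring
  let Q := ResidueField A₁ ⊗[ResidueField A] ResidueField B
  let c : Q := ψ cR
  have hcu : IsUnit c := ((u₁.isUnit.map (Algebra.TensorProduct.includeLeft : A₁ →ₐ[A] R)).mul
    (u⁻¹.isUnit.map (Algebra.TensorProduct.includeRight : B →ₐ[A] R))).map ψ |> fun h ↦ by
      simpa [c, cR] using h
  have heu : IsUnit (e : Q) := by
    have := (IsUnit.mk0 _ htame).map (algebraMap (ResidueField A) Q)
    rwa [map_natCast] at this
  haveI : IsReduced (AdjoinRoot (Polynomial.X ^ e - Polynomial.C c)) := TameAux.isReduced_adjoinRoot he heu hcu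
  have hmon : (Polynomial.X ^ e - Polynomial.C c : Q[X]).Monic := Polynomial.monic_X_pow_sub_C c he.ne'
  haveI : Module.Finite Q (AdjoinRoot (Polynomial.X ^ e - Polynomial.C c)) := hmon.finite_adjoinRoot
  haveI : Algebra.IsIntegral (ResidueField B) (AdjoinRoot (Polynomial.X ^ e - Polynomial.C c)) :=
    Algebra.IsIntegral.trans (A := Q)
  have hreg : ∀ a ∈ S, ∃ b ∈ S, ∃ r ∈ S, a - a * a * b = r * algebraMap A₁ W π₁ := by
    rintro _ ⟨g, rfl⟩
    obtain ⟨b, hb⟩ := CAlgA.VNR.exists_sq_mul (k := ResidueField B)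
      (AdjoinRoot.mk (Polynomial.X ^ e - Polynomial.C c) (g.map ψ))
    obtain ⟨b, rfl⟩ := AdjoinRoot.mk_surjective b
    obtain ⟨b, rfl⟩ := Polynomial.map_surjective ψ hψs b
    rw [← map_mul, ← map_mul, ← sub_eq_zero, ← map_sub, AdjoinRoot.mk_eq_zero, ← Polynomial.map_mul,
      ← Polynomial.map_mul, ← Polynomial.map_sub] at hb
    obtain ⟨h, hh⟩ := hb
    obtain ⟨h, rfl⟩ := Polynomial.map_surjective ψ hψs h
    set D : R[X] := g - g * g * b - (Polynomial.X ^ e - Polynomial.C cR) * h with hD
    have hD0 : D.map ψ = 0 := by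
      rw [hD, Polynomial.map_sub, hh, Polynomial.map_mul, Polynomial.map_sub (p := Polynomial.X ^ e), Polynomial.map_pow,
        Polynomial.map_X, Polynomial.map_C, sub_self]
    have hDS : ∃ s ∈ S, Λ D = s * q := by
      have hco : ∀ i, ∃ s ∈ S, Φ (D.coeff i) = s * q := fun i ↦ hkerS _ (by
        rw [RingHom.mem_ker, ← Polynomial.coeff_map, hD0, Polynomial.coeff_zero])
      choose s hs hsq using hco
      refine ⟨∑ i ∈ D.support, s i * z ^ i, sum_mem fun i _ ↦ mul_mem (hs i) (pow_mem hzS i), ?_⟩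
      change Polynomial.eval₂ Φ.toRingHom z D = _
      rw [Polynomial.eval₂_eq_sum, Polynomial.sum_def, Finset.sum_mul]
      refine Finset.sum_congr rfl fun i _ ↦ ?_
      change Φ (D.coeff i) * z ^ i = _
      rw [hsq i]; ring
    obtain ⟨s, hs, hsD⟩ := hDS
    have hzero : Λ (Polynomial.X ^ e - Polynomial.C cR) = 0 := by
      simp only [Λ, Polynomial.coe_eval₂RingHom, Polynomial.eval₂_sub, Polynomial.eval₂_pow, Polynomial.eval₂_X,
        Polynomial.eval₂_C]
      exact sub_eq_zero.2 hΦc.symm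
    refine ⟨Λ b, hΛS b, s, hs, ?_⟩
    have e1 : Λ D = Λ g - Λ g * Λ g * Λ b - Λ (Polynomial.X ^ e - Polynomial.C cR) * Λ h := by
      simp only [hD, Λ, Polynomial.coe_eval₂RingHom, Polynomial.eval₂_sub, Polynomial.eval₂_mul]
    rw [e1, hzero, zero_mul, sub_zero] at hsD
    exact hsD
  have hfrac := exists_quot (B := B) (L := L) hgen W S (fun x hx ↦ ⟨_, hΦS ((⟨x, hx⟩ : A₁) ⊗ₜ 1), by
      simp [Φ]; rfl⟩) (fun b ↦ ⟨_, hΦS (1 ⊗ₜ b), by simp [Φ]; rfl⟩)
  obtain ⟨hweak, hsurjW⟩ := criterion W hinj₁ hπ₁ S hfrac hreg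
  refine ⟨hweak, ?_⟩
  suffices hg : Algebra.IsGeometricallyReduced (ResidueField A₁) (ResidueField W) by
    convert hg using 1
    refine Algebra.algebra_ext _ _ fun x ↦ ?_
    obtain ⟨x, rfl⟩ := IsLocalRing.residue_surjective x
    rfl
  -- the residue field is a separable extension of the image of `Q`
  let k' : IntermediateField (ResidueField A₁) (ResidueField W) :=
    θ.range.toIntermediateField fun x ⟨a, hax⟩ ↦ by
      subst hax
      obtain ⟨b, hb⟩ := CAlgA.VNR.exists_sq_mul (k := ResidueField B) a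
      rcases eq_or_ne (θ a) 0 with h0 | h0
      · change (θ a)⁻¹ ∈ θ.range
        rw [h0, inv_zero]; exact zero_mem _
      · refine ⟨b, eq_inv_of_mul_eq_one_right (mul_left_cancel₀ h0 ?_)⟩
        change θ a * (θ a * θ b) = θ a * 1
        rw [← mul_assoc, ← map_mul, ← map_mul, ← hb, mul_one]
  have hk' : ∀ a, θ a ∈ k' := fun a ↦ ⟨a, rfl⟩
  haveI : Algebra.IsGeometricallyReduced (ResidueField A₁) k' := by
    letI : Algebra (ResidueField B) k' := ((algebraMap (ResidueField B) (ResidueField W)).codRestrict k'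
      fun b ↦ (show algebraMap (ResidueField B) (ResidueField W) b ∈ θ.range from ⟨1 ⊗ₜ b, by simp [θ]⟩)).toAlgebra
    haveI : IsScalarTower (ResidueField A) (ResidueField B) k' := IsScalarTower.of_algebraMap_eq fun a ↦
      Subtype.ext (by
        change algebraMap k' (ResidueField W) (algebraMap (ResidueField A) k' a) =
          algebraMap (ResidueField B) (ResidueField W) (algebraMap (ResidueField A) (ResidueField B) a)
        rw [IsScalarTower.algebraMap_apply (ResidueField A) (ResidueField A₁) k',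
          ← IsScalarTower.algebraMap_apply (ResidueField A₁) k' (ResidueField W),
          ← IsScalarTower.algebraMap_apply, ← IsScalarTower.algebraMap_apply])
    refine geometricallyReduced_of_surjective (κ := ResidueField A) (κB := ResidueField B) fun x ↦ ?_
    obtain ⟨a, ha⟩ := x.2
    refine ⟨a, Subtype.ext ?_⟩
    rw [← ha]
    clear ha
    induction a using TensorProduct.induction_on with
    | zero => simp
    | add a b ha hb => rw [map_add, map_add, AddMemClass.coe_add, ha, hb]
    | tmul a b => simp only [Algebra.TensorProduct.lift_tmul, θ]; rfl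
  set zb : ResidueField W := residue W z with hzb
  have hzbe : zb ^ e = θ c := by rw [hzb, ← map_pow, ← hΦc, ← hψθ]
  have hsep : IsSeparable k' zb := by
    let c' : k' := ⟨θ c, hk' c⟩
    have hroot : Polynomial.aeval zb (Polynomial.X ^ e - Polynomial.C c' : k'[X]) = 0 := by
      rw [map_sub, map_pow, Polynomial.aeval_X, Polynomial.aeval_C, hzbe]
      exact sub_self _
    refine Polynomial.Separable.of_dvd (Polynomial.separable_X_pow_sub_C c' ?_ ?_) (minpoly.dvd k' zb hroot)
    · intro h
      have h2 : (e : ResidueField W) = 0 := by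
        have := congrArg (algebraMap k' (ResidueField W)) h
        rwa [map_natCast, map_zero] at this
      exact htame ((algebraMap (ResidueField A) (ResidueField W)).injective (by rw [map_natCast, h2, map_zero]))
    · exact fun h ↦ (hcu.map θ).ne_zero (congrArg Subtype.val h)
  have hgenW : IntermediateField.adjoin k' ({zb} : Set (ResidueField W)) = ⊤ := by
    rw [eq_top_iff]
    intro x hx0
    clear hx0
    obtain ⟨_, ⟨g, rfl⟩, rfl⟩ := hsurjW x
    change residue W (Polynomial.eval₂ Φ.toRingHom z g) ∈ _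
    rw [Polynomial.eval₂_eq_sum, Polynomial.sum_def, map_sum]
    refine sum_mem fun i _ ↦ ?_
    rw [map_mul, map_pow]
    refine mul_mem ?_ (pow_mem (IntermediateField.mem_adjoin_simple_self _ _) i)
    change residue W (Φ (g.coeff i)) ∈ _
    rw [← hψθ]
    exact IntermediateField.algebraMap_mem _ (⟨_, hk' _⟩ : k')
  haveI : Algebra.IsSeparable k' (ResidueField W) := by
    have h1 : Algebra.IsSeparable k' (IntermediateField.adjoin k' ({zb} : Set (ResidueField W))) :=
      (IntermediateField.isSeparable_adjoin_simple_iff_isSeparable k' (ResidueField W)).2 hsep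
    rw [hgenW] at h1
    exact Algebra.IsSeparable.of_algHom k' _ IntermediateField.topEquiv.symm.toAlgHom
  exact TameAux.geometricallyReduced_trans (k' := k')

end Groth.Agent.EtRamLib.Tame
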