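import Mathlib
import Groth.Prelude.Def_EtRam
import Groth.Agent.EtRamLib.Solution

/-!
# Totally ramified separable extensions are generated by the powers of a uniformizer
-/

set_option autoImplicit false
universe u

open IsLocalRing

namespace Groth.Agent.EtRamLib.TotRam

theorem exists_spanning (A K K₁ : Type u) [CommRing A] [IsDomain A] [IsDiscreteValuationRing A] [Field K]
    [Algebra A K] [IsFractionRing A K] [Field K₁] [Algebra K K₁] [FiniteDimensional K K₁] [Algebra.IsSeparable K K₁]
    (V : ValuationSubring K₁) (hV : EtRam.Dominates A ((algebraMap K K₁).comp (algebraMap A K)) V)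
    (ht : EtRam.IsTotallyRamified A ((algebraMap K K₁).comp (algebraMap A K)))
    {π : A} (hπ : Irreducible π) :
    ∃ (π₁ : V) (e : ℕ) (u : Vˣ), Irreducible π₁ ∧
      (algebraMap K K₁ (algebraMap A K π) = (u : V) * (π₁ : K₁) ^ e) ∧
      Submodule.span K (Set.range fun i : Fin e ↦ (π₁ : K₁) ^ (i : ℕ)) = ⊤ := by
  classical
  letI : Algebra A K₁ := ((algebraMap K K₁).comp (algebraMap A K)).toAlgebra
  haveI : IsScalarTower A K K₁ := IsScalarTower.of_algebraMap_eq fun _ ↦ rfl
  letI : Algebra A V := (((algebraMap K K₁).comp (algebraMap A K)).codRestrict V hV.1).toAlgebra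
  haveI : IsScalarTower A V K₁ := IsScalarTower.of_algebraMap_eq fun _ ↦ rfl
  haveI : IsDiscreteValuationRing V := Solution.isDVR A K K₁ V hV
  obtain ⟨π₁, hπ₁⟩ := IsDiscreteValuationRing.exists_irreducible V
  have hπ0 : algebraMap A V π ≠ 0 := fun h ↦ hπ.ne_zero (IsFractionRing.injective A K
    ((algebraMap K K₁).injective (by rw [map_zero, map_zero]; exact congrArg Subtype.val h)))
  obtain ⟨e, u, hu⟩ := IsDiscreteValuationRing.eq_unit_mul_pow_irreducible hπ0 hπ₁
  refine ⟨π₁, e, u, hπ₁, congrArg Subtype.val hu, ?_⟩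
  -- `V` is integral over `A`
  have hint : ∀ x ∈ V, IsIntegral A x := by
    intro x hx
    by_contra hni
    let S : Subring K₁ := (integralClosure A K₁).toSubring
    haveI : IsIntegrallyClosedIn S K₁ := by
      letI : Algebra A S := inferInstanceAs (Algebra A (integralClosure A K₁))
      rw [Subring.isIntegrallyClosedIn_iff]
      intro y hy
      exact isIntegral_trans (R := A) (A := integralClosure A K₁) y hy
    obtain ⟨V', hV', hxV'⟩ := S.exists_le_valuationSubring_of_isIntegrallyClosedIn (x := x) hni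
    have hA' : ∀ a : A, algebraMap A K₁ a ∈ V' := fun a ↦ hV' ((integralClosure A K₁).algebraMap_mem a)
    by_cases hdom : ∀ a ∈ maximalIdeal A, V'.valuation (algebraMap A K₁ a) < 1
    · exact hxV' (ht.2.1 V V' hV ⟨hA', hdom⟩ ▸ hx)
    · push Not at hdom
      obtain ⟨a, ha, hav⟩ := hdom
      refine hxV' (ValTower.mem_of_isIntegral (A := K) V' (fun c ↦ ?_) (IsIntegral.of_finite K x))
      obtain ⟨b, c', hc', rfl⟩ := IsFractionRing.div_surjective A c
      have hbV := hA' b
      obtain ⟨k, v, hv⟩ := IsDiscreteValuationRing.eq_unit_mul_pow_irreducible (nonZeroDivisors.ne_zero hc') hπ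
      have hπV : 1 ≤ V'.valuation (algebraMap A K₁ π) := by
        obtain ⟨d, rfl⟩ : π ∣ a := by rw [← Ideal.mem_span_singleton, ← hπ.maximalIdeal_eq]; exact ha
        rw [map_mul, map_mul] at hav
        exact hav.trans (mul_le_of_le_one_right' ((V'.valuation_le_one_iff _).2 (hA' d)))
      have hv1 : 1 ≤ V'.valuation (algebraMap A K₁ (v : A)) := by
        have h1 : V'.valuation (algebraMap A K₁ (v : A)) * V'.valuation (algebraMap A K₁ (↑v⁻¹ : A)) = 1 := by
          rw [← map_mul, ← map_mul, Units.mul_inv, map_one, map_one]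
        exact h1 ▸ mul_le_of_le_one_right' ((V'.valuation_le_one_iff _).2 (hA' _))
      rw [← V'.valuation_le_one_iff, map_div₀, ← IsScalarTower.algebraMap_apply, ← IsScalarTower.algebraMap_apply,
        map_div₀, hv, map_mul, map_mul, map_pow, map_pow]
      refine (div_le_one₀ (lt_of_lt_of_le zero_lt_one (one_le_mul hv1 (one_le_pow₀ hπV)))).2 ?_
      exact ((V'.valuation_le_one_iff _).2 hbV).trans (one_le_mul hv1 (one_le_pow₀ hπV))
  let C := integralClosure A K₁
  haveI : Module.Finite A C := IsIntegralClosure.finite A K K₁ C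
  let p₁ : C := ⟨(π₁ : K₁), hint _ π₁.2⟩
  set N : Submodule A C := Submodule.span A (Set.range fun i : Fin e ↦ p₁ ^ (i : ℕ))
  -- expansion in powers of `π₁`
  have hexp : ∀ j ≤ e, ∀ v : V, ∃ n ∈ N, ∃ v' : V, (v : K₁) = (n : C) + (π₁ : K₁) ^ j * v' := by
    intro j
    induction j with
    | zero => exact fun _ v ↦ ⟨0, zero_mem _, v, by simp⟩
    | succ j ih =>
      intro hj v
      obtain ⟨n, hn, v', hv'⟩ := ih (by omega) v
      obtain ⟨a, ha⟩ := ht.2.2 V hV (residue V v')
      obtain ⟨w, hw⟩ : π₁ ∣ v' - algebraMap A V a := by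
        rw [← Ideal.mem_span_singleton, ← hπ₁.maximalIdeal_eq, ← residue_eq_zero_iff, map_sub, sub_eq_zero]
        exact ha.symm
      refine ⟨n + a • p₁ ^ j, add_mem hn (Submodule.smul_mem _ _ (Submodule.subset_span ⟨⟨j, by omega⟩, rfl⟩)), w, ?_⟩
      have hw' : (v' : K₁) = algebraMap A K₁ a + (π₁ : K₁) * w := by
        have := congrArg Subtype.val hw
        simp only [AddSubgroupClass.coe_sub, MulMemClass.coe_mul] at this
        rw [← this]
        change _ = algebraMap A K₁ a + ((v' : K₁) - algebraMap A K₁ a)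
        ring
      rw [hv', hw', AddMemClass.coe_add, SetLike.val_smul, Algebra.smul_def, SubmonoidClass.coe_pow]
      change _ = (n : K₁) + algebraMap A K₁ a * (π₁ : K₁) ^ j + _
      ring
  have htop : (⊤ : Submodule A C) ≤ N := by
    refine Submodule.le_of_le_smul_of_le_jacobson_bot Module.Finite.fg_top
      (IsLocalRing.maximalIdeal_le_jacobson (R := A) ⊥) fun c _ ↦ ?_
    have hcV : (c : K₁) ∈ V := ValTower.mem_of_isIntegral V hV.1 c.2
    obtain ⟨n, hn, v', hv'⟩ := hexp e le_rfl ⟨c, hcV⟩
    refine Submodule.mem_sup.2 ⟨n, hn, π • (⟨_, hint _ ((↑u⁻¹ : V) * v').2⟩ : C),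
      Submodule.smul_mem_smul (hπ.maximalIdeal_eq ▸ Ideal.mem_span_singleton_self π) Submodule.mem_top, ?_⟩
    apply Subtype.ext
    rw [AddMemClass.coe_add, SetLike.val_smul, Algebra.smul_def]
    change (n : K₁) + algebraMap A K₁ π * (((↑u⁻¹ : V) * v' : V) : K₁) = c
    have hu' : algebraMap A K₁ π = ((u : V) : K₁) * (π₁ : K₁) ^ e := congrArg Subtype.val hu
    have huu : ((u : V) : K₁) * ((↑u⁻¹ : V) : K₁) = 1 := congrArg Subtype.val (Units.mul_inv u)
    change (c : K₁) = _ at hv'
    rw [hu', MulMemClass.coe_mul, hv']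
    linear_combination ((π₁ : K₁) ^ e * v') * huu
  rw [eq_top_iff]
  intro x _
  have hC : ∀ c : C, (c : K₁) ∈ Submodule.span K (Set.range fun i : Fin e ↦ (π₁ : K₁) ^ (i : ℕ)) := by
    intro c
    have hc : c ∈ N := htop Submodule.mem_top
    induction hc using Submodule.span_induction with
    | mem y hy =>
      obtain ⟨i, rfl⟩ := hy
      exact Submodule.subset_span ⟨i, rfl⟩
    | zero => exact zero_mem _
    | add y z _ _ hy hz => exact add_mem hy hz
    | smul a y _ hy =>
      rw [SetLike.val_smul, ← algebraMap_smul K a (y : K₁)]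
      exact Submodule.smul_mem _ _ hy
  haveI : Algebra.IsAlgebraic K K₁ := Algebra.IsAlgebraic.of_finite K K₁
  obtain ⟨m, hm⟩ := IsIntegral.exists_multiple_integral_of_isLocalization (nonZeroDivisors A) x
    (IsIntegral.of_finite K x)
  have hmK : algebraMap A K (m : A) ≠ 0 :=
    (map_ne_zero_iff _ (IsFractionRing.injective A K)).2 (nonZeroDivisors.coe_ne_zero m)
  have hx : x = (algebraMap A K (m : A))⁻¹ • ((⟨_, hm⟩ : C) : K₁) := by
    change x = (algebraMap A K (m : A))⁻¹ • ((m : A) • x)
    rw [← algebraMap_smul K (m : A) x, inv_smul_smul₀ hmK]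
  rw [hx]
  exact Submodule.smul_mem _ _ (hC _)

end Groth.Agent.EtRamLib.TotRam
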