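import Mathlib

/-!
# Trivial inertia in a finite group of automorphisms of a local ring

`S = R[b]` and `m S = n` with separable residue field when the inertia is trivial, and conversely.
-/

namespace Groth.Agent.EtRamLib.TrivialInertia

open Polynomial IsLocalRing
open scoped Pointwise

universe u

/-- A finite group acting faithfully on a field fixes some element only trivially. -/
theorem exists_trivial_stabilizer (F G : Type*) [Field F] [Group G] [Finite G]
    [MulSemiringAction G F] [FaithfulSMul G F] : ∃ x : F, ∀ g : G, g • x = x → g = 1 := by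
  cases nonempty_fintype G
  obtain ⟨x, hx⟩ := Field.exists_primitive_element (FixedPoints.subfield G F) F
  refine ⟨x, fun g hg ↦ eq_of_smul_eq_smul fun y : F ↦ ?_⟩
  have halg : Algebra.adjoin (FixedPoints.subfield G F) {x} = ⊤ := by
    rw [← IntermediateField.adjoin_simple_toSubalgebra_of_isAlgebraic
      (Algebra.IsAlgebraic.isAlgebraic x), hx, IntermediateField.top_toSubalgebra]
  have := AlgHom.ext_of_adjoin_eq_top halg (φ₁ := MulSemiringAction.toAlgHom (FixedPoints.subfield G F) F g)
    (φ₂ := AlgHom.id _ _) (by rintro z (rfl : z = x); simpa using hg)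
  rw [one_smul]
  exact congr($this y)

variable {R S : Type u} [CommRing R] [CommRing S] [Algebra R S]
  {G : Type u} [Group G] [MulSemiringAction G S]

/-- The Euler element of `b` multiplies `S` into `R[b]`. -/
theorem mul_prod_sub_mem_adjoin [Fintype G] [DecidableEq G] [Algebra.IsInvariant R S G] (b x : S) :
    x * ∏ τ ∈ Finset.univ.erase (1 : G), (b - τ • b) ∈ Algebra.adjoin R {b} := by
  let P : S[X] := ∑ σ : G, C (σ • x) * ∏ τ ∈ Finset.univ.erase σ, (X - C (τ • b))
  have hP : ∀ ρ : G, ρ • P = P := by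
    intro ρ
    simp only [P, Finset.smul_sum, smul_mul', smul_C, smul_smul, Finset.smul_prod', smul_sub, smul_X]
    refine Fintype.sum_equiv (Equiv.mulLeft ρ) _ _ fun σ ↦ ?_
    rw [Equiv.coe_mulLeft]
    congr 1
    refine Finset.prod_equiv (Equiv.mulLeft ρ) (fun τ ↦ ?_) (fun τ _ ↦ ?_)
    · simp
    · rfl
  have hlift : P ∈ lifts (algebraMap R S) := by
    rw [lifts_iff_coeff_lifts]
    intro i
    exact Algebra.IsInvariant.isInvariant (G := G) _ fun ρ ↦ by
      rw [← coeff_smul, hP]
  obtain ⟨Q, hQ⟩ := (mem_lifts _).1 hlift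
  rw [Algebra.adjoin_singleton_eq_range_aeval]
  refine ⟨Q, ?_⟩
  change aeval b Q = _
  rw [aeval_def, ← eval_map, hQ, eval_finsetSum, Finset.sum_eq_single (1 : G)]
  · simp [eval_prod]
  · intro σ _ hσ
    rw [eval_mul, eval_prod, Finset.prod_eq_zero (i := (1 : G)) (by simp [hσ.symm]) (by simp), mul_zero]
  · simp

variable [IsLocalRing R] [IsLocalRing S]
  [(maximalIdeal S).LiesOver (maximalIdeal R)]

theorem smul_maximalIdeal (g : G) : g • maximalIdeal S = maximalIdeal S := by
  refine IsLocalRing.eq_maximalIdeal ?_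
  rw [Ideal.pointwise_smul_def]
  exact Ideal.map_isMaximal_of_equiv (MulSemiringAction.toRingEquiv G S g)

/-- Trivial inertia at the closed point: unramified. -/
theorem unramified_of_inertia_eq_bot [Finite G] [FaithfulSMul R S] [SMulCommClass G R S]
    [Algebra.IsInvariant R S G] (h : (maximalIdeal S).toAddSubgroup.inertia G = ⊥) :
    (maximalIdeal R).map (algebraMap R S) = maximalIdeal S ∧
      Module.Finite (R ⧸ maximalIdeal R) (S ⧸ maximalIdeal S) ∧
      Algebra.IsSeparable (R ⧸ maximalIdeal R) (S ⧸ maximalIdeal S) := by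
  classical
  cases nonempty_fintype G
  haveI : Algebra.IsIntegral R S := Algebra.IsInvariant.isIntegral R S G
  letI : Field (R ⧸ maximalIdeal R) := Ideal.Quotient.field _
  letI : Field (S ⧸ maximalIdeal S) := Ideal.Quotient.field _
  have hstab : ∀ g : G, g ∈ MulAction.stabilizer G (maximalIdeal S) := smul_maximalIdeal
  let Φ : G →* ((S ⧸ maximalIdeal S) ≃ₐ[R ⧸ maximalIdeal R] (S ⧸ maximalIdeal S)) :=
    (Ideal.Quotient.stabilizerHom (maximalIdeal S) (maximalIdeal R) G).comp
      ((MonoidHom.id G).codRestrict _ hstab)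
  have hΦ : ∀ (g : G) (s : S), Φ g (Ideal.Quotient.mk _ s) = Ideal.Quotient.mk _ (g • s) :=
    fun g s ↦ rfl
  have hker : ∀ g : G, (∀ y, Φ g y = y) → g = 1 := by
    intro g hg
    have : g ∈ (maximalIdeal S).toAddSubgroup.inertia G := fun s ↦ by
      have := hg (Ideal.Quotient.mk _ s)
      rw [hΦ] at this
      exact Ideal.Quotient.eq.1 this
    rwa [h, Subgroup.mem_bot] at this
  obtain ⟨xb, hxb⟩ := exists_trivial_stabilizer (S ⧸ maximalIdeal S) Φ.range
  obtain ⟨b, rfl⟩ := Ideal.Quotient.mk_surjective xb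
  have hfix : ∀ g : G, Φ g (Ideal.Quotient.mk _ b) = Ideal.Quotient.mk _ b → g = 1 := by
    intro g hg
    have := hxb ⟨Φ g, g, rfl⟩ hg
    refine hker g fun y ↦ ?_
    have h2 : Φ g = 1 := congrArg Subtype.val this
    rw [h2]; rfl
  have hinj : Function.Injective fun g : G ↦ Φ g (Ideal.Quotient.mk _ b) := by
    intro g g' hgg'
    have : Φ (g⁻¹ * g') (Ideal.Quotient.mk _ b) = Ideal.Quotient.mk _ b := by
      simp only at hgg'
      rw [map_mul, map_inv, AlgEquiv.mul_apply, ← hgg', AlgEquiv.aut_inv, AlgEquiv.symm_apply_apply]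
    exact inv_mul_eq_one.1 (hfix _ this)
  -- `S = R[b]`
  set u := ∏ τ ∈ Finset.univ.erase (1 : G), (b - τ • b) with hu
  have hunit : IsUnit u := by
    rw [hu]
    refine IsUnit.prod_iff.2 fun τ hτ ↦ ?_
    by_contra hnu
    refine (Finset.mem_erase.1 hτ).1 (hfix τ ?_)
    rw [hΦ, eq_comm, Ideal.Quotient.eq]
    exact (IsLocalRing.mem_maximalIdeal _).2 hnu
  have hadj : Algebra.adjoin R {b} = ⊤ := by
    set T := Algebra.adjoin R {b}
    have humem : u ∈ T := by simpa [u] using mul_prod_sub_mem_adjoin (G := G) (R := R) b 1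
    haveI : Algebra.IsIntegral T S := Algebra.IsIntegral.tower_top R
    haveI : FaithfulSMul T S :=
      (faithfulSMul_iff_algebraMap_injective T S).2 Subtype.val_injective
    have hloc : IsLocalHom (algebraMap T S) :=
      RingHom.IsIntegral.isLocalHom (Algebra.IsIntegral.isIntegral) Subtype.val_injective
    obtain ⟨v, hv⟩ := (hloc.map_nonunit ⟨u, humem⟩ hunit)
    refine eq_top_iff.2 fun x _ ↦ ?_
    have hmem := mul_prod_sub_mem_adjoin (G := G) (R := R) b x
    rw [← hu] at hmem
    have h1 : ((v : T) : S) * ((↑v⁻¹ : T) : S) = 1 := by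
      rw [← Subalgebra.coe_mul, Units.mul_inv]; rfl
    have hvu : ((v : T) : S) = u := congrArg Subtype.val hv
    rw [hvu] at h1
    have : x = x * u * ((↑v⁻¹ : T) : S) := by rw [mul_assoc, h1, mul_one]
    rw [this]
    exact mul_mem hmem (↑v⁻¹ : T).2
  -- the minimal polynomial of the residue of `b`
  set F : S[X] := MulSemiringAction.charpoly G b with hF
  obtain ⟨F₀, hF₀, hdeg₀, hF₀m⟩ := lifts_and_degree_eq_and_monic
    (Algebra.IsInvariant.charpoly_mem_lifts R S G b) (MulSemiringAction.monic_charpoly G b)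
  set Fb := F₀.map (Ideal.Quotient.mk (maximalIdeal R)) with hFb
  have hFbm : Fb.Monic := hF₀m.map _
  have hcomp : (algebraMap (R ⧸ maximalIdeal R) (S ⧸ maximalIdeal S)).comp
      (Ideal.Quotient.mk (maximalIdeal R)) = (Ideal.Quotient.mk (maximalIdeal S)).comp (algebraMap R S) :=
    RingHom.ext fun r ↦ rfl
  have hFbmap : Fb.map (algebraMap (R ⧸ maximalIdeal R) (S ⧸ maximalIdeal S)) =
      ∏ g : G, (X - C (Φ g (Ideal.Quotient.mk _ b))) := by
    rw [hFb, Polynomial.map_map, hcomp, ← Polynomial.map_map, hF₀, MulSemiringAction.charpoly_eq,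
      Polynomial.map_prod]
    simp [hΦ]
  have hroot : aeval (Ideal.Quotient.mk (maximalIdeal S) b) Fb = 0 := by
    rw [aeval_def, ← eval_map, hFbmap, eval_prod]
    exact Finset.prod_eq_zero (Finset.mem_univ 1) (by simp)
  have hFbdeg : Fb.natDegree = Nat.card G := by
    rw [← hFbm.natDegree_map (algebraMap (R ⧸ maximalIdeal R) (S ⧸ maximalIdeal S)), hFbmap,
      natDegree_finsetProd_X_sub_C_eq_card, Finset.card_univ, Nat.card_eq_fintype_card]
  set xb := Ideal.Quotient.mk (maximalIdeal S) b with hxbdef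
  have hxi : IsIntegral (R ⧸ maximalIdeal R) xb := ⟨Fb, hFbm, hroot⟩
  have hmin : Fb = minpoly _ xb := by
    refine eq_of_monic_of_dvd_of_natDegree_le (minpoly.monic hxi) hFbm (minpoly.dvd _ _ hroot) ?_
    rw [hFbdeg]
    have hne := (minpoly.monic hxi).map (algebraMap (R ⧸ maximalIdeal R) (S ⧸ maximalIdeal S))
    calc Nat.card G = (Finset.univ.image fun g : G ↦ Φ g xb).card := by
          rw [Finset.card_image_of_injective _ hinj, Finset.card_univ, Nat.card_eq_fintype_card]
      _ ≤ ((minpoly (R ⧸ maximalIdeal R) xb).aroots (S ⧸ maximalIdeal S)).toFinset.card := by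
          refine Finset.card_le_card fun y hy ↦ ?_
          obtain ⟨g, -, rfl⟩ := Finset.mem_image.1 hy
          rw [Multiset.mem_toFinset, mem_aroots]
          exact ⟨minpoly.ne_zero hxi, by rw [aeval_algHom_apply, minpoly.aeval, map_zero]⟩
      _ ≤ _ := (Multiset.toFinset_card_le _).trans ((card_roots' _).trans natDegree_map_le)
  have hsep : IsSeparable (R ⧸ maximalIdeal R) xb := by
    rw [IsSeparable, ← hmin, ← separable_map (algebraMap (R ⧸ maximalIdeal R) (S ⧸ maximalIdeal S)),
      hFbmap]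
    exact separable_prod_X_sub_C_iff.2 hinj
  have hev : ∀ P : R[X], Ideal.Quotient.mk (maximalIdeal S) (aeval b P) =
      aeval xb (P.map (Ideal.Quotient.mk (maximalIdeal R))) := fun P ↦ by
    rw [aeval_def, aeval_def, hom_eval₂, eval₂_map, hcomp]
  have hgen : IntermediateField.adjoin (R ⧸ maximalIdeal R) {xb} = ⊤ := by
    refine eq_top_iff.2 fun y _ ↦ ?_
    obtain ⟨s, rfl⟩ := Ideal.Quotient.mk_surjective y
    have : s ∈ Algebra.adjoin R {b} := hadj ▸ Algebra.mem_top
    rw [Algebra.adjoin_singleton_eq_range_aeval] at this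
    obtain ⟨P, rfl⟩ := this
    change Ideal.Quotient.mk _ (aeval b P) ∈ _
    rw [hev]
    exact IntermediateField.algebra_adjoin_le_adjoin _ _ (aeval_mem_adjoin_singleton _ _)
  refine ⟨le_antisymm ?_ ?_, ?_, ?_⟩
  · rw [Ideal.map_le_iff_le_comap]
    exact (Ideal.LiesOver.over (P := maximalIdeal S) (p := maximalIdeal R)).le
  · intro s hs
    have hmem : s ∈ Algebra.adjoin R {b} := hadj ▸ Algebra.mem_top
    rw [Algebra.adjoin_singleton_eq_range_aeval] at hmem
    obtain ⟨P, rfl⟩ := hmem
    change aeval b P ∈ _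
    replace hs : Ideal.Quotient.mk (maximalIdeal S) (aeval b P) = 0 := Ideal.Quotient.eq_zero_iff_mem.2 hs
    rw [hev, ← minpoly.dvd_iff, ← hmin] at hs
    obtain ⟨q, hq⟩ := hs
    obtain ⟨q₀, rfl⟩ := Polynomial.map_surjective _ Ideal.Quotient.mk_surjective q
    have hcoef : P - F₀ * q₀ ∈ (maximalIdeal R).map (C : R →+* R[X]) := by
      rw [Ideal.mem_map_C_iff]
      intro i
      rw [← Ideal.Quotient.eq_zero_iff_mem, ← coeff_map, Polynomial.map_sub, Polynomial.map_mul,
        ← hFb, ← hq, sub_self, coeff_zero]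
    have h0 : aeval b F₀ = 0 := by
      rw [aeval_def, ← eval_map, hF₀, MulSemiringAction.eval_charpoly]
    have := Ideal.mem_map_of_mem (aeval b : R[X] →ₐ[R] S).toRingHom hcoef
    rw [Ideal.map_map] at this
    have hC : (aeval b : R[X] →ₐ[R] S).toRingHom.comp C = algebraMap R S :=
      RingHom.ext fun r ↦ aeval_C _ _
    rw [hC] at this
    simpa [h0] using this
  · haveI := IntermediateField.adjoin.finiteDimensional hxi
    rw [hgen] at this
    exact Module.Finite.equiv IntermediateField.topEquiv.toLinearEquiv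
  · haveI := (IntermediateField.isSeparable_adjoin_simple_iff_isSeparable _ _).2 hsep
    rw [hgen] at this
    exact AlgEquiv.Algebra.isSeparable IntermediateField.topEquiv

/-- Unramified at the closed point: trivial inertia. -/
theorem inertia_eq_bot_of_unramified [IsDomain S] [Module.Finite R S] [SMulCommClass G R S]
    [FaithfulSMul G S] (hmap : (maximalIdeal R).map (algebraMap R S) = maximalIdeal S)
    [Module.Finite (R ⧸ maximalIdeal R) (S ⧸ maximalIdeal S)]
    [Algebra.IsSeparable (R ⧸ maximalIdeal R) (S ⧸ maximalIdeal S)] :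
    (maximalIdeal S).toAddSubgroup.inertia G = ⊥ := by
  classical
  letI : Field (R ⧸ maximalIdeal R) := Ideal.Quotient.field _
  letI : Field (S ⧸ maximalIdeal S) := Ideal.Quotient.field _
  obtain ⟨xb, hxb⟩ := Field.exists_primitive_element (R ⧸ maximalIdeal R) (S ⧸ maximalIdeal S)
  obtain ⟨b, rfl⟩ := Ideal.Quotient.mk_surjective xb
  set xb := Ideal.Quotient.mk (maximalIdeal S) b
  have hxi : IsIntegral (R ⧸ maximalIdeal R) xb := IsIntegral.of_finite _ _
  have hgen : Algebra.adjoin (R ⧸ maximalIdeal R) {xb} = ⊤ := by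
    rw [← IntermediateField.adjoin_simple_toSubalgebra_of_isAlgebraic hxi.isAlgebraic, hxb,
      IntermediateField.top_toSubalgebra]
  obtain ⟨h, hh, -, hhm⟩ := lifts_and_degree_eq_and_monic (f := Ideal.Quotient.mk (maximalIdeal R))
    (Polynomial.map_surjective _ Ideal.Quotient.mk_surjective (minpoly _ xb)) (minpoly.monic hxi)
  have hcomp : (algebraMap (R ⧸ maximalIdeal R) (S ⧸ maximalIdeal S)).comp
      (Ideal.Quotient.mk (maximalIdeal R)) = (Ideal.Quotient.mk (maximalIdeal S)).comp (algebraMap R S) :=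
    RingHom.ext fun r ↦ rfl
  have hev : ∀ P : R[X], Ideal.Quotient.mk (maximalIdeal S) (aeval b P) =
      aeval xb (P.map (Ideal.Quotient.mk (maximalIdeal R))) := fun P ↦ by
    rw [aeval_def, aeval_def, hom_eval₂, eval₂_map, hcomp]
  have hadj : Algebra.adjoin R {b} = ⊤ := by
    refine eq_top_iff.2 (Submodule.le_of_le_smul_of_le_jacobson_bot (I := maximalIdeal R)
      (N := Subalgebra.toSubmodule (Algebra.adjoin R {b})) Module.Finite.fg_top
      (maximalIdeal_le_jacobson ⊥) ?_ : (⊤ : Submodule R S) ≤ _)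
    intro s _
    have : Ideal.Quotient.mk (maximalIdeal S) s ∈ Algebra.adjoin (R ⧸ maximalIdeal R) {xb} :=
      hgen ▸ Algebra.mem_top
    rw [Algebra.adjoin_singleton_eq_range_aeval] at this
    obtain ⟨q, hq⟩ := this
    obtain ⟨P, rfl⟩ := Polynomial.map_surjective _ Ideal.Quotient.mk_surjective q
    change aeval xb _ = _ at hq
    rw [← hev, Ideal.Quotient.eq, ← hmap, ← Submodule.restrictScalars_mem R,
      ← Ideal.smul_top_eq_map] at hq
    rw [show s = aeval b P - (aeval b P - s) by ring]
    exact sub_mem (Submodule.mem_sup_left (aeval_mem_adjoin_singleton R b)) (Submodule.mem_sup_right hq)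
  rw [Subgroup.eq_bot_iff_forall]
  intro σ hσ
  set d := σ • b - b with hd
  have hdn : d ∈ maximalIdeal S := hσ b
  have hev2 : ∀ P : R[X], σ • aeval b P = aeval (σ • b) P := fun P ↦
    (Polynomial.aeval_algHom_apply (MulSemiringAction.toAlgHom R S σ) b P).symm
  have hmul : ∀ s : S, σ • s - s ∈ Ideal.span {d} := by
    intro s
    have : s ∈ Algebra.adjoin R {b} := hadj ▸ Algebra.mem_top
    rw [Algebra.adjoin_singleton_eq_range_aeval] at this
    obtain ⟨P, rfl⟩ := this
    change σ • aeval b P - aeval b P ∈ _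
    rw [hev2, Ideal.mem_span_singleton, aeval_def, aeval_def, ← eval_map, ← eval_map]
    exact sub_dvd_eval_sub _ _ _
  have hn : ∀ s ∈ maximalIdeal S, σ • s - s ∈ maximalIdeal S * Ideal.span {d} := by
    intro s hs
    rw [← hmap, Ideal.map] at hs
    induction hs using Submodule.span_induction with
    | mem x hx =>
      obtain ⟨r, -, rfl⟩ := hx
      rw [smul_algebraMap, sub_self]; exact zero_mem _
    | zero => rw [smul_zero, sub_self]; exact zero_mem _
    | add x y _ _ hx hy => rw [smul_add, add_sub_add_comm]; exact add_mem hx hy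
    | smul c x hxm hx =>
      rw [smul_eq_mul, smul_mul',
        show σ • c * σ • x - c * x = σ • c * (σ • x - x) + x * (σ • c - c) by ring]
      refine add_mem (Ideal.mul_mem_left _ _ hx) (Ideal.mul_mem_mul ?_ (hmul c))
      rw [← hmap, Ideal.map]; exact hxm
  have hd0 : d = 0 := by
    by_contra hne
    obtain ⟨e, he⟩ := exists_mul_sq_add_linear_part_eq_eval_add (h.map (algebraMap R S)) b d
    rw [derivative_map, eval_map, eval_map, eval_map, ← aeval_def, ← aeval_def, ← aeval_def] at he
    have hb : aeval b h ∈ maximalIdeal S := by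
      rw [← Ideal.Quotient.eq_zero_iff_mem, hev, hh, minpoly.aeval]
    have h1 := hn _ hb
    rw [hev2, show σ • b = b + d by rw [hd]; ring] at h1
    obtain ⟨z, hz, hz'⟩ := Ideal.mem_mul_span_singleton.1 h1
    have h2 : d * (e * d + aeval b h.derivative) = d * z := by
      linear_combination he - hz'
    have h3 : aeval b h.derivative = z - e * d := by linear_combination mul_left_cancel₀ hne h2
    have h4 : Ideal.Quotient.mk (maximalIdeal S) (aeval b h.derivative) = 0 := by
      rw [h3, Ideal.Quotient.eq_zero_iff_mem]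
      exact sub_mem hz (Ideal.mul_mem_left _ _ hdn)
    rw [hev, ← derivative_map, hh] at h4
    exact (Algebra.IsSeparable.isSeparable (R ⧸ maximalIdeal R) xb).aeval_derivative_ne_zero
      (minpoly.aeval _ _) h4
  refine eq_of_smul_eq_smul fun s : S ↦ ?_
  have := hmul s
  rw [hd0, Ideal.span_singleton_zero, Ideal.mem_bot, sub_eq_zero] at this
  rw [this, one_smul]

end Groth.Agent.EtRamLib.TrivialInertia
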